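import Mathlib
import Cfsg.Agent.Lib.Fus.PSLTwo
import Cfsg.Agent.Lib.Classical.SLGroup
import Cfsg.Agent.Lib.Classical.SLNormal
import Cfsg.Agent.Lib.Block.SL2Char.PSLDegrees

/-!
# Facts on `PSL₂(q)`, `q ≥ 5` odd, for the Klein four case

The centraliser of an involution: its elements of odd order lie in a cyclic group `T` of order `(q ∓ 1) / 2`
inverted by every other commuting involution.  A nontrivial irreducible character has degree at least
`(q - 1) / 2`.
-/

set_option autoImplicit false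
set_option linter.unusedSectionVars false
set_option linter.style.haveILetI false

open scoped Classical

namespace Cfsg.Agent.Invol.GW.Klein.PSL

open Matrix Subgroup

variable {F : Type*} [Field F] [Fintype F]

local notation "SS" => Matrix.SpecialLinearGroup (Fin 2) F
local notation "PS" => Matrix.ProjectiveSpecialLinearGroup (Fin 2) F
local notation "π₂" => Classical.slToPSL 2 F
local notation "jbar" => Classical.slToPSL 2 F (Fus.PSLTwo.stdJ (F := F))

theorem isSimple (h5 : 5 ≤ Fintype.card F) : IsSimpleGroup PS := Classical.PSL_isSimple le_rfl fun _ => by omega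

theorem card_mul (hodd : Odd (Fintype.card F)) :
    2 * Nat.card PS = Fintype.card F * ((Fintype.card F - 1) * (Fintype.card F + 1)) := by
  have h := Classical.natCard_PSL_mul (F := F) 2 (by norm_num)
  rw [Fus.PSLTwo.natCard_SL_two, Nat.card_units, Nat.card_eq_fintype_card (α := F)] at h
  obtain ⟨k, hk⟩ := hodd
  rwa [Nat.gcd_eq_left ⟨k, by omega⟩] at h

theorem card_center (hodd : Odd (Fintype.card F)) : Nat.card (center SS) = 2 := by
  rw [Classical.natCard_center_SL, Nat.card_units, Nat.card_eq_fintype_card, show max 2 1 = 2 from rfl]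
  obtain ⟨k, hk⟩ := hodd
  exact Nat.gcd_eq_left ⟨k, by omega⟩

/-- Eight does not divide the order: `q` is `3` or `5` modulo `8`. -/
theorem mod_eight (hodd : Odd (Fintype.card F)) (h8 : ¬ 8 ∣ Nat.card PS) :
    Fintype.card F % 8 = 3 ∨ Fintype.card F % 8 = 5 := by
  obtain ⟨k, hk⟩ := hodd
  by_contra hne
  have hk4 : k % 4 = 0 ∨ k % 4 = 3 := by omega
  refine h8 ?_
  have h16 : 16 ∣ 2 * Nat.card PS := by
    rw [card_mul ⟨k, hk⟩, hk]
    rcases hk4 with h | h
    · obtain ⟨j, rfl⟩ : 4 ∣ k := Nat.dvd_of_mod_eq_zero h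
      exact ⟨(2 * (4 * j) + 1) * (j * (4 * j + 1)), by
        rw [Nat.add_sub_cancel]; ring⟩
    · obtain ⟨j, hj⟩ : 4 ∣ k + 1 := by omega
      exact ⟨(2 * k + 1) * (k * j), by
        rw [Nat.add_sub_cancel, show 2 * k + 1 + 1 = 2 * (4 * j) by omega]; ring⟩
  omega

theorem not_commute (h5 : 5 ≤ Fintype.card F) : ¬ ∀ a b : PS, a * b = b * a := by
  intro hab
  haveI := isSimple (F := F) h5
  haveI : IsMulCommutative PS := ⟨⟨hab⟩⟩
  have hodd2 : Nat.Prime (Nat.card PS) := by
    letI : CommGroup PS := { (inferInstance : Group PS) with mul_comm := hab }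
    exact IsSimpleGroup.prime_card
  have hd := Classical.natCard_PSL_mul (F := F) 2 (by norm_num)
  rw [Fus.PSLTwo.natCard_SL_two, Nat.card_units, Nat.card_eq_fintype_card (α := F)] at hd
  have hg : Nat.gcd 2 (Fintype.card F - 1) ≤ 2 := Nat.le_of_dvd (by norm_num) (Nat.gcd_dvd_left _ _)
  have hdvd : Fintype.card F ∣ Nat.gcd 2 (Fintype.card F - 1) * Nat.card PS := ⟨_, hd⟩
  have hle : Fintype.card F ≤ 2 * Nat.card PS :=
    (Nat.le_of_dvd (Nat.mul_pos (Nat.gcd_pos_of_pos_left _ two_pos) hodd2.pos) hdvd).trans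
      (Nat.mul_le_mul_right _ hg)
  have hbig : 2 * 24 ≤ Nat.gcd 2 (Fintype.card F - 1) * Nat.card PS := by
    rw [hd]
    exact Nat.mul_le_mul (by omega) (Nat.mul_le_mul (show 4 ≤ Fintype.card F - 1 by omega)
      (show 6 ≤ Fintype.card F + 1 by omega))
  -- a prime order with the factors `q - 1` and `q + 1`
  have h1 : (Fintype.card F + 1) ∣ Nat.gcd 2 (Fintype.card F - 1) * Nat.card PS :=
    ⟨Fintype.card F * (Fintype.card F - 1), by rw [hd]; ring⟩
  have h2 : Fintype.card F + 1 ∣ 2 * Nat.card PS := h1.trans (Nat.mul_dvd_mul_right (Nat.gcd_dvd_left _ _) _)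
  have h3 : Fintype.card F ∣ 2 * Nat.card PS := hdvd.trans (Nat.mul_dvd_mul_right (Nat.gcd_dvd_left _ _) _)
  have key : ∀ d : ℕ, 5 ≤ d → d ∣ 2 * Nat.card PS → d = Nat.card PS ∨ d = 2 * Nat.card PS := by
    intro d hd5 hdd
    obtain ⟨a, b, ha, hb, rfl⟩ := exists_dvd_and_dvd_of_dvd_mul hdd
    have hb' := (Nat.dvd_prime hodd2).1 hb
    have ha' := (Nat.dvd_prime Nat.prime_two).1 ha
    rcases ha' with rfl | rfl <;> rcases hb' with rfl | hb' <;> omega
  have hq1 := key _ (by omega) h2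
  have hq2 := key _ h5 h3
  omega

theorem perfect (h5 : 5 ≤ Fintype.card F) : commutator PS = ⊤ := by
  haveI := isSimple (F := F) h5
  rcases (inferInstance : (commutator PS).Normal).eq_bot_or_eq_top with h | h
  · exfalso
    refine not_commute (F := F) h5 fun a b => ?_
    have h1 := commutator_mem_commutator (mem_top a) (mem_top b)
    rw [← _root_.commutator_def, h, mem_bot] at h1
    exact commutatorElement_eq_one_iff_mul_comm.1 h1
  · exact h

theorem not_isSolvable (h5 : 5 ≤ Fintype.card F) : ¬ Group.IsSolvable PS := fun hs => by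
  haveI := isSimple (F := F) h5
  haveI : Nontrivial PS := IsSimpleGroup.toNontrivial
  haveI := hs
  exact (Group.IsSolvable.commutator_lt_top_of_nontrivial (G := PS)).ne (perfect h5)

/-! ## The centraliser of the standard involution -/

theorem cases_of_commute {A : SS} (h : Commute (π₂ A) jbar) :
    A ∈ Fus.PSLTwo.torus F ∨ ((A : Matrix (Fin 2) (Fin 2) F) 1 1 = -(A : Matrix (Fin 2) (Fin 2) F) 0 0 ∧
      (A : Matrix (Fin 2) (Fin 2) F) 0 1 = (A : Matrix (Fin 2) (Fin 2) F) 1 0) := by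
  have h1 : π₂ ((A * Fus.PSLTwo.stdJ)⁻¹ * (Fus.PSLTwo.stdJ * A)) = 1 := by
    rw [map_mul, map_inv, map_mul, map_mul, h.eq, inv_mul_cancel]
  obtain ⟨c, hc⟩ := (Classical.slToPSL_eq_one_iff _).1 h1
  have hdet := ((A * Fus.PSLTwo.stdJ)⁻¹ * (Fus.PSLTwo.stdJ * A)).2
  rw [hc] at hdet
  simp at hdet
  have hmul : ((Fus.PSLTwo.stdJ * A : SS) : Matrix (Fin 2) (Fin 2) F) =
      ((A * Fus.PSLTwo.stdJ : SS) : Matrix (Fin 2) (Fin 2) F) * Matrix.scalar (Fin 2) c := by
    rw [← hc, ← Matrix.SpecialLinearGroup.coe_mul, mul_inv_cancel_left]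
  have h00 := congrFun (congrFun hmul 0) 0
  have h01 := congrFun (congrFun hmul 0) 1
  simp [Fus.PSLTwo.stdJ, Matrix.mul_apply, Fin.sum_univ_two] at h00 h01
  rcases hdet with rfl | rfl
  · exact Or.inl ⟨by linear_combination h01, by linear_combination -h00⟩
  · exact Or.inr ⟨by linear_combination h01, by linear_combination h00⟩

theorem flip_sq {A : SS} (h1 : (A : Matrix (Fin 2) (Fin 2) F) 1 1 = -(A : Matrix (Fin 2) (Fin 2) F) 0 0)
    (h2 : (A : Matrix (Fin 2) (Fin 2) F) 0 1 = (A : Matrix (Fin 2) (Fin 2) F) 1 0) :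
    π₂ A * π₂ A = 1 := by
  rw [← map_mul, Classical.slToPSL_eq_one_iff]
  refine ⟨(A : Matrix (Fin 2) (Fin 2) F) 0 0 * (A : Matrix (Fin 2) (Fin 2) F) 0 0 +
    (A : Matrix (Fin 2) (Fin 2) F) 1 0 * (A : Matrix (Fin 2) (Fin 2) F) 1 0, ?_⟩
  ext i j
  fin_cases i <;> fin_cases j <;> simp [Matrix.mul_apply, Fin.sum_univ_two, h1, h2] <;> ring

theorem flip_inverts {B : SS} (h1 : (B : Matrix (Fin 2) (Fin 2) F) 1 1 = -(B : Matrix (Fin 2) (Fin 2) F) 0 0)
    (h2 : (B : Matrix (Fin 2) (Fin 2) F) 0 1 = (B : Matrix (Fin 2) (Fin 2) F) 1 0)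
    {A : SS} (hA : A ∈ Fus.PSLTwo.torus F) : B * A * B⁻¹ = A⁻¹ := by
  rw [mul_inv_eq_iff_eq_mul]
  apply Subtype.ext
  ext i j
  fin_cases i <;> fin_cases j <;>
    simp [Matrix.SpecialLinearGroup.coe_inv, Matrix.mul_apply, hA.1, hA.2, h1, h2, adjugate_fin_two] <;> ring

theorem stdJ_mem_torus : Fus.PSLTwo.stdJ (F := F) ∈ Fus.PSLTwo.torus F := by
  constructor <;> simp [Fus.PSLTwo.stdJ]

theorem commute_stdJ {A : SS} (hA : A ∈ Fus.PSLTwo.torus F) : Commute A Fus.PSLTwo.stdJ := by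
  apply Subtype.ext
  ext i j
  fin_cases i <;> fin_cases j <;> simp [Fus.PSLTwo.stdJ, Matrix.mul_apply, hA.1, hA.2]

theorem eq_of_invol_mem_torus (hodd : Odd (Fintype.card F)) {A : SS} (hA : A ∈ Fus.PSLTwo.torus F)
    (h2 : orderOf (π₂ A) = 2) : π₂ A = jbar := by
  have h1 : π₂ (A * A) = 1 := by
    have h := pow_orderOf_eq_one (π₂ A)
    rw [h2, pow_two] at h
    rw [map_mul, h]
  obtain ⟨c, hc⟩ := (Classical.slToPSL_eq_one_iff _).1 h1
  have h01 := congrFun (congrFun hc 0) 1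
  simp [Matrix.mul_apply, Fin.sum_univ_two, hA.1, hA.2] at h01
  have hd := Fus.PSLTwo.torus_det hA
  have hb : (A : Matrix (Fin 2) (Fin 2) F) 1 0 * (A : Matrix (Fin 2) (Fin 2) F) 0 0 = 0 := by
    have : (2 : F) * ((A : Matrix (Fin 2) (Fin 2) F) 1 0 * (A : Matrix (Fin 2) (Fin 2) F) 0 0) = 0 := by
      linear_combination -h01
    exact (mul_eq_zero.1 this).resolve_left (Fus.PSLTwo.two_ne_zero_of_odd (Nat.odd_iff.1 hodd))
  rcases mul_eq_zero.1 hb with hb | hb
  · have : π₂ A = 1 := (Classical.slToPSL_eq_one_iff _).2 ⟨(A : Matrix (Fin 2) (Fin 2) F) 0 0, by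
      ext i j
      fin_cases i <;> fin_cases j <;> simp [hA.1, hA.2, hb]⟩
    rw [this, orderOf_one] at h2
    omega
  · rw [← inv_mul_eq_one, ← map_inv, ← map_mul, Classical.slToPSL_eq_one_iff]
    refine ⟨(A : Matrix (Fin 2) (Fin 2) F) 1 0, ?_⟩
    ext i j
    fin_cases i <;> fin_cases j <;>
      simp [Fus.PSLTwo.stdJ, Matrix.mul_apply, Fin.sum_univ_two, adjugate_fin_two, hA.1, hA.2, hb]

/-- The odd elements centralising an involution: in a cyclic group inverted by the other commuting involutions. -/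
theorem exists_torus (hodd : Odd (Fintype.card F)) {t : PS} (ht : orderOf t = 2) :
    ∃ T : Subgroup PS, IsCyclic ↥T ∧ (∀ x ∈ T, Commute x t) ∧
      (∀ x : PS, Odd (orderOf x) → Commute x t → x ∈ T) ∧
      (∀ s : PS, orderOf s = 2 → Commute s t → s ≠ t → ∀ x ∈ T, s * x * s⁻¹ = x⁻¹) ∧
      (Fintype.card F % 4 = 1 → 2 * Nat.card ↥T + 1 = Fintype.card F) ∧
      (Fintype.card F % 4 = 3 → 2 * Nat.card ↥T = Fintype.card F + 1) := by
  have hodd' := Nat.odd_iff.1 hodd
  set T₀ : Subgroup PS := (Fus.PSLTwo.torus F).map π₂ with hT₀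
  have hc₀ : ∀ x ∈ T₀, Commute x jbar := by
    rintro _ ⟨A, hA, rfl⟩
    exact (commute_stdJ hA).map π₂
  have hm₀ : ∀ x : PS, Odd (orderOf x) → Commute x jbar → x ∈ T₀ := by
    intro x ho hx
    obtain ⟨A, rfl⟩ := Classical.slToPSL_surjective x
    rcases cases_of_commute hx with h | ⟨h1, h2⟩
    · exact ⟨A, h, rfl⟩
    · have h3 : orderOf (π₂ A) ∣ 2 := orderOf_dvd_of_pow_eq_one (by rw [pow_two]; exact flip_sq h1 h2)
      rcases (Nat.dvd_prime Nat.prime_two).1 h3 with e | e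
      · rw [orderOf_eq_one_iff.1 e]
        exact one_mem _
      · rw [e] at ho
        exact absurd ho (by decide)
  have hi₀ : ∀ s : PS, orderOf s = 2 → Commute s jbar → s ≠ jbar → ∀ x ∈ T₀, s * x * s⁻¹ = x⁻¹ := by
    intro s hs hc hne x hx
    obtain ⟨B, rfl⟩ := Classical.slToPSL_surjective s
    obtain ⟨A, hA, rfl⟩ := hx
    rcases cases_of_commute hc with h | ⟨h1, h2⟩
    · exact absurd (eq_of_invol_mem_torus hodd h hs) hne
    · rw [← map_inv, ← map_inv, ← map_mul, ← map_mul, flip_inverts h1 h2 hA]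
  have hcard : Nat.card ↥(Fus.PSLTwo.torus F) = 2 * Nat.card ↥T₀ := by
    set g : ↥(Fus.PSLTwo.torus F) →* PS := (Classical.slToPSL 2 F).comp (Fus.PSLTwo.torus F).subtype with hg
    have hrange : g.range = T₀ := by
      rw [hg, MonoidHom.range_comp, Subgroup.range_subtype]
    have hker : g.ker = (center SS).subgroupOf (Fus.PSLTwo.torus F) := by
      ext x
      rw [MonoidHom.mem_ker, hg, MonoidHom.comp_apply, mem_subgroupOf]
      exact QuotientGroup.eq_one_iff _
    have hle : center SS ≤ Fus.PSLTwo.torus F := by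
      intro A hA
      obtain ⟨c, hc⟩ := (Classical.slMem_center_iff A).1 hA
      constructor <;> simp [hc]
    rw [g.ker.card_eq_card_quotient_mul_card_subgroup,
      Nat.card_congr (QuotientGroup.quotientKerEquivRange g).toEquiv, hrange, hker,
      Nat.card_congr (subgroupOfEquivOfLe hle).toEquiv, card_center hodd, mul_comm]
  haveI := Fus.PSLTwo.isCyclic_torus (F := F) hodd'
  have hcyc : IsCyclic ↥T₀ := isCyclic_of_surjective ((Classical.slToPSL 2 F).subgroupMap (Fus.PSLTwo.torus F))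
    (MonoidHom.subgroupMap_surjective _ _)
  have hJ : orderOf jbar = 2 := by
    refine orderOf_eq_prime ?_ ?_
    · rw [pow_two, ← map_mul, Classical.slToPSL_eq_one_iff]
      exact ⟨-1, by ext i j; fin_cases i <;> fin_cases j <;> simp [Fus.PSLTwo.stdJ, Matrix.mul_apply]⟩
    · intro e
      obtain ⟨c, hc⟩ := (Classical.slToPSL_eq_one_iff _).1 e
      have := congrFun (congrFun hc 1) 0
      simp [Fus.PSLTwo.stdJ] at this
  obtain ⟨g, hg⟩ := isConj_iff.1 (Fus.PSLTwo.involutions_conj hodd' hJ ht)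
  set e : PS ≃* PS := MulAut.conj g with he
  have het : e jbar = t := hg
  have hest : e.symm t = jbar := by rw [← het, e.symm_apply_apply]
  refine ⟨T₀.map e.toMonoidHom, isCyclic_of_surjective (e.toMonoidHom.subgroupMap T₀)
    (MonoidHom.subgroupMap_surjective _ _), ?_, ?_, ?_, ?_⟩
  · rintro _ ⟨x, hx, rfl⟩
    rw [← het]
    exact (hc₀ x hx).map e.toMonoidHom
  · intro x ho hx
    refine ⟨e.symm x, hm₀ _ (by rwa [MulEquiv.orderOf_eq]) ?_, e.apply_symm_apply x⟩
    rw [← hest]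
    exact hx.map e.symm.toMonoidHom
  · rintro s hs hc hne _ ⟨x, hx, rfl⟩
    have h := congrArg e.toMonoidHom (hi₀ (e.symm s) (by rwa [MulEquiv.orderOf_eq])
      (by rw [← hest]; exact hc.map e.symm.toMonoidHom) (fun h => hne (by rw [← het, ← h, e.apply_symm_apply]))
      x hx)
    simpa using h
  · rw [card_map_of_injective e.injective]
    obtain ⟨h1, h3⟩ := Fus.PSLTwo.natCard_torus (F := F) hodd'
    constructor
    · intro h4
      have := h1 h4
      omega
    · intro h4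
      have := h3 h4
      omega

/-! ## Degrees -/

/-- A nontrivial irreducible character of `PSL₂(q)` has degree at least `(q - 1) / 2`. -/
theorem degree_ge (h5 : 5 ≤ Fintype.card F) {χ : PS → ℂ} (hχ : IsIrrCharacter PS χ)
    (hne : χ ≠ fun _ => 1) : ∃ n : ℕ, χ 1 = n ∧ Fintype.card F ≤ 2 * n + 1 := by
  obtain ⟨n, hn, hd⟩ := Block.SL2Char.okDeg_PS hχ
  refine ⟨n, hn, ?_⟩
  rcases hd with h | h | h | h | ⟨h, -⟩ | ⟨h, -⟩
  · exfalso
    rw [h, Nat.cast_one] at hn
    obtain ⟨l, rfl⟩ := Char.linearHom_of_isCharacter (Char.IsIrr.isCharacter hχ) hn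
    have hle : commutator PS ≤ l.ker := Abelianization.commutator_subset_ker l
    rw [perfect h5] at hle
    refine hne (funext fun g => ?_)
    rw [show l g = 1 from hle (mem_top g), Units.val_one]
  all_goals omega

/-- The same bound for a group isomorphic to `PSL₂(q)`. -/
theorem degree_ge_of_equiv (h5 : 5 ≤ Fintype.card F) {E : Type*} [Group E] (e : E ≃* PS) {χ : E → ℂ}
    (hχ : IsIrrCharacter E χ) (hne : χ ≠ fun _ => 1) :
    ∃ n : ℕ, χ 1 = n ∧ Fintype.card F ≤ 2 * n + 1 := by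
  haveI : Finite E := Finite.of_equiv _ e.symm.toEquiv
  obtain ⟨n, hn, h⟩ := degree_ge h5 (χ := fun x => χ (e.symm x))
    (Char.IsIrr.comp_surjective e.symm.toMonoidHom e.symm.surjective hχ)
    (fun h => hne (funext fun g => by simpa using congrFun h (e g)))
  exact ⟨n, by rw [← hn, map_one], h⟩

end Cfsg.Agent.Invol.GW.Klein.PSL
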