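import Cfsg.Agent.Lib.Invol.GW.Klein.Sylow
import Cfsg.Agent.Lib.Grp.Basic

/-!
# Gorenstein–Walter, Klein four: centralisers of elements of `R`

With `Z = O_l(U) ⊓ R` nontrivial the core of `C(z)`, `z ∈ Z`, is centralised by `V`, so lies in `R`.
-/

set_option autoImplicit false
set_option linter.unusedSectionVars false

namespace Cfsg.Agent.Invol.GW.Klein

open Subgroup
open scoped Pointwise commutatorElement

universe u

variable {G : Type u} [Group G] [Finite G]

/-- The join of a soluble subgroup with one normalising it is soluble. -/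
theorem isSolvable_sup {A B : Subgroup G} (hn : B ≤ normalizer (A : Set G)) (hA : Group.IsSolvable ↥A)
    (hB : Group.IsSolvable ↥B) : Group.IsSolvable ↥(A ⊔ B) := by
  haveI : (A.subgroupOf (A ⊔ B)).Normal :=
    normal_subgroupOf_of_le_normalizer (sup_le le_normalizer hn)
  haveI : Group.IsSolvable ↥(A.subgroupOf (A ⊔ B)) :=
    Grp.isSolvable_of_injective ((subgroupOfEquivOfLe (le_sup_left : A ≤ A ⊔ B)).toMonoidHom)
      (subgroupOfEquivOfLe (le_sup_left : A ≤ A ⊔ B)).injective hA
  let f : ↥B →* ↥(A ⊔ B) ⧸ A.subgroupOf (A ⊔ B) :=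
    (QuotientGroup.mk' _).comp (Subgroup.inclusion le_sup_right)
  haveI : Group.IsSolvable (↥(A ⊔ B) ⧸ A.subgroupOf (A ⊔ B)) := by
    refine Group.isSolvable_of_surjective (f := f) fun q => ?_
    induction q using QuotientGroup.induction_on with
    | H w =>
      obtain ⟨a, ha, b, hb, hab⟩ := exists_mul_of_sup hn w.2
      refine ⟨⟨b, hb⟩, (QuotientGroup.eq (s := A.subgroupOf (A ⊔ B))).2 (mem_subgroupOf.2 ?_)⟩
      show b⁻¹ * (w : G) ∈ A
      rw [← hab]
      simpa [mul_assoc] using (mem_normalizer_iff.1 (hn (inv_mem hb)) a).1 ha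
  exact Group.isSolvable_of_ker_le_range (A.subgroupOf (A ⊔ B)).subtype
    (QuotientGroup.mk' (A.subgroupOf (A ⊔ B))) (by rw [QuotientGroup.ker_mk', Subgroup.range_subtype])

/-- Two disjoint subgroups normalised by each other's elements commute. -/
theorem commute_of_disjoint {A B : Subgroup G} (hd : A ⊓ B = ⊥) {x y : G} (hx : x ∈ A) (hy : y ∈ B)
    (hxB : x ∈ normalizer (B : Set G)) (hyA : y ∈ normalizer (A : Set G)) : Commute x y := by
  have h1 : x * y * x⁻¹ * y⁻¹ ∈ A ⊓ B := by
    refine Subgroup.mem_inf.2 ⟨?_, mul_mem ((mem_normalizer_iff.1 hxB y).1 hy) (inv_mem hy)⟩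
    rw [show x * y * x⁻¹ * y⁻¹ = x * (y * x⁻¹ * y⁻¹) by group]
    exact mul_mem hx ((mem_normalizer_iff.1 hyA _).1 (inv_mem hx))
  rw [hd, mem_bot, mul_inv_eq_one, mul_inv_eq_iff_eq_mul] at h1
  exact h1

/-- Subgroups of coprime prime power orders meet trivially. -/
theorem inf_eq_bot_of_primes {p q : ℕ} [Fact p.Prime] [Fact q.Prime] (hne : p ≠ q) {A B : Subgroup G}
    (hA : IsPGroup p A) (hB : IsPGroup q B) : A ⊓ B = ⊥ := by
  obtain ⟨i, hi⟩ := IsPGroup.iff_card.1 hA
  obtain ⟨j, hj⟩ := IsPGroup.iff_card.1 hB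
  refine Grp.inf_eq_bot_of_coprime ?_
  rw [hi, hj]
  exact ((Nat.coprime_primes (Fact.out : p.Prime) (Fact.out : q.Prime)).2 hne).pow i j

/-- The condition excluded by the blocks: no proper subgroup of `R` above its derived group, normalised by
`N(V)`, contains `[U, u] ⊓ R`. -/
def NoLinear (V : Sylow 2 G) (t u : G) : Prop :=
  ∀ K : Subgroup G, K ≤ fixR t u → K ≠ fixR t u → ⁅fixR t u, fixR t u⁆ ≤ K →
    normalizer ((V : Subgroup G) : Set G) ≤ normalizer (K : Set G) →
    ⁅coreCent t, zpowers u⁆ ⊓ fixR t u ≤ K → False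

/-- A proper subgroup of a `p`-group does not contain its normaliser in it. -/
theorem not_inf_normalizer_le {p : ℕ} [Fact p.Prime] {P Q : Subgroup G} (hQ : IsPGroup p Q) (hlt : P < Q) :
    ¬ Q ⊓ normalizer (P : Set G) ≤ P := by
  intro hle
  have hnc := @Group.normalizerCondition_of_isNilpotent ↥Q _ hQ.isNilpotent
  obtain ⟨x, hx, hxP⟩ := Set.exists_of_ssubset (hnc (P.subgroupOf Q)
    (lt_top_iff_ne_top.mpr fun e => hlt.not_ge (Subgroup.subgroupOf_eq_top.mp e)))
  have hxn : (x : G) ∈ normalizer (P : Set G) := mem_normalizer_fintype fun y hy =>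
    mem_subgroupOf.1 ((mem_normalizer_iff.1 hx ⟨y, hlt.le hy⟩).1 (mem_subgroupOf.2 hy))
  exact hxP (mem_subgroupOf.2 (hle ⟨x.2, hxn⟩))

namespace Hyp

variable {V : Sylow 2 G} {t u : G} (h : Hyp V t u)
include h

theorem isSolvable_centralizer : Group.IsSolvable ↥(centralizer ({t} : Set G)) := by
  rw [h.centralizer_eq_sup]
  haveI := h.klein
  exact isSolvable_sup h.V_le_normalizer_coreCent h.isSolvable_coreCent
    (have := V.isPGroup'.isNilpotent; inferInstance)

/-- If `u` centralises a Sylow `l`-subgroup of `U`, the commutator `[U, u]` is of order prime to `l`. -/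
theorem commutator_coprime {l : ℕ} [Fact l.Prime] (hl : Odd l) {Q : Subgroup G}
    (hQ : Grp.IsSylowIn l Q (coreCent t)) (hQu : ∀ y ∈ Q, Commute y u) :
    (Nat.card ↥⁅coreCent t, zpowers u⁆).Coprime l := by
  set C := centralizer ({t} : Set G) with hCdef
  haveI := h.isSolvable_centralizer
  have hindex : Nat.card ↥C ∣ 4 * Nat.card ↥(coreCent t) := by
    rw [hCdef, h.centralizer_eq_sup, ← h.card_V, sup_comm, mul_comm]
    have := Grp.card_sup_dvd_mul h.V_le_normalizer_coreCent
    simpa [mul_comm] using this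
  have hQC : Q ≤ C := hQ.1.trans h.coreCent_le
  have hQ' : Grp.IsSylowIn l Q C := by
    refine ⟨hQC, hQ.2.1, fun hdvd => hQ.2.2 ?_⟩
    have h1 : Q.relIndex C * Nat.card ↥Q = Nat.card ↥C := by
      rw [← Subgroup.relIndex_bot_left (H := Q), mul_comm,
        Subgroup.relIndex_mul_relIndex _ _ _ bot_le hQC, Subgroup.relIndex_bot_left]
    have h2 : Q.relIndex (coreCent t) * Nat.card ↥Q = Nat.card ↥(coreCent t) := by
      rw [← Subgroup.relIndex_bot_left (H := Q), mul_comm,
        Subgroup.relIndex_mul_relIndex _ _ _ bot_le hQ.1, Subgroup.relIndex_bot_left]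
    have h3 : l ∣ 4 * Q.relIndex (coreCent t) := hdvd.trans (by
      refine Nat.dvd_of_mul_dvd_mul_right (Nat.card_pos (α := ↥Q)) ?_
      rw [mul_assoc, h1, h2]
      exact hindex)
    refine (Nat.Coprime.dvd_of_dvd_mul_left ?_ h3)
    rw [show (4 : ℕ) = 2 ^ 2 from rfl]
    exact (Nat.coprime_two_right.2 hl).pow_right 2
  obtain ⟨P, hP⟩ := Grp.isSylowIn_iff.1 hQ'
  have huC : u ∈ C := h.le_centralizer h.hu
  have hu' : (⟨u, huC⟩ : ↥C) ∈ Cfsg.pPrimeCore l ↥C := by
    refine mem_pPrimeCore_of_centralizes P (fun y hy => Subtype.ext (hQu _ ?_).eq.symm) ?_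
    · rw [← hP]; exact ⟨y, hy, rfl⟩
    · rw [Subgroup.orderOf_mk, h.orderOf_eq h.hu h.hu1]
      exact Nat.coprime_two_left.2 hl
  haveI := Grp.pPrimeCore_isNormal (p := l) (G := ↥C)
  refine (Grp.pPrimeCore_coprime (p := l) (G := ↥C)).coprime_dvd_left ?_
  rw [← card_map_of_injective (f := C.subtype) C.subtype_injective (K := Cfsg.pPrimeCore l ↥C)]
  refine Subgroup.card_dvd_of_le (Subgroup.commutator_le.2 fun k hk w hw => ?_)
  have hw' : w ∈ (Cfsg.pPrimeCore l ↥C).map C.subtype := by
    obtain ⟨i, rfl⟩ := Subgroup.mem_zpowers_iff.1 hw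
    exact zpow_mem (mem_map_of_mem C.subtype hu') i
  obtain ⟨w', hw1, rfl⟩ := hw'
  refine ⟨⁅(⟨k, h.coreCent_le hk⟩ : ↥C), w'⁆, ?_, rfl⟩
  rw [commutatorElement_def]
  exact mul_mem ((inferInstance : (Cfsg.pPrimeCore l ↥C).Normal).conj_mem _ hw1 _) (inv_mem hw1)

theorem odd_of_dvd_coreCent {l : ℕ} (hl : l ∣ Nat.card ↥(coreCent t)) : Odd l :=
  Odd.of_dvd_nat h.odd_coreCent hl

/-- Under `NoLinear` the order of `[U, u] ⊓ R` is divisible by every prime divisor of `|R|`. -/
theorem false_of_coprime (hA : NoLinear V t u) {l : ℕ} [Fact l.Prime] (hlr : l ∣ Nat.card ↥(fixR t u))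
    (hcop : (Nat.card ↥(⁅coreCent t, zpowers u⁆ ⊓ fixR t u : Subgroup G)).Coprime l) : False := by
  set R := fixR t u with hR
  haveI := Grp.pPrimeCore_isNormal (p := l) (G := ↥R)
  haveI : (Cfsg.pPrimeCore l ↥R).Characteristic := by
    refine Subgroup.characteristic_iff_map_le.2 fun φ => ?_
    refine Grp.le_pPrimeCore ((Grp.pPrimeCore_isNormal (p := l) (G := ↥R)).map φ.toMonoidHom φ.surjective) ?_
    exact (Grp.pPrimeCore_coprime (p := l) (G := ↥R)).coprime_dvd_left (Subgroup.card_map_dvd _ _)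
  haveI : (_root_.commutator ↥R ⊔ Cfsg.pPrimeCore l ↥R).Characteristic :=
    Subgroup.characteristic_iff_map_le.2 fun φ => by
      rw [Subgroup.map_sup]
      exact sup_le_sup (Subgroup.characteristic_iff_map_le.1 inferInstance φ)
        (Subgroup.characteristic_iff_map_le.1 inferInstance φ)
  refine hA ((_root_.commutator ↥R ⊔ Cfsg.pPrimeCore l ↥R).map R.subtype) (map_subtype_le _) ?_ ?_
    (h.normalizer_le_normalizer_fixR.trans (Isolated.normalizer_le_map_char R _)) ?_
  · intro hK
    have htop : _root_.commutator ↥R ⊔ Cfsg.pPrimeCore l ↥R = ⊤ := by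
      refine Subgroup.map_injective R.subtype_injective ?_
      rw [hK, ← MonoidHom.range_eq_map, Subgroup.range_subtype]
    haveI : Group.IsSolvable ↥R := isSolvable_of_odd h.odd_fixR
    haveI : Group.IsSolvable (↥R ⧸ Cfsg.pPrimeCore l ↥R) :=
      Group.isSolvable_of_surjective (f := QuotientGroup.mk' _) (QuotientGroup.mk'_surjective _)
    rcases subsingleton_or_nontrivial (↥R ⧸ Cfsg.pPrimeCore l ↥R) with hs | hn
    · have : Cfsg.pPrimeCore l ↥R = ⊤ := eq_top_iff.2 fun x _ =>
        (QuotientGroup.eq_one_iff x).1 (hs.elim _ _)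
      have hnd := Grp.pPrimeCore_not_dvd (p := l) (G := ↥R)
      rw [this, Subgroup.card_top] at hnd
      exact hnd hlr
    · refine (Group.IsSolvable.commutator_lt_top_of_nontrivial (↥R ⧸ Cfsg.pPrimeCore l ↥R)).ne ?_
      have := congrArg (Subgroup.map (QuotientGroup.mk' (Cfsg.pPrimeCore l ↥R))) htop
      rw [Subgroup.map_sup, _root_.commutator_def, Subgroup.map_commutator,
        Subgroup.map_top_of_surjective _ (QuotientGroup.mk'_surjective _), QuotientGroup.map_mk'_self,
        sup_bot_eq] at this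
      rw [_root_.commutator_def]
      exact this
  · rw [Subgroup.map_sup]
    refine le_sup_of_le_left ?_
    rw [_root_.commutator_def, Subgroup.map_commutator, ← MonoidHom.range_eq_map, Subgroup.range_subtype]
  · rw [Subgroup.map_sup]
    refine le_sup_of_le_right ?_
    rw [← map_subgroupOf_eq_of_le (inf_le_right : ⁅coreCent t, zpowers u⁆ ⊓ R ≤ R)]
    refine map_mono (Grp.le_pPrimeCore (normal_subgroupOf_of_le_normalizer fun x hx => ?_) ?_)
    · rw [Grp.mem_normalizer_iff_smul, Subgroup.smul_inf,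
        Grp.mem_normalizer_iff_smul.1 (Grp.left_le_normalizer_commutator (zpowers u) (coreCent t) hx.1),
        Grp.conj_smul_eq_self_of_mem hx]
    · rw [Nat.card_congr (subgroupOfEquivOfLe (inf_le_right : ⁅coreCent t, zpowers u⁆ ⊓ R ≤ R)).toEquiv]
      exact hcop

/-- Under `NoLinear` an invariant Sylow subgroup of `U` at a prime dividing `|R|` is not inside `R`. -/
theorem not_le_fixR (hA : NoLinear V t u) {l : ℕ} [Fact l.Prime] (hlr : l ∣ Nat.card ↥(fixR t u))
    {Q : Subgroup G} (hQ : Grp.IsSylowIn l Q (coreCent t)) : ¬ Q ≤ fixR t u := fun hQR =>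
  h.false_of_coprime hA hlr ((h.commutator_coprime
    (h.odd_of_dvd_coreCent (hlr.trans (card_dvd_of_le inf_le_left))) hQ
    (fun y hy => (h.mem_fixR.1 (hQR hy)).2)).coprime_dvd_left (card_dvd_of_le inf_le_left))

variable (hC : IsCoatom (centralizer ({t} : Set G)))
include hC

/-- The normaliser of a Sylow `l`-subgroup of `R` is of linear kind when `O_l(U)` is nontrivial. -/
theorem normalizer_linearKind (hA : NoLinear V t u) {l : ℕ} [Fact l.Prime]
    (hlr : l ∣ Nat.card ↥(fixR t u)) (hY : opOf l (coreCent t) ≠ ⊥) {P : Subgroup G}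
    (hP : Grp.IsSylowIn l P (fixR t u)) :
    (V : Subgroup G) ≤ centralizer (P : Set G) ∧ LinearKind (normalizer (P : Set G)) := by
  have hVP : (V : Subgroup G) ≤ centralizer (P : Set G) := fun v hv =>
    mem_centralizer_iff.2 fun y hy => (h.commute_of_mem_fixR (hP.1 hy) hv).eq
  refine ⟨hVP, ?_⟩
  have hVN : (V : Subgroup G) ≤ normalizer (P : Set G) := hVP.trans (centralizer_le_normalizer _)
  obtain ⟨Q, hQ, hQV, hPQ⟩ := Grp.exists_invariant_sylow_ge (V : Subgroup G) (coreCent t)
    h.V_le_normalizer_coreCent (h.coprime_V h.odd_coreCent) (Or.inr h.isSolvable_coreCent)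
    (hP.1.trans inf_le_left) hP.2.1 hVN
  have hQR := h.not_le_fixR hA hlr hQ
  -- a fusing element of the normaliser
  obtain ⟨n, hnV, hnt, hnu⟩ := h.exists_h
  have hnR := h.normalizer_le_normalizer_fixR hnV
  obtain ⟨c, hc, hcP⟩ := (hP.smul (Grp.mem_normalizer_iff_smul.1 hnR)).conj hP
  have hcn : c * n ∈ normalizer (P : Set G) := by
    rw [Grp.mem_normalizer_iff_smul, ← Grp.conj_smul_conj_smul]
    exact hcP
  have hcnt : c * n * t * (c * n)⁻¹ = u := by
    rw [show c * n * t * (c * n)⁻¹ = c * (n * t * n⁻¹) * c⁻¹ by group, hnt,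
      (h.commute_of_mem_fixR hc h.hu).eq, mul_inv_cancel_right]
  have hth := h.not_threeClass hVN hcn hcnt
  have hP1 : P ≠ ⊥ := fun e => by
    have h1 := hP.card
    rw [e, Subgroup.card_bot] at h1
    have h2 : (Nat.card ↥(fixR t u)).factorization l = 0 := by
      by_contra h0
      exact absurd h1.symm (Nat.one_lt_pow h0 (Fact.out : l.Prime).one_lt).ne'
    exact absurd hlr (fun hd => by
      rcases (Nat.factorization_eq_zero_iff _ _).1 h2 with h3 | h3 | h3
      · exact h3 Fact.out
      · exact h3 hd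
      · exact Nat.card_pos.ne' h3)
  have hne : normalizer (P : Set G) ≠ ⊤ := fun htop => by
    haveI := h.simple
    haveI : P.Normal := normalizer_eq_top_iff.1 htop
    rcases (inferInstance : P.Normal).eq_bot_or_eq_top with e | e
    · exact hP1 e
    · exact h.centralizer_ne_top (top_le_iff.1 (e ▸ (hP.1.trans (inf_le_left.trans h.coreCent_le))))
  rcases h.known _ hne hVN with hk | hk | hk
  · exact absurd hk hth
  · exfalso
    have hlt : P < Q := lt_of_le_of_ne hPQ fun e => hQR (e ▸ hP.1)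
    refine not_inf_normalizer_le hQ.2.1 hlt ?_
    set T0 := Q ⊓ normalizer (P : Set G)
    have hT0V : (V : Subgroup G) ≤ normalizer (T0 : Set G) := fun v hv => by
      rw [Grp.mem_normalizer_iff_smul, Subgroup.smul_inf, Grp.mem_normalizer_iff_smul.1 (hQV hv),
        Grp.conj_smul_eq_self_of_mem (hVN hv)]
    have hT0O : T0 ≤ oddOf (normalizer (P : Set G)) :=
      (le_inf (inf_le_left.trans hQ.1) inf_le_right).trans (h.coreCent_inf_le_oddOf hVN hk hcn hcnt)
    obtain ⟨T, hT, hTV, hT0T⟩ := Grp.exists_invariant_sylow_ge (V : Subgroup G) _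
      (hVN.trans (le_normalizer_oddOf _)) (h.coprime_V (odd_card_oddOf _))
      (Or.inr (isSolvable_of_odd (odd_card_oddOf _))) hT0O (hQ.2.1.to_le inf_le_left) hT0V
    have hTR := hT0T.trans (h.sylow_core_le_fixR hC hY hQ hQV hQR hVN hth hT hTV)
    exact (hP.eq_of_le (le_inf hPQ le_normalizer) hTR (hQ.2.1.to_le inf_le_left)).ge
  · exact hk

/-- For `z` in `O_l(U) ⊓ R` whose centraliser fuses, the core of that centraliser is centralised by `V`. -/
theorem oddOf_centralizer_le {l : ℕ} [Fact l.Prime] {z : G} (hzY : z ∈ opOf l (coreCent t))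
    (hzR : z ∈ fixR t u) (hz1 : z ≠ 1) (hfuse : ¬ ThreeClass (V : Subgroup G) (centralizer ({z} : Set G))) :
    oddOf (centralizer ({z} : Set G)) ≤ fixR t u := by
  set H := centralizer ({z} : Set G) with hH
  set O := oddOf H with hO
  have hVH : (V : Subgroup G) ≤ H := fun v hv =>
    mem_centralizer_singleton_iff.2 (h.commute_of_mem_fixR hzR hv).symm.eq
  obtain ⟨n, ⟨hnH, -⟩, hnt, hnu⟩ := h.exists_fuse hVH hfuse
  have hVO : (V : Subgroup G) ≤ normalizer (O : Set G) := hVH.trans (le_normalizer_oddOf H)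
  have hOodd : Odd (Nat.card ↥O) := odd_card_oddOf H
  haveI := isSolvable_of_odd hOodd
  haveI := h.isSolvable_coreCent
  have hYl : opOf l (coreCent t) ≠ ⊥ := fun e => hz1 (by rwa [e, mem_bot] at hzY)
  suffices hc : ∀ p : ℕ, p.Prime → ∀ w ∈ opOf p O, Commute w t by
    refine h.le_fixR hOodd fun x hx v hv => ?_
    have hkey := le_centralizer_of_cores hVO (h.coprime_V hOodd) fun p hp w hw v hv => by
      have hwu : Commute w u := by
        have hw' : n⁻¹ * w * n ∈ opOf p O := by
          simpa using (mem_normalizer_iff.1 (inv_mem ((le_normalizer_oddOf H).trans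
            (normalizer_le_normalizer_opOf p O) hnH)) w).1 hw
        have := (hc p hp _ hw').conj n
        rwa [hnt, show n * (n⁻¹ * w * n) * n⁻¹ = w by group] at this
      rcases h.mem_iff.1 hv with rfl | rfl | rfl | rfl
      exacts [Commute.one_left _, (hc p hp w hw).symm, hwu.symm, ((hc p hp w hw).mul_right hwu).symm]
    exact (mem_centralizer_iff.1 (hkey hv) x hx)
  intro p hp
  haveI : Fact p.Prime := ⟨hp⟩
  set W := opOf p O
  have hWn : H ≤ normalizer (W : Set G) :=
    (le_normalizer_oddOf H).trans (normalizer_le_normalizer_opOf p O)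
  have hcom : ∀ q : ℕ, q.Prime → q ≠ l → opOf q (coreCent t) ≤ H := fun q hq hql y hy => by
    haveI : Fact q.Prime := ⟨hq⟩
    exact mem_centralizer_singleton_iff.2 (commute_of_disjoint
      (inf_eq_bot_of_primes hql (isPGroup_opOf q _) (isPGroup_opOf l _)) hy hzY
      (le_normalizer_opOf l _ (opOf_le q _ hy)) (le_normalizer_opOf q _ (opOf_le l _ hzY))).eq
  by_cases hYp : opOf p (coreCent t) = ⊥
  · -- then `t`, `u` and `t * u` act without fixed points
    have hpl : p ≠ l := fun e => hYl (e ▸ hYp)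
    have hfix : ∀ w ∈ W, Commute w t → w = 1 := by
      intro w hw hwt
      have hwp : ∃ k, w ^ p ^ k = 1 := by
        obtain ⟨k, hk⟩ := isPGroup_opOf p O ⟨w, hw⟩
        exact ⟨k, congrArg Subtype.val hk⟩
      have hwO : w ∈ O := opOf_le p O hw
      have hwU : w ∈ coreCent t := h.mem_coreCent_of_odd hwt
        (Odd.of_dvd_nat hOodd (O.orderOf_dvd_natCard hwO))
      have hwY : ∀ q : ℕ, q.Prime → ∀ y ∈ opOf q (coreCent t), y ∈ H → Commute w y := by
        intro q hq y hy hyH
        haveI : Fact q.Prime := ⟨hq⟩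
        by_cases hqp : q = p
        · subst hqp
          rw [hYp, mem_bot] at hy
          exact hy ▸ Commute.one_right w
        · exact commute_of_disjoint (inf_eq_bot_of_primes (Ne.symm hqp) (isPGroup_opOf p O) (isPGroup_opOf q _))
            hw hy (le_normalizer_opOf q _ hwU) (hWn hyH)
      have hall : ∀ q : ℕ, q.Prime → ∀ y ∈ opOf q (coreCent t), Commute w y := by
        intro q hq y hy
        by_cases hql : q = l
        · subst hql
          have hPQ := Grp.thompson_PQ (p := q) (zpowers z) (zpowers w) ?_ ?_ ?_ (opOf q (coreCent t))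
            (isPGroup_opOf q _) (zpowers_le.2 (le_normalizer_opOf q _ (opOf_le q _ hzY)))
            (zpowers_le.2 (le_normalizer_opOf q _ hwU)) ?_
          · exact ((mem_centralizer_iff.1 (hPQ (mem_zpowers w))) y hy).symm
          · exact (isPGroup_opOf q _).to_le (zpowers_le.2 hzY)
          · obtain ⟨k, hk⟩ := hwp
            rw [Nat.card_zpowers]
            exact (((Nat.coprime_primes hp hq).2 hpl).pow_left k).coprime_dvd_left
              (orderOf_dvd_of_pow_eq_one hk)
          · rw [zpowers_le, ← Grp.centralizer_singleton_eq_zpowers]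
            exact mem_centralizer_singleton_iff.2
              (mem_centralizer_singleton_iff.1 (oddOf_le H hwO)).symm
          · rintro x ⟨hx1, hx2⟩
            rw [← Grp.centralizer_singleton_eq_zpowers] at hx2 ⊢
            exact mem_centralizer_singleton_iff.2 (hwY q hq x hx1 hx2).symm.eq
        · exact hwY q hq y hy (hcom q hq hql hy)
      obtain ⟨k, hk⟩ := hwp
      have := mem_opOf_of_mem_fitting (mem_fitting_of_commute hwU hall) hk
      rwa [hYp, mem_bot] at this
    have hmove : ∀ v : G, (∀ w ∈ W, Commute w v → w = 1) → ∀ w ∈ W, Commute w (n * v * n⁻¹) → w = 1 := by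
      intro v hv w hw hwv
      have hw' : n⁻¹ * w * n⁻¹⁻¹ ∈ W := (mem_normalizer_iff.1 (inv_mem (hWn hnH)) w).1 hw
      have h1 := hwv.conj n⁻¹
      rw [show n⁻¹ * (n * v * n⁻¹) * n⁻¹⁻¹ = v by group] at h1
      exact conj_eq_one_iff.1 (hv _ hw' h1)
    have hfu := hmove t hfix
    rw [hnt] at hfu
    have hftu := hmove u hfu
    rw [hnu] at hftu
    have hbot : W = ⊥ := by
      haveI := h.klein
      haveI : IsMulCommutative (V : Subgroup G) := ⟨⟨fun a b => Subtype.ext (h.comm a.2 b.2).eq⟩⟩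
      have hgen := Grp.generated_by_centralizers (V : Subgroup G) W IsKleinFour.not_isCyclic
        (hVH.trans hWn) (h.coprime_V (odd_of_le (opOf_le p O) hOodd))
      rw [← hgen, eq_bot_iff]
      refine iSup₂_le fun v hv x hx => ?_
      have hxv : Commute x v := mem_centralizer_singleton_iff.1 hx.2
      rw [mem_bot]
      rcases h.mem_iff.1 hv.1 with rfl | rfl | rfl | rfl
      exacts [absurd rfl hv.2, hfix x hx.1 hxv, hfu x hx.1 hxv, hftu x hx.1 hxv]
    intro w hw
    rw [hbot, mem_bot] at hw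
    exact hw ▸ Commute.one_left t
  · -- the trick
    intro w hw
    refine mem_centralizer_singleton_iff.1 (h.trick hC hYp (isPGroup_opOf p O) (hWn (hVH h.ht))
      (fun x hx => hWn (mem_centralizer_singleton_iff.2 ?_)) hw)
    by_cases hpl : p = l
    · subst hpl
      exact ((mem_omZ.1 hx).2.1 z hzY).eq
    · exact mem_centralizer_singleton_iff.1 (hcom p hp hpl (omZ_le _ _ hx))

end Hyp

end Cfsg.Agent.Invol.GW.Klein
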