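import Cfsg.Agent.Lib.Transfer.Local.Basic
import Cfsg.Agent.Lib.Grp.CoprimeAbelian
import Cfsg.Agent.Lib.Grp.InvertedPairs

/-!
An involution acting on subgroups of odd order: fixed and inverted elements, `P × Q` arguments.
-/

set_option autoImplicit false
set_option linter.unusedSectionVars false

namespace Cfsg.Agent.Invol.GW.ThreeClass

open Subgroup
open scoped Pointwise commutatorElement

universe u

variable {G : Type u} [Group G] [Finite G]

theorem conj_mem {H : Subgroup G} {g x : G} (hg : g ∈ normalizer (H : Set G)) (hx : x ∈ H) :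
    g * x * g⁻¹ ∈ H :=
  (Subgroup.mem_normalizer_iff.1 hg x).1 hx

theorem conj_mem' {H : Subgroup G} {g x : G} (hg : g ∈ normalizer (H : Set G)) (hx : x ∈ H) :
    g⁻¹ * x * g ∈ H := by
  simpa using conj_mem (inv_mem hg) hx

theorem mem_normalizer_of {H : Subgroup G} {g : G} (h : ∀ x ∈ H, g * x * g⁻¹ ∈ H) :
    g ∈ normalizer (H : Set G) := by
  have hle : MulAut.conj g • H ≤ H := fun y hy => by
    simpa [mul_assoc] using h _ (Grp.mem_smul_conj.1 hy)
  exact Grp.mem_normalizer_iff_smul.2 (Subgroup.eq_of_le_of_card_ge hle (Grp.card_conj_smul g H).ge)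

theorem mem_centralizer_singleton {g x : G} : g ∈ centralizer ({x} : Set G) ↔ Commute g x := by
  rw [mem_centralizer_singleton_iff]; rfl

theorem commute_of_conj {g x : G} (h : g * x * g⁻¹ = x) : Commute g x := mul_inv_eq_iff_eq_mul.1 h

/-- A power recovers an element of odd order from its square. -/
theorem exists_sqrt {x : G} (h : Odd (orderOf x)) : ∃ k : ℕ, (x ^ k) * (x ^ k) = x := by
  obtain ⟨m, hm⟩ := h
  exact ⟨m + 1, by rw [← pow_add, show m + 1 + (m + 1) = orderOf x + 1 by omega, pow_succ,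
    pow_orderOf_eq_one, one_mul]⟩

theorem commute_of_sq {x w : G} (hx : Odd (orderOf x)) (h : Commute (x * x) w) : Commute x w := by
  obtain ⟨k, hk⟩ := exists_sqrt hx
  have h1 := h.pow_left k
  rwa [(Commute.refl x).mul_pow, hk] at h1

theorem odd_orderOf {H : Subgroup G} (hH : Odd (Nat.card H)) {x : G} (hx : x ∈ H) : Odd (orderOf x) :=
  hH.of_dvd_nat (Subgroup.orderOf_dvd_natCard H hx)

/-- In a group of odd order an element conjugate to its inverse is trivial. -/
theorem eq_one_of_real {H : Subgroup G} (hH : Odd (Nat.card H)) {g x : G} (hg : g ∈ H) (hx : x ∈ H)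
    (h : g * x * g⁻¹ = x⁻¹) : x = 1 := by
  have h2 : Commute (g * g) x := commute_of_conj (by
    calc g * g * x * (g * g)⁻¹ = g * (g * x * g⁻¹) * g⁻¹ := by group
      _ = g * x⁻¹ * g⁻¹ := by rw [h]
      _ = (g * x * g⁻¹)⁻¹ := by group
      _ = x := by rw [h, inv_inv])
  rw [(commute_of_sq (odd_orderOf hH hg) h2).mul_inv_cancel] at h
  exact Grp.eq_one_of_sq hH hx (mul_eq_one_iff_eq_inv.2 h)

/-! ### An involution -/

theorem inv_eq_self {z : G} (hz : z * z = 1) : z⁻¹ = z := inv_eq_of_mul_eq_one_right hz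

theorem conj_conj {z : G} (hz : z * z = 1) (x : G) : z * (z * x * z⁻¹) * z⁻¹ = x := by
  rw [show z * (z * x * z⁻¹) * z⁻¹ = z * z * x * (z * z)⁻¹ by group, hz, inv_one, one_mul, mul_one]

/-- Each element of an invariant subgroup of odd order is the product of a fixed and an inverted one. -/
theorem decomp {z : G} (hz : z * z = 1) {X : Subgroup G} (hX : Odd (Nat.card X))
    (hzX : z ∈ normalizer (X : Set G)) {x : G} (hx : x ∈ X) :
    ∃ c ∈ X, ∃ r ∈ X, Commute z c ∧ z * r * z⁻¹ = r⁻¹ ∧ x = c * r := by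
  set m := x⁻¹ * (z * x * z⁻¹) with hm
  have hmX : m ∈ X := X.mul_mem (X.inv_mem hx) (conj_mem hzX hx)
  obtain ⟨k, hk⟩ := exists_sqrt (odd_orderOf hX hmX)
  set r := m ^ k with hr
  have hrX : r ∈ X := X.pow_mem hmX k
  have hzm : z * m * z⁻¹ = m⁻¹ := by
    calc z * m * z⁻¹ = (z * x * z⁻¹)⁻¹ * (z * (z * x * z⁻¹) * z⁻¹) := by rw [hm]; group
      _ = m⁻¹ := by rw [conj_conj hz, hm]; group
  have hzr : z * r * z⁻¹ = r⁻¹ := by rw [hr, ← conj_pow, hzm, inv_pow]
  refine ⟨x * r, X.mul_mem hx hrX, r⁻¹, X.inv_mem hrX, commute_of_conj ?_, ?_, by group⟩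
  · calc z * (x * r) * z⁻¹ = x * m * (z * r * z⁻¹) := by rw [hm]; group
      _ = x * (r * r) * r⁻¹ := by rw [hzr, hk]
      _ = x * r := by group
  · rw [show z * r⁻¹ * z⁻¹ = (z * r * z⁻¹)⁻¹ by group, hzr]

/-- Without inverted elements an involution centralizes. -/
theorem commute_of_no_inverted {z : G} (hz : z * z = 1) {X : Subgroup G} (hX : Odd (Nat.card X))
    (hzX : z ∈ normalizer (X : Set G)) (h : ∀ r ∈ X, z * r * z⁻¹ = r⁻¹ → r = 1) {x : G} (hx : x ∈ X) :
    Commute z x := by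
  obtain ⟨c, -, r, hr, hc, hzr, rfl⟩ := decomp hz hX hzX hx
  rwa [h r hr hzr, mul_one]

/-- A fixed-point-free involution inverts. -/
theorem inverted_of_fixed_free {z : G} (hz : z * z = 1) {X : Subgroup G} (hX : Odd (Nat.card X))
    (hzX : z ∈ normalizer (X : Set G)) (h : ∀ c ∈ X, Commute z c → c = 1) {x : G} (hx : x ∈ X) :
    z * x * z⁻¹ = x⁻¹ := by
  obtain ⟨c, hc, r, -, hzc, hzr, rfl⟩ := decomp hz hX hzX hx
  rwa [h c hc hzc, one_mul]

/-- An inverted element commutes with the fixed points it normalises. -/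
theorem commute_fixed {z a w : G} (ha : Odd (orderOf a)) (hza : z * a * z⁻¹ = a⁻¹) (hw : Commute z w)
    (hw' : Commute z (a * w * a⁻¹)) : Commute a w := by
  refine commute_of_sq ha (commute_of_conj ?_)
  have h1 : a * w * a⁻¹ = a⁻¹ * w * a := by
    calc a * w * a⁻¹ = z * (a * w * a⁻¹) * z⁻¹ := by rw [hw'.eq, mul_inv_cancel_right]
      _ = (z * a * z⁻¹) * (z * w * z⁻¹) * (z * a * z⁻¹)⁻¹ := by group
      _ = a⁻¹ * w * a := by rw [hza, hw.eq, mul_inv_cancel_right, inv_inv]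
  calc a * a * w * (a * a)⁻¹ = a * (a * w * a⁻¹) * a⁻¹ := by group
    _ = w := by rw [h1]; group

/-- An inverted element commutes with an inverted set it normalises. -/
theorem commute_inverted {z a w : G} (ha : Odd (orderOf a)) (hza : z * a * z⁻¹ = a⁻¹)
    (hw : z * w * z⁻¹ = w⁻¹) (hw' : z * (a * w * a⁻¹) * z⁻¹ = (a * w * a⁻¹)⁻¹) : Commute a w := by
  refine commute_of_sq ha (commute_of_conj ?_)
  have h1 : a * w * a⁻¹ = a⁻¹ * w * a := by
    refine inv_injective ?_
    calc (a * w * a⁻¹)⁻¹ = (z * a * z⁻¹) * (z * w * z⁻¹) * (z * a * z⁻¹)⁻¹ := by rw [← hw']; group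
      _ = (a⁻¹ * w * a)⁻¹ := by rw [hza, hw]; group
  calc a * a * w * (a * a)⁻¹ = a * (a * w * a⁻¹) * a⁻¹ := by group
    _ = w := by rw [h1]; group

/-- Mutually normalising elements of subgroups with trivial intersection commute. -/
theorem commute_of_inf {A B : Subgroup G} (h : A ⊓ B = ⊥) {a b : G} (ha : a ∈ A) (hb : b ∈ B)
    (haB : a ∈ normalizer (B : Set G)) (hbA : b ∈ normalizer (A : Set G)) : Commute a b := by
  have h1 : a * b * a⁻¹ * b⁻¹ ∈ A ⊓ B := by
    refine ⟨?_, B.mul_mem (conj_mem haB hb) (B.inv_mem hb)⟩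
    rw [show a * b * a⁻¹ * b⁻¹ = a * (b * a⁻¹ * b⁻¹) by group]
    exact A.mul_mem ha (conj_mem hbA (A.inv_mem ha))
  rw [h, mem_bot, mul_inv_eq_one, mul_inv_eq_iff_eq_mul] at h1
  exact h1

theorem coprime_of_isPGroup {p : ℕ} {A : Subgroup G} (hA : IsPGroup p A) {n : ℕ} (h : p.Coprime n)
    [Fact p.Prime] : (Nat.card A).Coprime n := by
  obtain ⟨k, hk⟩ := IsPGroup.iff_card.1 hA
  rw [hk]; exact h.pow_left k

/-- Thompson's lemma in the form used here. -/
theorem pq {p : ℕ} [Fact p.Prime] {A B W : Subgroup G} (hA : (Nat.card A).Coprime p) (hB : IsPGroup p B)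
    (hAB : ∀ a ∈ A, ∀ b ∈ B, Commute a b) (hW : IsPGroup p W) (hAW : A ≤ normalizer (W : Set G))
    (hBW : B ≤ normalizer (W : Set G)) (h : ∀ w ∈ W, (∀ b ∈ B, Commute b w) → ∀ a ∈ A, Commute a w) :
    ∀ a ∈ A, ∀ w ∈ W, Commute a w := by
  have := Grp.thompson_PQ B A hB hA (fun b hb => mem_centralizer_iff.2 fun a ha => (hAB a ha b hb).eq) W hW
    hBW hAW fun w hw => mem_centralizer_iff.2 fun a ha =>
      (h w hw.1 (fun b hb => mem_centralizer_iff.1 hw.2 b hb) a ha).eq
  exact fun a ha w hw => (mem_centralizer_iff.1 (this ha) w hw).symm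

/-- An element of order prime to `p` inverted by an involution, which commutes with the fixed points of the
involution on an invariant `p`-group, centralises that group. -/
theorem trick {z : G} (hz : z * z = 1) {p : ℕ} [Fact p.Prime] {W : Subgroup G} (hW : IsPGroup p W)
    (hWodd : Odd (Nat.card W)) (hzW : z ∈ normalizer (W : Set G)) {a : G} (haW : a ∈ normalizer (W : Set G))
    (ha : Odd (orderOf a)) (hap : (orderOf a).Coprime p) (hza : z * a * z⁻¹ = a⁻¹)
    (hfix : ∀ w ∈ W, Commute z w → Commute a w) : ∀ w ∈ W, Commute a w := by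
  set D := W ⊓ centralizer ({a} : Set G) with hD
  suffices W ≤ D from fun w hw => ((mem_centralizer_singleton.1 (this hw).2)).symm
  by_contra hlt
  -- the normaliser of the centralised part
  set N := W ⊓ normalizer (D : Set G) with hN
  have hzD : z ∈ normalizer (D : Set G) := mem_normalizer_of fun x hx => by
    refine ⟨conj_mem hzW hx.1, mem_centralizer_singleton.2 ?_⟩
    have h1 : Commute (z * x * z⁻¹) (z * a * z⁻¹) :=
      (mem_centralizer_singleton.1 hx.2).map (MulAut.conj z).toMonoidHom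
    rw [hza] at h1
    exact Commute.inv_right_iff.1 h1
  have haD : a ∈ normalizer (D : Set G) := mem_normalizer_of fun x hx => by
    rwa [(mem_centralizer_singleton.1 hx.2).symm.eq, mul_inv_cancel_right]
  have hDN : D ≤ N := le_inf inf_le_left le_normalizer
  have hlt' : D < N := by
    refine lt_of_le_of_ne hDN fun e => hlt ?_
    haveI := hW.isNilpotent
    have h1 : normalizer ((D.subgroupOf W : Subgroup W) : Set W) = D.subgroupOf W := by
      refine le_antisymm (fun x hx => ?_) le_normalizer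
      show (x : G) ∈ D
      rw [e]
      refine ⟨x.2, mem_normalizer_of fun y hy => ?_⟩
      exact (Subgroup.mem_normalizer_iff.1 hx ⟨y, hy.1⟩).1 hy
    have h2 := normalizerCondition_iff_only_full_group_self_normalizing.1 Group.normalizerCondition_of_isNilpotent _ h1
    intro w hw
    exact (show (⟨w, hw⟩ : W) ∈ D.subgroupOf W by rw [h2]; trivial)
  have hzN : z ∈ normalizer (N : Set G) := Grp.le_normalizer_inf' (A := zpowers z)
    (zpowers_le.2 hzW) ((zpowers_le.2 hzD).trans le_normalizer) (mem_zpowers z)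
  have haN : a ∈ normalizer (N : Set G) := Grp.le_normalizer_inf' (A := zpowers a)
    (zpowers_le.2 haW) ((zpowers_le.2 haD).trans le_normalizer) (mem_zpowers a)
  have hNodd : Odd (Nat.card N) := hWodd.of_dvd_nat (card_dvd_of_le inf_le_left)
  -- the involution inverts `N` modulo `D`
  have hinv : ∀ x ∈ N, z * x * z⁻¹ * x ∈ D := by
    intro x hx
    obtain ⟨c, hc, r, hr, hzc, hzr, rfl⟩ := decomp hz hNodd hzN hx
    have hcD : c ∈ D := ⟨hc.1, mem_centralizer_singleton.2 (hfix c hc.1 hzc).symm⟩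
    have : z * (c * r) * z⁻¹ * (c * r) = c * (r⁻¹ * c * r) := by
      rw [show z * (c * r) * z⁻¹ = (z * c * z⁻¹) * (z * r * z⁻¹) by group, hzr, hzc.eq, mul_inv_cancel_right]
      group
    rw [this]
    exact D.mul_mem hcD (conj_mem' hr.2 hcD)
  -- so the square of `a` fixes every coset
  have hcomm : ∀ x ∈ N, (a * a) * x * (a * a)⁻¹ * x⁻¹ ∈ D := by
    intro x hx
    set e := a * x * a⁻¹ with he
    have heN : e ∈ N := conj_mem haN hx
    -- `z e z = a⁻¹ (z x z) a`
    have h1 : z * e * z⁻¹ = a⁻¹ * (z * x * z⁻¹) * a := by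
      calc z * e * z⁻¹ = (z * a * z⁻¹) * (z * x * z⁻¹) * (z * a * z⁻¹)⁻¹ := by rw [he]; group
        _ = _ := by rw [hza, inv_inv]
    have h2 : a⁻¹ * (z * x * z⁻¹) * a * e ∈ D := h1 ▸ hinv e heN
    have h3 : a⁻¹ * (z * x * z⁻¹ * x) * a ∈ D := conj_mem' haD (hinv x hx)
    have h4 : (a⁻¹ * x * a)⁻¹⁻¹⁻¹⁻¹ = a⁻¹ * x * a := by group
    have h5 : (a⁻¹ * x⁻¹ * a)⁻¹ = a⁻¹ * x * a := by group
    have h6 : (a⁻¹ * x * a)⁻¹ * e ∈ D := by
      have e1 : (a⁻¹ * (z * x * z⁻¹ * x) * a)⁻¹ * (a⁻¹ * (z * x * z⁻¹) * a * e) = (a⁻¹ * x * a)⁻¹ * e := by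
        group
      exact e1 ▸ D.mul_mem (D.inv_mem h3) h2
    have h7 : x⁻¹ * (a * a * x * (a * a)⁻¹) ∈ D := by
      have := conj_mem haD h6
      rwa [show a * ((a⁻¹ * x * a)⁻¹ * e) * a⁻¹ = x⁻¹ * (a * a * x * (a * a)⁻¹) by rw [he]; group] at this
    have := conj_mem hx.2 h7
    rwa [show x * (x⁻¹ * (a * a * x * (a * a)⁻¹)) * x⁻¹ = a * a * x * (a * a)⁻¹ * x⁻¹ by group] at this
  obtain ⟨k, hk⟩ := exists_sqrt ha
  have hk' : a = (a * a) ^ k := by rw [(Commute.refl a).mul_pow, hk]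
  have hA : ∀ x ∈ N, ∀ j : ℕ, (a * a) ^ j * x * ((a * a) ^ j)⁻¹ * x⁻¹ ∈ D := by
    intro x hx j
    induction j with
    | zero => simp
    | succ j ih =>
      have hj : (a * a) ^ j * x * ((a * a) ^ j)⁻¹ ∈ N :=
        conj_mem (pow_mem (mul_mem haN haN) j) hx
      have h1 := D.mul_mem (hcomm _ hj) ih
      generalize a * a = b at h1 ⊢
      rwa [show b * (b ^ j * x * (b ^ j)⁻¹) * b⁻¹ * (b ^ j * x * (b ^ j)⁻¹)⁻¹ * (b ^ j * x * (b ^ j)⁻¹ * x⁻¹) =
        b ^ (j + 1) * x * (b ^ (j + 1))⁻¹ * x⁻¹ by rw [pow_succ']; group] at h1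
  refine absurd ?_ hlt'.not_ge
  intro w hw
  refine ⟨hw.1, mem_centralizer_singleton.2 ?_⟩
  have hcop : (Nat.card (zpowers a)).Coprime (Nat.card N) := by
    rw [Nat.card_zpowers]
    exact (coprime_of_isPGroup (hW.to_le inf_le_left) hap.symm).symm
  have h := Grp.le_centralizer_of_series (zpowers a) N D (zpowers_le.2 haN) hcop
    (Or.inl inferInstance) (by
      rw [commutator_le]
      intro x hx b hb
      obtain ⟨j, rfl⟩ := (isOfFinOrder_of_finite a).mem_powers_iff_mem_zpowers.2 hb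
      have := D.inv_mem (hA x hx (k * j))
      rwa [pow_mul, ← hk', show (a ^ j * x * (a ^ j)⁻¹ * x⁻¹)⁻¹ = ⁅x, a ^ j⁆ by
        rw [commutatorElement_def]; group] at this) (by
      rw [commutator_eq_bot_iff_le_centralizer]
      intro x hx
      refine mem_centralizer_iff.2 fun b hb => ?_
      obtain ⟨j, rfl⟩ := mem_zpowers_iff.1 hb
      exact ((mem_centralizer_singleton.1 hx.2).zpow_right j).symm.eq) (mem_zpowers a)
  exact ((mem_centralizer_iff.1 h w hw))

/-- A nontrivial subgroup normal in a `p`-group meets the fixed points of the group. -/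
theorem exists_fixed {p : ℕ} [Fact p.Prime] {Z X : Subgroup G} (hZ : IsPGroup p Z) (hX : IsPGroup p X)
    (hXZ : X ≤ normalizer (Z : Set G)) (hne : Z ≠ ⊥) : Z ⊓ centralizer (X : Set G) ≠ ⊥ := by
  set W := Z ⊔ X with hW
  haveI : Group.IsNilpotent W := (hZ.to_sup_of_normal_left' hX hXZ).isNilpotent
  haveI : (Z.subgroupOf W).Normal :=
    (normal_subgroupOf_iff_le_normalizer le_sup_left).2 (sup_le le_normalizer hXZ)
  have h0 : Z.subgroupOf W ≠ ⊥ := fun e => hne (by
    rw [← map_subgroupOf_eq_of_le (le_sup_left : Z ≤ W), e, Subgroup.map_bot])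
  obtain ⟨c, ⟨hcZ, hcC⟩, hc1⟩ := (bot_or_exists_ne_one _).resolve_left (Grp.inf_center_ne_bot _ h0)
  intro e
  refine hc1 (Subtype.ext ?_)
  have : (c : G) ∈ Z ⊓ centralizer (X : Set G) := ⟨hcZ, mem_centralizer_iff.2 fun x hx =>
    congrArg Subtype.val (mem_center_iff.1 hcC ⟨x, le_sup_right (a := Z) hx⟩)⟩
  rwa [e, mem_bot] at this

end Cfsg.Agent.Invol.GW.ThreeClass
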