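import Cfsg.Agent.Lib.Invol.GW.Klein.Sylow
import Cfsg.Prelude.Def_PLocal
import Cfsg.Agent.Lib.Invol.GW.Klein.ThreeClassBasic

/-!
A maximal subgroup with three classes of involutions properly containing the centraliser of an involution of a four
group whose centraliser in each 2-subgroup over it is itself: elementary facts and transport along the automorphisms
of the four group.  The four group need not be a Sylow subgroup.
-/

set_option autoImplicit false
set_option linter.unusedSectionVars false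

namespace Cfsg.Agent.Invol.GW.ThreeClass

open Subgroup Klein Transfer.Loc
open scoped Pointwise

universe u

variable {G : Type u} [Group G]

/-- A simple group with a four group that is its own centraliser among the 2-elements; `p`-stable for all odd `p`. -/
structure Base (V : Subgroup G) (t u : G) : Prop where
  simple : IsSimpleGroup G
  klein : IsKleinFour V
  ht : t ∈ V
  hu : u ∈ V
  ht1 : t ≠ 1
  hu1 : u ≠ 1
  htu : t ≠ u
  qd : ∀ (p : ℕ) [Fact p.Prime], p ≠ 2 → ¬ Cfsg.Involves ↥(Cfsg.qd p) G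
  selfCent : ∀ D : Subgroup G, IsPGroup 2 D → V ≤ D → ∀ x ∈ D, (∀ v ∈ V, Commute x v) → x ∈ V

/-- Odd elements lie in the core and `t` is central modulo the core. -/
structure Three (t : G) (M : Subgroup G) : Prop where
  mem : ∀ x ∈ M, Odd (orderOf x) → x ∈ oddOf M
  central : ∀ g ∈ M, g * t * g⁻¹ * t⁻¹ ∈ oddOf M

namespace Base

variable {V : Subgroup G} {t u : G} (h : Base V t u)
include h

theorem comm {x y : G} (hx : x ∈ V) (hy : y ∈ V) : Commute x y := by
  haveI := h.klein
  exact congrArg Subtype.val (mul_comm_of_exponent_two IsKleinFour.exponent_two (⟨x, hx⟩ : V) ⟨y, hy⟩)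

theorem mul_self {x : G} (hx : x ∈ V) : x * x = 1 := by
  haveI := h.klein
  exact congrArg Subtype.val (IsKleinFour.mul_self (⟨x, hx⟩ : V))

theorem orderOf_eq {x : G} (hx : x ∈ V) (hx1 : x ≠ 1) : orderOf x = 2 :=
  orderOf_eq_prime (by rw [pow_two]; exact h.mul_self hx) hx1

theorem inv_eq {x : G} (hx : x ∈ V) : x⁻¹ = x := inv_eq_of_mul_eq_one_right (h.mul_self hx)

theorem tu_mem : t * u ∈ V := mul_mem h.ht h.hu

theorem tu_ne_one : t * u ≠ 1 := fun e => h.htu ((mul_eq_one_iff_eq_inv.1 e).trans (h.inv_eq h.hu))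

theorem mem_iff {x : G} : x ∈ V ↔ x = 1 ∨ x = t ∨ x = u ∨ x = t * u := by
  refine ⟨fun hx => ?_, ?_⟩
  · by_contra hne
    push Not at hne
    haveI := h.klein
    refine hne.2.2.2 (congrArg Subtype.val (IsKleinFour.eq_mul_of_ne_all
      (x := (⟨t, h.ht⟩ : V)) (y := ⟨u, h.hu⟩) (z := ⟨x, hx⟩)
      (fun e => h.ht1 (congrArg Subtype.val e)) (fun e => h.hu1 (congrArg Subtype.val e))
      (fun e => h.htu (congrArg Subtype.val e)) (fun e => hne.1 (congrArg Subtype.val e))
      (fun e => hne.2.1 (congrArg Subtype.val e)) (fun e => hne.2.2.1 (congrArg Subtype.val e))))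
  · rintro (rfl | rfl | rfl | rfl)
    exacts [one_mem _, h.ht, h.hu, h.tu_mem]

theorem shift : Base V u (t * u) :=
  ⟨h.simple, h.klein, h.hu, h.tu_mem, h.hu1, h.tu_ne_one, fun e => h.ht1 (mul_eq_right.1 e.symm), h.qd, h.selfCent⟩

theorem swap : Base V t (t * u) :=
  ⟨h.simple, h.klein, h.ht, h.tu_mem, h.ht1, h.tu_ne_one, fun e => h.hu1 (mul_eq_left.1 e.symm), h.qd, h.selfCent⟩

theorem le_centralizer : V ≤ centralizer ({t} : Set G) := fun _ hx =>
  mem_centralizer_singleton_iff.2 (h.comm hx h.ht).eq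

end Base

/-- The hypothesis: a three-class maximal subgroup properly over `C(t)`, with an element cycling the four group. -/
structure TC (V : Subgroup G) (t u n : G) (M : Subgroup G) : Prop where
  hyp : Base V t u
  hn : n ∈ normalizer (V : Set G)
  hnt : n * t * n⁻¹ = u
  hnu : n * u * n⁻¹ = t * u
  coatom : IsCoatom M
  three : Three t M
  lt : centralizer ({t} : Set G) < M

variable [Finite G]

/-- An involution commuting with `g` modulo the core and centralising the core commutes with `g`. -/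
theorem Three.commute {t : G} {M : Subgroup G} (h : Three t M) (ht : t * t = 1)
    (hc : ∀ k ∈ oddOf M, Commute t k) {g : G} (hg : g ∈ M) : Commute g t := by
  obtain ⟨k, hk⟩ : ∃ k, k = g * t * g⁻¹ * t⁻¹ := ⟨_, rfl⟩
  have hkO : k ∈ oddOf M := hk ▸ h.central g hg
  have hkk : k * k = 1 := by
    have h1 : (k * t) * (k * t) = 1 := by
      rw [show k * t = g * t * g⁻¹ by rw [hk]; group,
        show g * t * g⁻¹ * (g * t * g⁻¹) = g * (t * t) * g⁻¹ by group, ht]
      group
    rwa [(hc k hkO).mul_mul_mul_comm, ht, mul_one] at h1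
  exact commute_of_conj (mul_inv_eq_one.1 (hk ▸ Klein.eq_one_of_odd (odd_card_oddOf M) hkO hkk))

theorem conj_le_iff {g : G} {X Y : Subgroup G} : MulAut.conj g • X ≤ Y ↔ ∀ x ∈ X, g * x * g⁻¹ ∈ Y :=
  ⟨fun hh x hx => hh (Grp.mem_smul_conj.2 (by simpa [mul_assoc] using hx)), fun hh x hx => by
    simpa [mul_assoc] using hh _ (Grp.mem_smul_conj.1 hx)⟩

theorem mem_conj {g x : G} {X : Subgroup G} : g * x * g⁻¹ ∈ MulAut.conj g • X ↔ x ∈ X := by
  rw [Grp.mem_smul_conj, show g⁻¹ * (g * x * g⁻¹) * g = x by group]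

theorem conj_le_normalizer {g : G} {X Y : Subgroup G} (h : X ≤ normalizer (Y : Set G)) :
    MulAut.conj g • X ≤ normalizer ((MulAut.conj g • Y : Subgroup G) : Set G) := by
  refine conj_le_iff.2 fun x hx => mem_normalizer_of fun y hy => ?_
  rw [Grp.mem_smul_conj] at hy ⊢
  have := conj_mem (h hx) hy
  rwa [show g⁻¹ * (g * x * g⁻¹ * y * (g * x * g⁻¹)⁻¹) * g = x * (g⁻¹ * y * g) * x⁻¹ by group]

theorem smul_O_le (g : G) (r : ℕ) [Fact r.Prime] (X : Subgroup G) :
    MulAut.conj g • O r X ≤ O r (MulAut.conj g • X) :=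
  le_O (Subgroup.pointwise_smul_le_pointwise_smul_iff.mpr (O_le r X))
    (conj_le_normalizer (le_normalizer_core' X))
    ((O_isPGroup r X).map (MulAut.conj g).toMonoidHom)

theorem O_smul (g : G) (r : ℕ) [Fact r.Prime] (X : Subgroup G) :
    O r (MulAut.conj g • X) = MulAut.conj g • O r X := by
  refine le_antisymm ?_ (smul_O_le g r X)
  intro x hx
  have := smul_O_le g⁻¹ r (MulAut.conj g • X) (mem_conj.2 hx)
  rw [Grp.conj_smul_conj_smul, inv_mul_cancel, map_one, one_smul] at this
  exact Grp.mem_smul_conj.2 (by simpa using this)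

theorem smul_oddOf_le (g : G) (X : Subgroup G) : MulAut.conj g • oddOf X ≤ oddOf (MulAut.conj g • X) := by
  refine le_oddOf (Subgroup.pointwise_smul_le_pointwise_smul_iff.mpr (oddOf_le X))
    (conj_le_normalizer (le_normalizer_oddOf X)) ?_
  rw [Grp.card_conj_smul]
  exact odd_card_oddOf X

theorem oddOf_smul (g : G) (X : Subgroup G) : oddOf (MulAut.conj g • X) = MulAut.conj g • oddOf X := by
  refine le_antisymm ?_ (smul_oddOf_le g X)
  intro x hx
  have := smul_oddOf_le g⁻¹ (MulAut.conj g • X) (mem_conj.2 hx)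
  rw [Grp.conj_smul_conj_smul, inv_mul_cancel, map_one, one_smul] at this
  exact Grp.mem_smul_conj.2 (by simpa using this)

namespace TC

variable {V : Subgroup G} {t u n : G} {M : Subgroup G} (T : TC V t u n M)
include T

theorem le_M : centralizer ({t} : Set G) ≤ M := T.lt.le

theorem V_le : (V : Subgroup G) ≤ M := T.hyp.le_centralizer.trans T.le_M

theorem ne_top : M ≠ ⊤ := T.coatom.1

theorem odd_K : Odd (Nat.card (oddOf M)) := odd_card_oddOf M

theorem M_le_normalizer : M ≤ normalizer (oddOf M : Set G) := le_normalizer_oddOf M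

theorem V_le_normalizer : (V : Subgroup G) ≤ normalizer (oddOf M : Set G) := T.V_le.trans T.M_le_normalizer

theorem mem_K {x : G} (hx : x ∈ M) (ho : Odd (orderOf x)) : x ∈ oddOf M :=
  T.three.mem x hx ho

theorem odd_le_K {X : Subgroup G} (hX : X ≤ M) (ho : Odd (Nat.card X)) : X ≤ oddOf M :=
  fun _ hx => T.mem_K (hX hx) (odd_orderOf ho hx)

theorem mem_K_of_commute {x : G} (hx : Commute x t) (ho : Odd (orderOf x)) : x ∈ oddOf M :=
  T.mem_K (T.le_M (ThreeClass.mem_centralizer_singleton.2 hx)) ho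

theorem htu_comm : Commute t u := T.hyp.comm T.hyp.ht T.hyp.hu

theorem tt : t * t = 1 := T.hyp.mul_self T.hyp.ht

theorem uu : u * u = 1 := T.hyp.mul_self T.hyp.hu

theorem hnv : n * (t * u) * n⁻¹ = t := by
  rw [show n * (t * u) * n⁻¹ = (n * t * n⁻¹) * (n * u * n⁻¹) by group, T.hnt, T.hnu, T.htu_comm.eq,
    ← mul_assoc, T.uu, one_mul]

theorem conj_V {v : G} (hv : v ∈ (V : Subgroup G)) : n * v * n⁻¹ ∈ (V : Subgroup G) :=
  conj_mem T.hn hv

/-- Exchanging `u` and `t * u`. -/
theorem swap : TC V t (t * u) n⁻¹ M := by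
  refine ⟨T.hyp.swap, inv_mem T.hn, ?_, ?_, T.coatom, T.three, T.lt⟩
  · conv_lhs => rw [← T.hnv]
    group
  · rw [show t * (t * u) = u by rw [← mul_assoc, T.tt, one_mul]]
    conv_lhs => rw [← T.hnu]
    group

theorem card_le : ∀ g : G, Nat.card (MulAut.conj g • M : Subgroup G) = Nat.card M := fun g =>
  Grp.card_conj_smul g M

/-- Cycling the four group. -/
theorem shift : TC V u (t * u) n (MulAut.conj n • M) := by
  refine ⟨T.hyp.shift, T.hn, T.hnu, ?_, ?_, ?_, ?_⟩
  · rw [T.hnv, ← mul_assoc, T.htu_comm.symm.eq, mul_assoc, T.uu, mul_one]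
  · refine ⟨fun e => T.ne_top ?_, fun X hX => ?_⟩
    · refine eq_top_of_card_eq _ ?_
      rw [← T.card_le n, e, card_top]
    · have h1 : M < MulAut.conj n⁻¹ • X := by
        have := (Subgroup.pointwise_smul_le_pointwise_smul_iff (a := MulAut.conj n⁻¹)).mpr hX.le
        rw [Grp.conj_smul_conj_smul, inv_mul_cancel, map_one, one_smul] at this
        refine lt_of_le_of_ne this fun e => hX.ne ?_
        rw [e, Grp.conj_smul_conj_smul, mul_inv_cancel, map_one, one_smul]
      have h2 := T.coatom.2 _ h1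
      refine eq_top_of_card_eq _ ?_
      rw [← Grp.card_conj_smul n⁻¹ X, h2, card_top]
  · refine ⟨fun x hx ho => ?_, fun g hg => ?_⟩
    · rw [oddOf_smul, Grp.mem_smul_conj]
      refine T.mem_K (Grp.mem_smul_conj.1 hx) ?_
      rwa [show n⁻¹ * x * n = MulAut.conj n⁻¹ x by simp, MulEquiv.orderOf_eq]
    · rw [oddOf_smul, Grp.mem_smul_conj]
      have h1 := T.three.central _ (Grp.mem_smul_conj.1 hg)
      rwa [show n⁻¹ * g * n * t * (n⁻¹ * g * n)⁻¹ * t⁻¹ = n⁻¹ * (g * (n * t * n⁻¹) * g⁻¹ * (n * t * n⁻¹)⁻¹) * n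
        by group, T.hnt] at h1
  · refine lt_of_le_of_ne (fun x hx => ?_) fun e => ?_
    · rw [Grp.mem_smul_conj]
      refine T.le_M (ThreeClass.mem_centralizer_singleton.2 ?_)
      have h1 : Commute x (n * t * n⁻¹) := T.hnt.symm ▸ ThreeClass.mem_centralizer_singleton.1 hx
      have := h1.conj n⁻¹
      rwa [show n⁻¹ * x * n⁻¹⁻¹ = n⁻¹ * x * n by group,
        show n⁻¹ * (n * t * n⁻¹) * n⁻¹⁻¹ = t by group] at this
    · refine absurd T.lt.not_ge (not_not.2 fun x hx => ?_)
      have h1 : n * x * n⁻¹ ∈ centralizer ({u} : Set G) := e ▸ mem_conj.2 hx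
      have h2 := (ThreeClass.mem_centralizer_singleton.1 h1).conj n⁻¹
      refine ThreeClass.mem_centralizer_singleton.2 ?_
      rwa [show n⁻¹ * (n * x * n⁻¹) * n⁻¹⁻¹ = x by group, show n⁻¹ * u * n⁻¹⁻¹ = t by rw [← T.hnt]; group] at h2

theorem oddOf_shift : oddOf (MulAut.conj n • M) = MulAut.conj n • oddOf M := oddOf_smul n M

theorem O_shift (r : ℕ) [Fact r.Prime] :
    O r (oddOf (MulAut.conj n • M)) = MulAut.conj n • O r (oddOf M) := by
  rw [T.oddOf_shift, O_smul]

theorem not_mem : n ∉ M := by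
  intro hn
  have h1 := T.three.central n hn
  rw [T.hnt, T.hyp.inv_eq T.hyp.ht] at h1
  have h2 := Klein.eq_one_of_odd T.odd_K h1 (T.hyp.mul_self (mul_mem T.hyp.hu T.hyp.ht))
  exact T.hyp.htu ((mul_eq_one_iff_eq_inv.1 h2).trans (T.hyp.inv_eq T.hyp.ht)).symm

theorem shift_ne : MulAut.conj n • M ≠ M := fun e => T.not_mem (by
  have h1 : n ∈ normalizer (M : Set G) := Grp.mem_normalizer_iff_smul.2 e
  rcases T.coatom.le_iff.1 (le_normalizer : M ≤ normalizer (M : Set G)) with e' | e'
  · haveI := T.hyp.simple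
    haveI : M.Normal := normalizer_eq_top_iff.1 e'
    rcases (inferInstance : M.Normal).eq_bot_or_eq_top with e'' | e''
    · exact absurd (T.V_le.trans e''.le) fun hle => T.hyp.ht1 (mem_bot.1 (hle T.hyp.ht))
    · exact absurd e'' T.ne_top
  · rwa [e'] at h1)

/-- An involution of the four group does not centralise the core. -/
theorem exists_moved {v : G} (hv : v ∈ (V : Subgroup G)) (hv1 : v ≠ 1) :
    ∃ k ∈ oddOf M, ¬ Commute v k := by
  by_contra hcon
  push Not at hcon
  -- `n⁻¹ K n` or `n K n⁻¹` would lie in `C(t)`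
  have key : ∀ g : G, (∀ k ∈ oddOf M, Commute t (g * k * g⁻¹)) → False := by
    intro g hg
    have hle : MulAut.conj g • oddOf M ≤ oddOf M := conj_le_iff.2 fun k hk => by
      refine T.mem_K_of_commute (hg k hk).symm ?_
      rw [show orderOf (g * k * g⁻¹) = orderOf k from MulEquiv.orderOf_eq (MulAut.conj g) k]
      exact odd_orderOf T.odd_K hk
    have heq := eq_of_le_of_card_ge hle (Grp.card_conj_smul g _).ge
    refine absurd T.lt.not_ge (not_not.2 fun x hx => ?_)
    refine ThreeClass.mem_centralizer_singleton.2 (T.three.commute T.tt (fun k hk => ?_) hx)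
    rw [← heq] at hk
    have h1 := hg _ (Grp.mem_smul_conj.1 hk)
    rwa [show g * (g⁻¹ * k * g) * g⁻¹ = k by group] at h1
  rcases T.hyp.mem_iff.1 hv with e | e | e | e
  · exact hv1 e
  · exact key 1 fun k hk => by simpa [e] using hcon k hk
  · refine key n⁻¹ fun k hk => ?_
    have := (hcon k hk).conj n⁻¹
    rwa [e, show n⁻¹ * u * n⁻¹⁻¹ = t by rw [← T.hnt]; group] at this
  · refine key n fun k hk => ?_
    have := (hcon k hk).conj n
    rwa [e, T.hnv] at this

theorem normalizer_eq {X : Subgroup G} (hX : X ≠ ⊥) (hXM : X ≤ M) (hn : M ≤ normalizer (X : Set G)) :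
    normalizer (X : Set G) = M := by
  refine (T.coatom.le_iff.1 hn).resolve_left fun htop => ?_
  haveI := T.hyp.simple
  haveI : X.Normal := normalizer_eq_top_iff.1 htop
  rcases (inferInstance : X.Normal).eq_bot_or_eq_top with e | e
  · exact hX e
  · exact T.ne_top (top_le_iff.1 (e ▸ hXM))

end TC

end Cfsg.Agent.Invol.GW.ThreeClass
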