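import Cfsg.Agent.Lib.Invol.GW.Klein.ThreeClassCores
import Cfsg.Agent.Lib.Invol.GW.Klein.CoreCentral
import Cfsg.Agent.Lib.Fus.StableOdd
import Cfsg.Agent.Lib.Transfer.PStableFree
import Cfsg.Agent.Lib.Invol.StronglyClosedControl

/-!
A three-class maximal subgroup over `C(t)` whose core has only one nontrivial prime core is impossible: the normaliser
of the Thompson centre controls fusion, so some element inverted by `t` would be conjugate to its inverse in the core.
-/

set_option autoImplicit false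
set_option linter.unusedSectionVars false

namespace Cfsg.Agent.Invol.GW.ThreeClass

open Subgroup Klein Transfer.Loc
open scoped Pointwise

universe u

variable {G : Type u} [Group G] [Finite G] {V : Subgroup G} {t u n : G} {M : Subgroup G}

theorem exists_conj_le_sylowIn {p : ℕ} [Fact p.Prime] {Q X K : Subgroup G} (hQ : Grp.IsSylowIn p Q K) (hX : X ≤ K)
    (hp : IsPGroup p X) : ∃ k ∈ K, MulAut.conj k • X ≤ Q := by
  obtain ⟨S, hS⟩ := Grp.isSylowIn_iff.mp hQ
  obtain ⟨S', hS'⟩ := (hp.comap_subtype (K := K)).exists_le_sylow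
  obtain ⟨k, hk⟩ := MulAction.exists_smul_eq K S' S
  refine ⟨k, k.2, conj_le_iff.2 fun x hx => ?_⟩
  have h1 : k * ⟨x, hX hx⟩ * k⁻¹ ∈ ((k • S' : Sylow p K) : Subgroup K) :=
    Grp.mem_smul_conj.2 (by simpa [mul_assoc] using hS' (show (⟨x, hX hx⟩ : K) ∈ X.comap K.subtype from hx))
  rw [hk] at h1
  rw [← hS]
  exact ⟨_, h1, rfl⟩

theorem TC.false_of_pGroup_aux (T : TC V t u n M) {p : ℕ} [Fact p.Prime]
    (hone : ∀ r : ℕ, r.Prime → r ≠ p → F r M = ⊥) {z' : G} (hz'F : z' ∈ F p M) (hz'1 : z' ≠ 1)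
    (hz't : t * z' * t⁻¹ = z'⁻¹) (hz'u : Commute u z') : False := by
  have hp2 : p ≠ 2 := by
    rintro rfl
    rw [T.F_two, Subgroup.mem_bot] at hz'F
    exact hz'1 hz'F
  have hFp : F p M ≠ ⊥ := fun e => hz'1 (Subgroup.mem_bot.1 (e ▸ hz'F))
  obtain ⟨Q, hQ⟩ := Grp.exists_isSylowIn p (oddOf M)
  have hFQ : F p M ≤ Q := Klein.le_isSylowIn hQ (O_le p _) (hQ.1.trans (le_normalizer_core' _)) (O_isPGroup p _)
  have hQne : Q ≠ ⊥ := ne_bot_of_le_ne_bot hFp hFQ
  set W := Invol.centerOmega 0 Q with hW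
  have hWne : W ≠ ⊥ := Invol.centerOmega_ne_bot (Or.inl rfl) hQ.2.1 hQne
  have hctrl := Fus.StableOdd.zjControl_of_stable hp2
  have hst := Grp.Quad.isNormalizerPStable_of_free hp2 (T.hyp.qd p hp2)
  -- `Q` is a Sylow subgroup of `M`
  have hQM : Grp.IsSylowIn p Q M := by
    refine ⟨hQ.1.trans (oddOf_le M), hQ.2.1, fun hd => ?_⟩
    obtain ⟨P, hP⟩ := (hQ.2.1.of_equiv (subgroupOfEquivOfLe (hQ.1.trans (oddOf_le M))).symm).exists_le_sylow
    have hPK : (P : Subgroup M).map M.subtype ≤ oddOf M := by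
      rintro _ ⟨y, hy, rfl⟩
      refine T.mem_K y.2 ?_
      obtain ⟨j, hj⟩ := mem_F_of_ppow (P.isPGroup'.map M.subtype) (mem_map_of_mem _ hy)
      exact Odd.of_dvd_nat ((Fact.out : p.Prime).odd_of_ne_two hp2 |>.pow) (orderOf_dvd_of_pow_eq_one hj)
    have hPQ : (P : Subgroup M).map M.subtype ≤ Q := (hQ.eq_of_le (Y := (P : Subgroup M).map M.subtype)
      (fun y hy => ⟨⟨y, hQ.1.trans (oddOf_le M) hy⟩, hP (mem_subgroupOf.2 hy), rfl⟩) hPK
      (P.isPGroup'.map _)).ge
    have heq : Q.subgroupOf M = (P : Subgroup M) := le_antisymm hP fun y hy =>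
      mem_subgroupOf.2 (hPQ ⟨y, hy, rfl⟩)
    rw [relIndex, heq] at hd
    exact P.not_dvd_index hd
  -- `M` normalises `W`
  have hWM : M ≤ normalizer (W : Set G) := by
    intro g hg
    obtain ⟨m, hmM, hmW, hm⟩ := Invol.ZJControl.in_subgroup (hctrl ↥M (Invol.isNormalizerPStable_subgroup hst M))
      hQM (A := (F p M : Set G)) hFQ hg (fun a ha => hFQ (conj_mem (T.M_le_normalizer_F p hg) ha))
    set c := m⁻¹ * g with hc
    have hcM : c ∈ M := mul_mem (inv_mem hmM) hg
    have hcF : ∀ a ∈ F p M, Commute c a := fun a ha => commute_of_conj (by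
      calc m⁻¹ * g * a * (m⁻¹ * g)⁻¹ = m⁻¹ * (g * a * g⁻¹) * m := by group
        _ = a := by rw [← hm a ha]; group)
    have hcF' : ∀ r : ℕ, r.Prime → ∀ a ∈ F r M, Commute c a := by
      intro r hr a ha
      by_cases h : r = p
      · exact hcF a (h ▸ ha)
      · rw [hone r hr h, Subgroup.mem_bot] at ha
        exact ha ▸ Commute.one_right c
    have hcK : c ∈ oddOf M := T.mem_K_of_centralizing hcM hcF'
    have hcW : c ∈ normalizer (W : Set G) := by
      refine Invol.normalizer_le_centerOmega Q (le_normalizer ?_)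
      -- a product of commuting elements of the Fitting subgroup, a `p`-group
      have hcfit : c ∈ Cfsg.fittingOf (oddOf M) := T.mem_fittingOf hcK hcF'
      have hfit : Cfsg.fittingOf (oddOf M) ≤ Q := by
        rw [fittingOf_eq]
        refine iSup_le fun r => ?_
        by_cases h : (r : ℕ) = p
        · rw [h]; exact hFQ
        · exact (hone r r.2 h).le.trans bot_le
      exact hfit hcfit
    have := mul_mem hmW hcW
    rwa [hc, ← mul_assoc, mul_inv_cancel, one_mul] at this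
  have hNW : normalizer (W : Set G) = M :=
    T.normalizer_eq hWne ((Invol.centerOmega_le Q).trans hQM.1) hWM
  -- `Q` is a Sylow subgroup of `G`
  obtain ⟨S, hS⟩ : ∃ S : Sylow p G, (S : Subgroup G) = Q := by
    obtain ⟨S, hS⟩ := hQ.2.1.exists_le_sylow
    refine ⟨S, le_antisymm ?_ hS⟩
    by_contra hlt
    have hlt' : Q < (S : Subgroup G) := lt_of_le_not_ge hS hlt
    refine Klein.not_inf_normalizer_le S.isPGroup' hlt' ?_
    have hle : (S : Subgroup G) ⊓ normalizer (Q : Set G) ≤ M :=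
      inf_le_right.trans ((Invol.normalizer_le_centerOmega Q).trans hNW.le)
    have hQle : Q ≤ (S : Subgroup G) ⊓ normalizer (Q : Set G) := le_inf hS le_normalizer
    exact (hQM.eq_of_le hQle hle (S.isPGroup'.to_le inf_le_left)).ge
  -- the element of `C(t)` conjugate to `z'`
  set z := n⁻¹ * z' * n with hz
  have hzodd : Odd (orderOf z') := odd_orderOf (T.odd_F p) hz'F
  have hzord : orderOf z = orderOf z' := by
    rw [hz, show n⁻¹ * z' * n = MulAut.conj n⁻¹ z' by simp]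
    exact MulEquiv.orderOf_eq (MulAut.conj n⁻¹) z'
  have hzt : Commute z t := by
    have := (hz'u.conj n⁻¹).symm
    rwa [show n⁻¹ * z' * n⁻¹⁻¹ = z by rw [hz]; group, show n⁻¹ * u * n⁻¹⁻¹ = t by rw [← T.hnt]; group] at this
  have hzK : z ∈ oddOf M := T.mem_K_of_commute hzt (hzord ▸ hzodd)
  obtain ⟨k, hk, hk'⟩ : ∃ k ∈ oddOf M, k * z * k⁻¹ ∈ Q := by
    obtain ⟨j, hj⟩ := mem_F_of_ppow (O_isPGroup p (oddOf M)) hz'F
    have hzp : IsPGroup p (zpowers z) := by
      obtain ⟨i, -, hi⟩ := (Nat.dvd_prime_pow (Fact.out : p.Prime)).1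
        (orderOf_dvd_of_pow_eq_one (show z' ^ p ^ j = 1 from hj))
      exact IsPGroup.of_card (n := i) (by rw [Nat.card_zpowers, hzord, hi])
    obtain ⟨k, hk, hk'⟩ := exists_conj_le_sylowIn hQ (zpowers_le.2 hzK) hzp
    exact ⟨k, hk, hk' (mem_conj.2 (mem_zpowers z))⟩
  obtain ⟨m, hm, hmz⟩ := hctrl G hst S {k * z * k⁻¹} (by
      rw [hS]; intro a ha; rw [Set.mem_singleton_iff.1 ha]; exact hk') (n * k⁻¹) (by
      intro a ha
      rw [hS, Set.mem_singleton_iff.1 ha, show n * k⁻¹ * (k * z * k⁻¹) * (n * k⁻¹)⁻¹ = z' by rw [hz]; group]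
      exact hFQ hz'F)
  rw [hS, ← hW, hNW] at hm
  have hgM : m * k ∈ M := mul_mem hm (oddOf_le M hk)
  set g := m * k with hg
  have hgz : g * z * g⁻¹ = z' := by
    have h1 := hmz _ rfl
    calc g * z * g⁻¹ = m * (k * z * k⁻¹) * m⁻¹ := by rw [hg]; group
      _ = z' := by rw [h1, hz]; group
  -- the conjugate of `t` and `u` in the centraliser of `z'`
  set e := g * t * g⁻¹ with he
  have hez : Commute e z' := by
    have := (hzt.symm.conj g)
    rwa [hgz] at this
  -- modulo the core `e` is `t`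
  have hek : ∃ k' ∈ oddOf M, e = k' * t :=
    ⟨g * t * g⁻¹ * t⁻¹, T.three.central g hgM, by rw [he, inv_mul_cancel_right]⟩
  obtain ⟨k', hk'', hek'⟩ := hek
  -- the central involution of the dihedral group
  set d := e * u with hd
  have hde : d = k' * (t * u) := by rw [hd, hek']; group
  have hd2 : d * d ∈ oddOf M := by
    rw [hde, show k' * (t * u) * (k' * (t * u)) = k' * ((t * u) * k' * (t * u)⁻¹) * ((t * u) * (t * u)) by group,
      T.hyp.mul_self T.hyp.tu_mem, mul_one]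
    exact mul_mem hk'' (conj_mem (T.V_le_normalizer T.hyp.tu_mem) hk'')
  set j := orderOf (d * d) with hj
  have hjodd : Odd j := odd_orderOf T.odd_K hd2
  set i := d ^ j with hi
  have hi2 : i * i = 1 := by rw [hi, ← (Commute.refl d).mul_pow, hj, pow_orderOf_eq_one]
  have hee : e * e = 1 := by
    rw [he, show g * t * g⁻¹ * (g * t * g⁻¹) = g * (t * t) * g⁻¹ by group, T.tt]; group
  have hud : u * d * u⁻¹ = d⁻¹ := by
    rw [hd, show (e * u)⁻¹ = u⁻¹ * e⁻¹ by group, inv_eq_self hee, inv_eq_self T.uu,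
      show u * (e * u) * u = u * e * (u * u) by group, T.uu, mul_one]
  have hiu : Commute u i := commute_of_conj (by rw [hi, ← conj_pow, hud, inv_pow, ← hi, inv_eq_self hi2])
  have hiz : Commute i z' := ((hez.mul_left hz'u).pow_left j : _)
  obtain ⟨l, hl⟩ := hjodd
  set k'' := (d * d) ^ l * k' with hk3
  have hik : i = k'' * (t * u) := by
    rw [hi, hl, pow_succ, pow_mul, pow_two, hk3, mul_assoc ((d * d) ^ l) k' (t * u), ← hde]
  have hk3K : k'' ∈ oddOf M := mul_mem (pow_mem hd2 l) hk''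
  have hk3u : Commute u k'' := by
    have h1 : Commute u (i * (t * u)⁻¹) :=
      hiu.mul_right (T.hyp.comm T.hyp.hu T.hyp.tu_mem).inv_right
    rwa [hik, mul_inv_cancel_right] at h1
  have htk : (t * u) * k'' * (t * u)⁻¹ = k''⁻¹ := by
    refine eq_inv_of_mul_eq_one_right ?_
    rw [T.hyp.inv_eq T.hyp.tu_mem]
    rw [hik] at hi2
    rw [← hi2]; group
  obtain ⟨c, hc⟩ := exists_sqrt (odd_orderOf T.odd_K hk3K)
  set s := k'' ^ c with hs
  have hsK : s ∈ oddOf M := pow_mem hk3K c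
  have hts : (t * u) * s * (t * u)⁻¹ = s⁻¹ := by rw [hs, ← conj_pow, htk, inv_pow]
  have hsu : Commute u s := hk3u.pow_right c
  have his : i = s * (t * u) * s⁻¹ := by
    rw [hik, ← hc, show s * (t * u) * s⁻¹ = s * ((t * u) * s⁻¹ * (t * u)⁻¹) * (t * u) by group,
      show (t * u) * s⁻¹ * (t * u)⁻¹ = ((t * u) * s * (t * u)⁻¹)⁻¹ by group, hts, inv_inv]
  -- so a conjugate of `z'` in the core is centralised by the four group
  set z'' := s⁻¹ * z' * s with hz''
  have hz''u : Commute u z'' := (hsu.inv_right.mul_right hz'u).mul_right hsu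
  have hz''tu : Commute (t * u) z'' := by
    have := hiz.conj s⁻¹
    rwa [his, show s⁻¹ * (s * (t * u) * s⁻¹) * s⁻¹⁻¹ = t * u by group,
      show s⁻¹ * z' * s⁻¹⁻¹ = z'' by rw [hz'']; group] at this
  have hz''t : Commute t z'' := by
    have := hz''tu.mul_left hz''u
    rwa [mul_assoc, T.uu, mul_one] at this
  refine hz'1 (eq_one_of_real T.odd_K (g := (t * s * t⁻¹) * s⁻¹)
    (mul_mem (conj_mem (T.V_le_normalizer T.hyp.ht) hsK) (inv_mem hsK)) (O_le p _ hz'F) ?_)
  calc t * s * t⁻¹ * s⁻¹ * z' * (t * s * t⁻¹ * s⁻¹)⁻¹ = t * (s * (t⁻¹ * z'' * t) * s⁻¹) * t⁻¹ := by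
        rw [hz'']; group
    _ = t * (s * z'' * s⁻¹) * t⁻¹ := by rw [inv_eq_self T.tt, hz''t.eq, mul_assoc z'' t t, T.tt, mul_one]
    _ = z'⁻¹ := by rw [hz'', show s * (s⁻¹ * z' * s) * s⁻¹ = z' by group, hz't]

theorem TC.false_of_pGroup (T : TC V t u n M) {p : ℕ} [Fact p.Prime]
    (hone : ∀ r : ℕ, r.Prime → r ≠ p → F r M = ⊥) : False := by
  obtain ⟨q, hq⟩ := T.mu_nonempty
  have hqp : q = p := by
    by_contra h
    exact T.F_ne_bot_of_mu hq (hone q hq.1 h)
  obtain ⟨x, hx, hx1, hxt, hxu | hxu⟩ := T.exists_inverted hq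
  · exact T.false_of_pGroup_aux hone (hqp ▸ hx) hx1 hxt hxu
  · exact T.swap.false_of_pGroup_aux hone (hqp ▸ hx) hx1 hxt hxu

end Cfsg.Agent.Invol.GW.ThreeClass
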