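import Cfsg.Agent.Lib.Invol.GW.Klein.Setup
import Cfsg.Agent.Lib.Grp.Coprime
import Cfsg.Agent.Lib.Grp.CoprimeAbelian
import Cfsg.Agent.Lib.Grp.Solvable
import Cfsg.Agent.Lib.Grp.PComponents
import Cfsg.Agent.Lib.Invol.IsolatedPMinimal

/-!
# Cores of subgroups inside the group, for the Klein four configuration

`opOf l H` is the `l`-core of `H` and `omZ l Y` the elements of order dividing `l` of the centre of `Y`, both as
subgroups of the group.
-/

set_option autoImplicit false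
set_option linter.unusedSectionVars false

namespace Cfsg.Agent.Invol.GW.Klein

open Subgroup
open scoped Pointwise commutatorElement

universe u

variable {G : Type u} [Group G]

/-- The `l`-core of a subgroup, inside the group. -/
def opOf (l : ℕ) (H : Subgroup G) : Subgroup G := (Cfsg.pCore l ↥H).map H.subtype

/-- The elements of order dividing `l` in the centre of `Y`, inside the group. -/
def omZ (l : ℕ) (Y : Subgroup G) : Subgroup G where
  carrier := {x | x ∈ Y ∧ (∀ y ∈ Y, Commute x y) ∧ x ^ l = 1}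
  one_mem' := ⟨one_mem _, fun y _ => Commute.one_left y, one_pow l⟩
  mul_mem' := fun {a b} ha hb => ⟨mul_mem ha.1 hb.1, fun y hy => (ha.2.1 y hy).mul_left (hb.2.1 y hy),
    by rw [(ha.2.1 b hb.1).mul_pow, ha.2.2, hb.2.2, one_mul]⟩
  inv_mem' := fun {a} ha => ⟨inv_mem ha.1, fun y hy => (ha.2.1 y hy).inv_left,
    by rw [inv_pow, ha.2.2, inv_one]⟩

theorem mem_omZ {l : ℕ} {Y : Subgroup G} {x : G} :
    x ∈ omZ l Y ↔ x ∈ Y ∧ (∀ y ∈ Y, Commute x y) ∧ x ^ l = 1 := Iff.rfl

theorem omZ_le (l : ℕ) (Y : Subgroup G) : omZ l Y ≤ Y := fun _ hx => hx.1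

theorem normalizer_le_omZ (l : ℕ) (Y : Subgroup G) :
    normalizer (Y : Set G) ≤ normalizer (omZ l Y : Set G) := by
  intro g hg
  have key : ∀ g ∈ normalizer (Y : Set G), ∀ x ∈ omZ l Y, g * x * g⁻¹ ∈ omZ l Y := by
    intro g hg x hx
    refine ⟨(mem_normalizer_iff.1 hg x).1 hx.1, fun y hy => ?_, by rw [conj_pow, hx.2.2, mul_one, mul_inv_cancel]⟩
    have := (hx.2.1 (g⁻¹ * y * g) (by simpa using (mem_normalizer_iff.1 (inv_mem hg) y).1 hy)).conj g
    rwa [show g * (g⁻¹ * y * g) * g⁻¹ = y by group] at this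
  exact mem_normalizer_iff.2 fun x => ⟨key g hg x, fun hx => by
    simpa [mul_assoc] using key g⁻¹ (inv_mem hg) _ hx⟩

theorem opOf_le (l : ℕ) (H : Subgroup G) : opOf l H ≤ H := map_subtype_le _

theorem conj_mem_opOf (l : ℕ) {H : Subgroup G} {g x : G} (hg : g ∈ H) (hx : x ∈ opOf l H) :
    g * x * g⁻¹ ∈ opOf l H := by
  obtain ⟨y, hy, rfl⟩ := hx
  exact ⟨⟨g, hg⟩ * y * ⟨g, hg⟩⁻¹, (Grp.pCore_isNormal (p := l) (G := ↥H)).conj_mem y hy _, rfl⟩

theorem le_normalizer_opOf (l : ℕ) (H : Subgroup G) : H ≤ normalizer (opOf l H : Set G) := fun g hg =>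
  mem_normalizer_iff.2 fun x => ⟨conj_mem_opOf l hg, fun hx => by
    simpa [mul_assoc] using conj_mem_opOf l (inv_mem hg) hx⟩

variable [Finite G]

theorem omZ_ne_bot {l : ℕ} [Fact l.Prime] {Y : Subgroup G} (hY : IsPGroup l Y) (h1 : Y ≠ ⊥) :
    omZ l Y ≠ ⊥ := by
  haveI : Nontrivial ↥Y := (Subgroup.nontrivial_iff_ne_bot Y).2 h1
  haveI := hY.center_nontrivial
  obtain ⟨c, hc1⟩ := exists_ne (1 : Subgroup.center ↥Y)
  obtain ⟨k, hk⟩ := IsPGroup.iff_card.1 (hY.to_subgroup (Subgroup.center ↥Y))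
  have hdvd : l ∣ Nat.card (Subgroup.center ↥Y) := by
    rcases Nat.eq_zero_or_pos k with rfl | hk0
    · rw [pow_zero] at hk
      exact absurd ((Nat.card_eq_one_iff_unique.1 hk).1.elim c 1) hc1
    · exact hk ▸ dvd_pow_self l hk0.ne'
  obtain ⟨z, hz⟩ := exists_prime_orderOf_dvd_card' l hdvd
  refine fun hbot => ?_
  have hmem : ((z : ↥Y) : G) ∈ omZ l Y := by
    refine ⟨(z : ↥Y).2, fun y hy => ?_, ?_⟩
    · exact (congrArg Subtype.val (Subgroup.mem_center_iff.1 z.2 ⟨y, hy⟩)).symm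
    · rw [← SubgroupClass.coe_pow, ← SubgroupClass.coe_pow, ← hz, pow_orderOf_eq_one]
      rfl
  rw [hbot, mem_bot] at hmem
  have : z = 1 := Subtype.ext (Subtype.ext hmem)
  rw [this, orderOf_one] at hz
  exact (Fact.out : l.Prime).one_lt.ne hz

theorem isPGroup_opOf (l : ℕ) (H : Subgroup G) : IsPGroup l (opOf l H) :=
  (Grp.pCore_isPGroup (p := l)).map _

/-- A `p`-subgroup normalised by `H` lies in the `p`-core of `H`. -/
theorem le_opOf {l : ℕ} {H K : Subgroup G} (hK : K ≤ H) (hn : H ≤ normalizer (K : Set G))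
    (hp : IsPGroup l K) : K ≤ opOf l H := by
  rw [opOf, ← map_subgroupOf_eq_of_le hK]
  exact map_mono (Grp.le_pCore (normal_subgroupOf_of_le_normalizer hn)
    (hp.of_equiv (subgroupOfEquivOfLe hK).symm))

theorem normalizer_le_normalizer_opOf (l : ℕ) (H : Subgroup G) :
    normalizer (H : Set G) ≤ normalizer (opOf l H : Set G) := by
  haveI : (Cfsg.pCore l ↥H).Characteristic := by
    refine Subgroup.characteristic_iff_map_le.2 fun φ => ?_
    exact Grp.le_pCore ((Grp.pCore_isNormal (p := l) (G := ↥H)).map φ.toMonoidHom φ.surjective)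
      ((Grp.pCore_isPGroup (p := l) (G := ↥H)).map _)
  exact Isolated.normalizer_le_map_char H _

/-- A normal `p`-subgroup lies in every Sylow subgroup. -/
theorem le_isSylowIn {l : ℕ} [Fact l.Prime] {X K N : Subgroup G} (hX : Grp.IsSylowIn l X K) (hNK : N ≤ K)
    (hn : X ≤ normalizer (N : Set G)) (hN : IsPGroup l N) : N ≤ X := by
  have h := hX.eq_of_le (Y := X ⊔ N) le_sup_left (sup_le hX.1 hNK) (by
    rw [sup_comm]; exact hN.to_sup_of_normal_left' hX.2.1 hn)
  exact h ▸ le_sup_right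

theorem opOf_le_isSylowIn {l : ℕ} [Fact l.Prime] {X K : Subgroup G} (hX : Grp.IsSylowIn l X K) :
    opOf l K ≤ X :=
  le_isSylowIn hX (opOf_le l K) (hX.1.trans (le_normalizer_opOf l K)) (isPGroup_opOf l K)

theorem fittingSubgroup_map_eq_iSup (K : Subgroup G) :
    (Cfsg.fittingSubgroup ↥K).map K.subtype = ⨆ p : Nat.Primes, opOf (p : ℕ) K := by
  rw [Grp.fittingSubgroup_eq_iSup_pCore, Subgroup.map_iSup]
  rfl

/-- What centralises all the cores of a soluble subgroup, and lies in it, lies in its Fitting subgroup. -/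
theorem mem_fitting_of_commute {K : Subgroup G} [Group.IsSolvable ↥K] {x : G} (hx : x ∈ K)
    (hc : ∀ p : ℕ, p.Prime → ∀ y ∈ opOf p K, Commute x y) :
    x ∈ (Cfsg.fittingSubgroup ↥K).map K.subtype := by
  refine ⟨⟨x, hx⟩, Grp.centralizer_fittingSubgroup_le (mem_centralizer_iff.2 fun y hy => Subtype.ext ?_), rfl⟩
  have hle : (Cfsg.fittingSubgroup ↥K).map K.subtype ≤ centralizer ({x} : Set G) := by
    rw [fittingSubgroup_map_eq_iSup]
    exact iSup_le fun p y hy => mem_centralizer_singleton_iff.2 (hc p p.2 y hy).eq.symm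
  exact mem_centralizer_singleton_iff.1 (hle ⟨y, hy, rfl⟩)

/-- An element of prime power order of the Fitting subgroup lies in that core. -/
theorem mem_opOf_of_mem_fitting {s : ℕ} [Fact s.Prime] {K : Subgroup G} {x : G}
    (hx : x ∈ (Cfsg.fittingSubgroup ↥K).map K.subtype) {k : ℕ} (hs : x ^ s ^ k = 1) : x ∈ opOf s K := by
  obtain ⟨y, hy, rfl⟩ := hx
  haveI := Grp.fittingSubgroup_isNilpotent (G := ↥K)
  haveI := Grp.fittingSubgroup_isNormal (G := ↥K)
  have hy1 : y ^ s ^ k = 1 := Subtype.ext hs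
  obtain ⟨P, hP⟩ : ∃ P : Sylow s ↥(Cfsg.fittingSubgroup ↥K),
      Subgroup.zpowers (⟨y, hy⟩ : ↥(Cfsg.fittingSubgroup ↥K)) ≤ P := by
    refine IsPGroup.exists_le_sylow (fun g => ⟨k, ?_⟩)
    obtain ⟨i, hi⟩ := Subgroup.mem_zpowers_iff.1 g.2
    refine Subtype.ext (Subtype.ext ?_)
    rw [SubgroupClass.coe_pow, ← hi, SubgroupClass.coe_pow, SubgroupClass.coe_zpow,
      ← zpow_natCast, ← zpow_mul, mul_comm, zpow_mul, zpow_natCast, hy1, one_zpow]
    rfl
  haveI : (P : Subgroup ↥(Cfsg.fittingSubgroup ↥K)).Normal :=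
    Grp.isNilpotent_iff_sylow_normal.1 inferInstance s inferInstance P
  haveI := P.characteristic_of_normal inferInstance
  refine ⟨y, Grp.le_pCore (ConjAct.normal_of_characteristic_of_normal) (P.isPGroup'.map _)
    ⟨⟨y, hy⟩, hP (Subgroup.mem_zpowers _), rfl⟩, rfl⟩

/-- An abelian-coprime operator group centralising all the cores of a soluble group centralises it. -/
theorem le_centralizer_of_cores {A K : Subgroup G} [Group.IsSolvable ↥K]
    (hAK : A ≤ normalizer (K : Set G)) (hcop : (Nat.card A).Coprime (Nat.card K))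
    (hc : ∀ p : ℕ, p.Prime → ∀ y ∈ opOf p K, ∀ a ∈ A, Commute a y) :
    A ≤ centralizer (K : Set G) := by
  have hA : ∀ a ∈ A, ∀ y ∈ (Cfsg.fittingSubgroup ↥K).map K.subtype, Commute a y := by
    intro a ha y hy
    have hle : (Cfsg.fittingSubgroup ↥K).map K.subtype ≤ centralizer ({a} : Set G) := by
      rw [fittingSubgroup_map_eq_iSup]
      exact iSup_le fun p y hy => mem_centralizer_singleton_iff.2 (hc p p.2 y hy a ha).eq.symm
    exact (mem_centralizer_singleton_iff.1 (hle hy)).symm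
  refine Grp.le_centralizer_of_series A K ((Cfsg.fittingSubgroup ↥K).map K.subtype) hAK hcop
    (Or.inr inferInstance) (Subgroup.commutator_le.2 fun k hk a ha => ?_) ?_
  · have hmem : ⁅k, a⁆ ∈ K :=
      Grp.commutator_le_left_of_le_normalizer hAK (commutator_mem_commutator hk ha)
    refine mem_fitting_of_commute hmem fun p hp y hy => ?_
    have hy1 : a * y * a⁻¹ = y := by rw [(hc p hp y hy a ha).eq, mul_inv_cancel_right]
    have hy2 : a * (k⁻¹ * y * k) * a⁻¹ = k⁻¹ * y * k := by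
      have := conj_mem_opOf p (inv_mem hk) hy
      rw [inv_inv] at this
      rw [(hc p hp _ this a ha).eq, mul_inv_cancel_right]
    rw [commutatorElement_def]
    calc k * a * k⁻¹ * a⁻¹ * y = k * (a * (k⁻¹ * (a⁻¹ * y * a) * k) * a⁻¹) * k⁻¹ * (k * a * k⁻¹ * a⁻¹) := by
          group
      _ = k * (a * (k⁻¹ * y * k) * a⁻¹) * k⁻¹ * (k * a * k⁻¹ * a⁻¹) := by
          rw [show a⁻¹ * y * a = y by
            rw [mul_assoc, ← (hc p hp y hy a ha).eq, inv_mul_cancel_left]]
      _ = y * (k * a * k⁻¹ * a⁻¹) := by rw [hy2]; group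
  · rw [Subgroup.commutator_comm, Subgroup.commutator_eq_bot_iff_le_centralizer]
    exact fun a ha => mem_centralizer_iff.2 fun y hy => (hA a ha y hy).eq.symm

/-- In a soluble group an element of order prime to `l` centralising a Sylow `l`-subgroup lies in the
`l'`-core. -/
theorem mem_pPrimeCore_of_centralizes {H : Type*} [Group H] [Finite H] [Group.IsSolvable H] {l : ℕ}
    [Fact l.Prime] (P : Sylow l H) {x : H} (hx : ∀ y ∈ P, Commute x y) (ho : (orderOf x).Coprime l) :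
    x ∈ Cfsg.pPrimeCore l H := by
  haveI := Grp.pPrimeCore_isNormal (p := l) (G := H)
  set f := QuotientGroup.mk' (Cfsg.pPrimeCore l H) with hf
  have hfs : Function.Surjective f := QuotientGroup.mk'_surjective _
  haveI : Group.IsSolvable (H ⧸ Cfsg.pPrimeCore l H) := Group.isSolvable_of_surjective (f := f) hfs
  have hmem : f x ∈ Cfsg.pCore l (H ⧸ Cfsg.pPrimeCore l H) :=
    Grp.centralizer_pCore_le Grp.pPrimeCore_quotient_bot (mem_centralizer_iff.2 fun y hy => by
      obtain ⟨z, hz, rfl⟩ := Grp.pCore_le_sylow (P.mapSurjective hfs) hy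
      exact ((hx z hz).map f).eq.symm)
  obtain ⟨k, hk⟩ := (Grp.pCore_isPGroup (p := l)) ⟨f x, hmem⟩
  have h1 : orderOf (f x) ∣ l ^ k := orderOf_dvd_of_pow_eq_one (congrArg Subtype.val hk)
  have h2 : orderOf (f x) ∣ orderOf x := orderOf_map_dvd f x
  have h3 : orderOf (f x) = 1 := Nat.eq_one_of_dvd_coprimes (ho.pow_right k) h2 h1
  rwa [orderOf_eq_one_iff, hf, QuotientGroup.mk'_apply, QuotientGroup.eq_one_iff] at h3

/-- An involution of a subgroup over a Sylow subgroup has a conjugate in it. -/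
theorem exists_conj_mem_sylow {p : ℕ} [Fact p.Prime] (P : Sylow p G) {X : Subgroup G}
    (hPX : (P : Subgroup G) ≤ X) {s : G} (hs : s ∈ X) (ho : orderOf s = p) :
    ∃ x ∈ X, x * s * x⁻¹ ∈ (P : Subgroup G) := by
  have hp : IsPGroup p (Subgroup.zpowers (⟨s, hs⟩ : ↥X)) :=
    isPGroup_zpowers (n := 1) (by rw [Subgroup.orderOf_mk, ho, pow_one])
  obtain ⟨Q, hQ⟩ := hp.exists_le_sylow
  obtain ⟨x, hx⟩ := MulAction.exists_smul_eq ↥X Q (P.subtype hPX)
  refine ⟨x, x.2, ?_⟩
  have h1 : x * (⟨s, hs⟩ : ↥X) * x⁻¹ ∈ (P.subtype hPX : Subgroup ↥X) := by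
    rw [← hx, Sylow.coe_subgroup_smul]
    exact ⟨_, hQ (Subgroup.mem_zpowers _), rfl⟩
  exact mem_subgroupOf.1 h1

end Cfsg.Agent.Invol.GW.Klein
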