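import Cfsg.Agent.Lib.Invol.KleinSylow
import Cfsg.Agent.Lib.Block.KleinFour
import Cfsg.Agent.Lib.Grp.Cores
import Cfsg.Agent.Lib.Transfer.NormalComplement
import Cfsg.Agent.S0205
import Cfsg.Prelude.Def_CaseTheorems

/-!
# Gorenstein–Walter, Klein four Sylow subgroup: the configuration

`Hyp V t u`: a finite simple group with Sylow 2-subgroup `V = {1, t, u, t * u}`, one class of involutions and known
proper subgroups over `V`.  `coreCent t` is the core `U` of the centraliser of `t`, `fixR t u` the group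
`R = C_U(u)`; maximality of the centraliser is the separate hypothesis `IsCoatom (centralizer {t})`.

A proper subgroup over `V` either has a normal complement of `V` (`ThreeClass`) or fuses `V`, and then it is modulo
its core `A₄` or almost `PSL₂(q)`, `q ≥ 5` odd (`A4Kind`, `LinearKind`).
-/

set_option autoImplicit false
set_option linter.unusedSectionVars false

namespace Cfsg.Agent.Invol.GW.Klein

open Subgroup

universe u

variable {G : Type u} [Group G]

/-- The core of a subgroup, inside the group. -/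
def oddOf (H : Subgroup G) : Subgroup G := (Cfsg.oddCore ↥H).map H.subtype

/-- The core of the centraliser of an element. -/
def coreCent (t : G) : Subgroup G := oddOf (centralizer ({t} : Set G))

/-- The elements of the core of `C(t)` centralising `u`. -/
def fixR (t u : G) : Subgroup G := coreCent t ⊓ centralizer ({u} : Set G)

/-- `L` is its core times `V`: three classes of involutions. -/
def ThreeClass (V L : Subgroup G) : Prop := L ≤ oddOf L ⊔ V

/-- `L` has the shape `A₄` modulo its core. -/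
def A4Kind (V L : Subgroup G) : Prop :=
  L ≤ normalizer ((oddOf L ⊔ V : Subgroup G) : Set G) ∧ (oddOf L ⊔ V).relIndex L = 3

/-- `L` has modulo its core a normal subgroup `PSL₂(q)`, `q ≥ 5` odd, of odd index. -/
def LinearKind (L : Subgroup G) : Prop :=
  ∃ (N : Subgroup ↥L) (F : Type) (_ : Field F) (_ : Fintype F),
    N.Normal ∧ Odd N.index ∧ Cfsg.oddCore ↥L ≤ N ∧ Odd (Fintype.card F) ∧ 5 ≤ Fintype.card F ∧
    ∃ π : ↥N →* Matrix.ProjectiveSpecialLinearGroup (Fin 2) F,
      Function.Surjective π ∧ π.ker = (Cfsg.oddCore ↥L).subgroupOf N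

/-- The configuration: simple, Klein four Sylow subgroup, one class of involutions, known proper subgroups. -/
structure Hyp (V : Sylow 2 G) (t u : G) : Prop where
  simple : IsSimpleGroup G
  klein : IsKleinFour (V : Subgroup G)
  ht : t ∈ (V : Subgroup G)
  hu : u ∈ (V : Subgroup G)
  ht1 : t ≠ 1
  hu1 : u ≠ 1
  htu : t ≠ u
  one : ∀ s s' : G, orderOf s = 2 → orderOf s' = 2 → IsConj s s'
  known : ∀ L : Subgroup G, L ≠ ⊤ → (V : Subgroup G) ≤ L →
    ThreeClass (V : Subgroup G) L ∨ A4Kind (V : Subgroup G) L ∨ LinearKind L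

theorem oddOf_le (H : Subgroup G) : oddOf H ≤ H := map_subtype_le _

theorem conj_mem_oddOf {H : Subgroup G} {g x : G} (hg : g ∈ H) (hx : x ∈ oddOf H) : g * x * g⁻¹ ∈ oddOf H := by
  obtain ⟨y, hy, rfl⟩ := hx
  exact ⟨⟨g, hg⟩ * y * ⟨g, hg⟩⁻¹, (Grp.pPrimeCore_isNormal (p := 2) (G := ↥H)).conj_mem y hy _, rfl⟩

theorem le_normalizer_oddOf (H : Subgroup G) : H ≤ normalizer (oddOf H : Set G) := fun g hg =>
  mem_normalizer_iff.2 fun x => ⟨conj_mem_oddOf hg, fun hx => by
    simpa [mul_assoc] using conj_mem_oddOf (inv_mem hg) hx⟩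

/-- An element of `A ⊔ B` is a product when `B` normalises `A`. -/
theorem exists_mul_of_sup {A B : Subgroup G} (hn : B ≤ normalizer (A : Set G)) {x : G} (hx : x ∈ A ⊔ B) :
    ∃ a ∈ A, ∃ b ∈ B, a * b = x := by
  have h1 : x⁻¹ ∈ (↑(B ⊔ A) : Set G) := by
    rw [sup_comm]
    exact inv_mem hx
  rw [coe_mul_of_left_le_normalizer_right B A hn] at h1
  obtain ⟨b, hb, a, ha, e⟩ := Set.mem_mul.1 h1
  exact ⟨a⁻¹, inv_mem ha, b⁻¹, inv_mem hb, by rw [← mul_inv_rev, e, inv_inv]⟩

variable [Finite G]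

theorem odd_card_oddOf (H : Subgroup G) : Odd (Nat.card ↥(oddOf H)) := by
  haveI : Fact (Nat.Prime 2) := ⟨Nat.prime_two⟩
  rw [oddOf, card_map_of_injective H.subtype_injective, Nat.odd_iff]
  have := Grp.pPrimeCore_not_dvd (p := 2) (G := ↥H)
  change Nat.card ↥(Cfsg.pPrimeCore 2 ↥H) % 2 = 1
  omega

/-- An odd subgroup normalised by `H` lies in the core of `H`. -/
theorem le_oddOf {H K : Subgroup G} (hK : K ≤ H) (hn : H ≤ normalizer (K : Set G))
    (hodd : Odd (Nat.card ↥K)) : K ≤ oddOf H := by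
  rw [oddOf, ← map_subgroupOf_eq_of_le hK]
  refine map_mono (Grp.le_pPrimeCore (normal_subgroupOf_of_le_normalizer hn) ?_)
  rw [Nat.card_congr (subgroupOfEquivOfLe hK).toEquiv]
  exact Nat.coprime_two_right.2 hodd

theorem isSolvable_of_odd {K : Subgroup G} (hK : Odd (Nat.card ↥K)) : Group.IsSolvable ↥K :=
  Cfsg.Agent.S0205.result hK

theorem odd_of_le {K L : Subgroup G} (h : K ≤ L) (hL : Odd (Nat.card ↥L)) : Odd (Nat.card ↥K) :=
  Odd.of_dvd_nat hL (card_dvd_of_le h)

theorem eq_one_of_odd {K : Subgroup G} (hK : Odd (Nat.card ↥K)) {x : G} (hx : x ∈ K) (h2 : x * x = 1) : x = 1 := by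
  have h1 : orderOf x ∣ 2 := orderOf_dvd_of_pow_eq_one (by rw [pow_two]; exact h2)
  have h3 : Odd (orderOf x) := Odd.of_dvd_nat hK (K.orderOf_dvd_natCard hx)
  rcases (Nat.dvd_prime Nat.prime_two).1 h1 with e | e
  · exact orderOf_eq_one_iff.1 e
  · rw [e] at h3
    exact absurd h3 (by decide)

/-- A four group with no fusion in its normaliser has a normal complement in every group over it. -/
theorem threeClass_or_fuse (V : Sylow 2 G) (hV : IsKleinFour (V : Subgroup G)) {L : Subgroup G}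
    (hVL : (V : Subgroup G) ≤ L) :
    ThreeClass (V : Subgroup G) L ∨ ∃ n ∈ L ⊓ normalizer ((V : Subgroup G) : Set G),
      ∃ a ∈ (V : Subgroup G), n * a * n⁻¹ ≠ a := by
  by_cases hn : ∃ n ∈ L ⊓ normalizer ((V : Subgroup G) : Set G), ∃ a ∈ (V : Subgroup G), n * a * n⁻¹ ≠ a
  · exact Or.inr hn
  push Not at hn
  refine Or.inl ?_
  haveI : Fact (Nat.Prime 2) := ⟨Nat.prime_two⟩
  let Q : Sylow 2 ↥L := V.subtype hVL
  have hQ : (Q : Subgroup ↥L) = (V : Subgroup G).subgroupOf L := rfl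
  have hmemQ : ∀ w : ↥L, w ∈ (Q : Subgroup ↥L) ↔ (w : G) ∈ (V : Subgroup G) := fun w => by
    rw [hQ]; exact mem_subgroupOf
  have hN : normalizer ((Q : Subgroup ↥L) : Set ↥L) ≤ centralizer ((Q : Subgroup ↥L) : Set ↥L) := by
    intro n hn'
    have hnV : (n : G) ∈ normalizer ((V : Subgroup G) : Set G) := mem_normalizer_iff.2 fun y => by
      constructor
      · intro hy
        exact (hmemQ _).1 ((mem_normalizer_iff.1 hn' ⟨y, hVL hy⟩).1 ((hmemQ _).2 hy))
      · intro hy
        have h1 : y ∈ L := by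
          have := mul_mem (mul_mem (inv_mem n.2) (hVL hy)) n.2
          simpa [mul_assoc] using this
        exact (hmemQ ⟨y, h1⟩).1 ((mem_normalizer_iff.1 hn' ⟨y, h1⟩).2 ((hmemQ _).2 hy))
    refine mem_centralizer_iff.2 fun w hw => Subtype.ext ?_
    exact (mul_inv_eq_iff_eq_mul.1 (hn _ ⟨n.2, hnV⟩ _ ((hmemQ w).1 hw))).symm
  have hcomp := MonoidHom.ker_transferSylow_isComplement' Q hN
  set K := (MonoidHom.transferSylow Q hN).ker
  have hKn : K.Normal := MonoidHom.normal_ker _
  have hodd : ¬ 2 ∣ Nat.card ↥K := MonoidHom.not_dvd_card_ker_transferSylow Q hN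
  have hK : K ≤ Cfsg.oddCore ↥L := Grp.le_pPrimeCore hKn
    (Nat.coprime_comm.1 (Nat.prime_two.coprime_iff_not_dvd.2 hodd))
  intro x hx
  have htop := hcomp.sup_eq_top
  have hx' : (⟨x, hx⟩ : ↥L) ∈ K ⊔ (Q : Subgroup ↥L) := htop ▸ mem_top _
  have := mem_map_of_mem L.subtype hx'
  rw [Subgroup.map_sup] at this
  refine sup_le_sup (map_mono hK) ?_ this
  rintro _ ⟨w, hw, rfl⟩
  exact (hmemQ w).1 hw

namespace Hyp

variable {V : Sylow 2 G} {t u : G} (h : Hyp V t u)
include h

theorem orderOf_eq {x : G} (hx : x ∈ (V : Subgroup G)) (hx1 : x ≠ 1) : orderOf x = 2 :=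
  klein_orderOf V h.klein hx hx1

theorem comm {x y : G} (hx : x ∈ (V : Subgroup G)) (hy : y ∈ (V : Subgroup G)) : Commute x y :=
  klein_comm V h.klein hx hy

theorem mul_self {x : G} (hx : x ∈ (V : Subgroup G)) : x * x = 1 := by
  haveI := h.klein
  exact congrArg Subtype.val (IsKleinFour.mul_self (⟨x, hx⟩ : (V : Subgroup G)))

theorem inv_eq {x : G} (hx : x ∈ (V : Subgroup G)) : x⁻¹ = x := inv_eq_of_mul_eq_one_right (h.mul_self hx)

theorem tu_mem : t * u ∈ (V : Subgroup G) := mul_mem h.ht h.hu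

theorem tu_ne_one : t * u ≠ 1 := fun e => h.htu ((mul_eq_one_iff_eq_inv.1 e).trans (h.inv_eq h.hu))

theorem tu_ne_left : t * u ≠ t := fun e => h.hu1 (mul_eq_left.1 e)

theorem tu_ne_right : t * u ≠ u := fun e => h.ht1 (mul_eq_right.1 e)

theorem mem_iff {x : G} : x ∈ (V : Subgroup G) ↔ x = 1 ∨ x = t ∨ x = u ∨ x = t * u := by
  refine ⟨fun hx => ?_, ?_⟩
  · by_contra hne
    push Not at hne
    haveI := h.klein
    refine hne.2.2.2 (congrArg Subtype.val (IsKleinFour.eq_mul_of_ne_all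
      (x := (⟨t, h.ht⟩ : (V : Subgroup G))) (y := ⟨u, h.hu⟩) (z := ⟨x, hx⟩)
      (fun e => h.ht1 (congrArg Subtype.val e)) (fun e => h.hu1 (congrArg Subtype.val e))
      (fun e => h.htu (congrArg Subtype.val e)) (fun e => hne.1 (congrArg Subtype.val e))
      (fun e => hne.2.1 (congrArg Subtype.val e)) (fun e => hne.2.2.1 (congrArg Subtype.val e))))
  · rintro (rfl | rfl | rfl | rfl)
    exacts [one_mem _, h.ht, h.hu, h.tu_mem]

theorem symm : Hyp V u t := ⟨h.simple, h.klein, h.hu, h.ht, h.hu1, h.ht1, Ne.symm h.htu, h.one, h.known⟩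

theorem shift : Hyp V u (t * u) :=
  ⟨h.simple, h.klein, h.hu, h.tu_mem, h.hu1, h.tu_ne_one, Ne.symm h.tu_ne_right, h.one, h.known⟩

theorem swap : Hyp V t (t * u) :=
  ⟨h.simple, h.klein, h.ht, h.tu_mem, h.ht1, h.tu_ne_one, Ne.symm h.tu_ne_left, h.one, h.known⟩

/-- A subgroup over `V` with one class moves `t` to `u` and `u` to `t * u` inside the normaliser of `V`. -/
theorem exists_fuse {L : Subgroup G} (hVL : (V : Subgroup G) ≤ L) (hL : ¬ ThreeClass (V : Subgroup G) L) :
    ∃ n ∈ L ⊓ normalizer ((V : Subgroup G) : Set G), n * t * n⁻¹ = u ∧ n * u * n⁻¹ = t * u := by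
  obtain ⟨n, ⟨hnL, hnN⟩, a, ha, hna⟩ := (threeClass_or_fuse V h.klein hVL).resolve_left hL
  -- the odd part of `n` moves `t`
  obtain ⟨k, o, ho, hord⟩ := Nat.exists_eq_two_pow_mul_odd (orderOf_pos n).ne'
  haveI : Fact (Nat.Prime 2) := ⟨Nat.prime_two⟩
  have hmem : ∀ {g : G}, g ∈ normalizer ((V : Subgroup G) : Set G) → ∀ {x : G}, x ∈ (V : Subgroup G) →
      g * x * g⁻¹ ∈ (V : Subgroup G) := fun {_} hg {x} hx => (mem_normalizer_iff.1 hg x).1 hx
  have hfix : ∀ g : G, g ∈ normalizer ((V : Subgroup G) : Set G) → g * t * g⁻¹ = t → g * u * g⁻¹ = u →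
      ∀ x ∈ (V : Subgroup G), g * x * g⁻¹ = x := fun g _ h1 h2 x hx => by
    rcases h.mem_iff.1 hx with rfl | rfl | rfl | rfl
    · group
    · exact h1
    · exact h2
    · rw [show g * (t * u) * g⁻¹ = (g * t * g⁻¹) * (g * u * g⁻¹) by group, h1, h2]
  -- the 2-part of `n` lies in `V`
  have hno : n ^ o ∈ (V : Subgroup G) := by
    have ho2 : orderOf (n ^ o) = 2 ^ k := by
      rw [orderOf_pow' _ (by obtain ⟨j, rfl⟩ := ho; omega), hord, Nat.gcd_eq_right (dvd_mul_left o _),
        Nat.mul_div_cancel _ (by obtain ⟨j, rfl⟩ := ho; omega)]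
    have hp : IsPGroup 2 (zpowers (n ^ o)) := isPGroup_zpowers ho2
    have hle : zpowers (n ^ o) ≤ V := by
      rw [← inf_eq_left, ← hp.inf_normalizer_sylow, inf_eq_left, zpowers_le]
      exact pow_mem hnN o
    exact hle (mem_zpowers _)
  have hpow : ∀ x ∈ (V : Subgroup G), n ^ o * x * (n ^ o)⁻¹ = x := fun x hx => by
    rw [(h.comm hno hx).eq, mul_inv_cancel_right]
  -- an element of `V` fixed by `n` is one
  have key : ∀ x ∈ (V : Subgroup G), x ≠ 1 → n * x * n⁻¹ ≠ x := by
    intro x hx hx1 hfx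
    have ha1 : a ≠ 1 := fun e => hna (by rw [e]; group)
    have hne : a ≠ x := fun e => hna (e ▸ hfx)
    -- the other two are interchanged, which the odd part cannot do
    have himg : ∀ y ∈ (V : Subgroup G), y ≠ 1 → y ≠ x → n * y * n⁻¹ ≠ y → n * (n * y * n⁻¹) * n⁻¹ = y := by
      intro y hy hy1 hyx hny
      have h1 := hmem hnN hy
      have h2 := hmem hnN h1
      have h11 : n * y * n⁻¹ ≠ 1 := by rwa [ne_eq, conj_eq_one_iff]
      have h1x : n * y * n⁻¹ ≠ x := fun e => hyx (mul_left_cancel (mul_right_cancel (e.trans hfx.symm)))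
      have h21 : n * (n * y * n⁻¹) * n⁻¹ ≠ 1 := by rwa [ne_eq, conj_eq_one_iff]
      have h2x : n * (n * y * n⁻¹) * n⁻¹ ≠ x := fun e => h1x (mul_left_cancel (mul_right_cancel (e.trans hfx.symm)))
      have h2n : n * (n * y * n⁻¹) * n⁻¹ ≠ n * y * n⁻¹ := fun e => hny (mul_left_cancel (mul_right_cancel e))
      haveI := h.klein
      have e1 := congrArg Subtype.val (IsKleinFour.eq_mul_of_ne_all (x := (⟨x, hx⟩ : (V : Subgroup G)))
        (y := ⟨_, h1⟩) (z := ⟨y, hy⟩) (fun e => hx1 (congrArg Subtype.val e)) (fun e => h11 (congrArg Subtype.val e))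
        (fun e => h1x (congrArg Subtype.val e).symm) (fun e => hy1 (congrArg Subtype.val e))
        (fun e => hyx (congrArg Subtype.val e)) (fun e => hny (congrArg Subtype.val e).symm))
      have e2 := congrArg Subtype.val (IsKleinFour.eq_mul_of_ne_all (x := (⟨x, hx⟩ : (V : Subgroup G)))
        (y := ⟨_, h1⟩) (z := ⟨_, h2⟩) (fun e => hx1 (congrArg Subtype.val e)) (fun e => h11 (congrArg Subtype.val e))
        (fun e => h1x (congrArg Subtype.val e).symm) (fun e => h21 (congrArg Subtype.val e))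
        (fun e => h2x (congrArg Subtype.val e)) (fun e => h2n (congrArg Subtype.val e)))
      exact e2.trans e1.symm
    have hev : ∀ j : ℕ, n ^ (2 * j) * a * (n ^ (2 * j))⁻¹ = a := by
      intro j
      induction j with
      | zero => simp
      | succ j ih =>
        calc n ^ (2 * (j + 1)) * a * (n ^ (2 * (j + 1)))⁻¹
            = n * (n * (n ^ (2 * j) * a * (n ^ (2 * j))⁻¹) * n⁻¹) * n⁻¹ := by
              rw [show 2 * (j + 1) = 2 * j + 1 + 1 by ring, pow_succ', pow_succ']
              simp [mul_assoc]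
          _ = a := by rw [ih, himg a ha ha1 hne hna]
    obtain ⟨j, rfl⟩ := ho
    refine hna ?_
    calc n * a * n⁻¹ = n * (n ^ (2 * j) * a * (n ^ (2 * j))⁻¹) * n⁻¹ := by rw [hev]
      _ = n ^ (2 * j + 1) * a * (n ^ (2 * j + 1))⁻¹ := by rw [pow_succ']; simp [mul_assoc]
      _ = a := hpow a ha
  have hnt := hmem hnN h.ht
  rcases h.mem_iff.1 hnt with e | e | e | e
  · exact absurd (conj_eq_one_iff.1 e) h.ht1
  · exact absurd e (key t h.ht h.ht1)
  · refine ⟨n, ⟨hnL, hnN⟩, e, ?_⟩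
    rcases h.mem_iff.1 (hmem hnN h.hu) with e' | e' | e' | e'
    · exact absurd (conj_eq_one_iff.1 e') h.hu1
    · refine absurd ?_ (key (t * u) h.tu_mem h.tu_ne_one)
      rw [show n * (t * u) * n⁻¹ = (n * t * n⁻¹) * (n * u * n⁻¹) by group, e, e', (h.comm h.ht h.hu).eq]
    · exact absurd e' (key u h.hu h.hu1)
    · exact e'
  · -- then use the square
    have hu' : n * u * n⁻¹ = t := by
      rcases h.mem_iff.1 (hmem hnN h.hu) with e' | e' | e' | e'
      · exact absurd (conj_eq_one_iff.1 e') h.hu1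
      · exact e'
      · exact absurd e' (key u h.hu h.hu1)
      · exact absurd (mul_left_cancel (mul_right_cancel (e.trans e'.symm))) h.htu
    refine ⟨n * n, ⟨mul_mem hnL hnL, mul_mem hnN hnN⟩, ?_, ?_⟩
    · rw [show n * n * t * (n * n)⁻¹ = n * (n * t * n⁻¹) * n⁻¹ by group, e,
        show n * (t * u) * n⁻¹ = (n * t * n⁻¹) * (n * u * n⁻¹) by group, e, hu',
        (h.comm h.ht h.hu).eq, mul_assoc, h.mul_self h.ht, mul_one]
    · rw [show n * n * u * (n * n)⁻¹ = n * (n * u * n⁻¹) * n⁻¹ by group, hu', e]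

/-- The whole group fuses. -/
theorem exists_h : ∃ n ∈ normalizer ((V : Subgroup G) : Set G), n * t * n⁻¹ = u ∧ n * u * n⁻¹ = t * u := by
  obtain ⟨n, hn, h1⟩ := h.exists_fuse (L := ⊤) le_top (fun hth => by
    obtain ⟨g, hg⟩ := isConj_iff.1 (h.one t u (h.orderOf_eq h.ht h.ht1) (h.orderOf_eq h.hu h.hu1))
    obtain ⟨a, ha, b, hb, hab⟩ := exists_mul_of_sup (le_top.trans (le_normalizer_oddOf ⊤))
      (hth (mem_top g))
    refine h.htu ?_
    have hbt : b * t * b⁻¹ = t := by rw [(h.comm hb h.ht).eq, mul_inv_cancel_right]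
    rw [← hab, show a * b * t * (a * b)⁻¹ = a * (b * t * b⁻¹) * a⁻¹ by group, hbt] at hg
    -- `t * u` is a commutator with the core
    have hmem : a * (t * a⁻¹ * t⁻¹) ∈ oddOf (⊤ : Subgroup G) :=
      mul_mem ha (conj_mem_oddOf (mem_top t) (inv_mem ha))
    rw [h.inv_eq h.ht, show a * (t * a⁻¹ * t) = a * t * a⁻¹ * t by group, hg] at hmem
    have h1 := eq_one_of_odd (odd_card_oddOf _) hmem
      (h.mul_self (mul_mem h.hu h.ht))
    exact ((mul_eq_one_iff_eq_inv.1 h1).trans (h.inv_eq h.ht)).symm)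
  exact ⟨n, hn.2, h1⟩

theorem ne_top {L : Subgroup G} (hL : ThreeClass (V : Subgroup G) L) : L ≠ ⊤ := by
  rintro rfl
  obtain ⟨n, -, hnt, -⟩ := h.exists_h
  obtain ⟨a, ha, b, hb, hab⟩ := exists_mul_of_sup (le_top.trans (le_normalizer_oddOf ⊤))
    (hL (mem_top n))
  refine h.htu ?_
  rw [← hab, show a * b * t * (a * b)⁻¹ = a * (b * t * b⁻¹) * a⁻¹ by group, (h.comm hb h.ht).eq,
    mul_inv_cancel_right] at hnt
  have hmem : a * (t * a⁻¹ * t⁻¹) ∈ oddOf (⊤ : Subgroup G) :=
    mul_mem ha (conj_mem_oddOf (mem_top t) (inv_mem ha))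
  rw [h.inv_eq h.ht, show a * (t * a⁻¹ * t) = a * t * a⁻¹ * t by group, hnt] at hmem
  have h1 := eq_one_of_odd (odd_card_oddOf _) hmem (h.mul_self (mul_mem h.hu h.ht))
  exact ((mul_eq_one_iff_eq_inv.1 h1).trans (h.inv_eq h.ht)).symm

/-! ## The centraliser of an involution -/

theorem le_centralizer : (V : Subgroup G) ≤ centralizer ({t} : Set G) := fun _ hx =>
  mem_centralizer_singleton_iff.2 (h.comm hx h.ht).eq

theorem centralizer_threeClass : ThreeClass (V : Subgroup G) (centralizer ({t} : Set G)) :=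
  (threeClass_or_fuse V h.klein h.le_centralizer).resolve_right fun ⟨n, ⟨hnC, hnN⟩, a, ha, hna⟩ => by
    obtain ⟨m, ⟨hmC, -⟩, hm, -⟩ := h.exists_fuse h.le_centralizer (fun hth => by
      obtain ⟨c, hc, b, hb, hcb⟩ := exists_mul_of_sup (h.le_centralizer.trans (le_normalizer_oddOf _))
        (hth hnC)
      refine hna ?_
      have ha' : b * a * b⁻¹ = a := by rw [(h.comm hb ha).eq, mul_inv_cancel_right]
      have hna' := (mem_normalizer_iff.1 hnN a).1 ha
      rw [← hcb, show c * b * a * (c * b)⁻¹ = c * (b * a * b⁻¹) * c⁻¹ by group, ha'] at hna' ⊢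
      have hmem : c * (a * c⁻¹ * a⁻¹) ∈ oddOf (centralizer ({t} : Set G)) :=
        mul_mem hc (conj_mem_oddOf (h.le_centralizer ha) (inv_mem hc))
      rw [h.inv_eq ha, show c * (a * c⁻¹ * a) = c * a * c⁻¹ * a by group] at hmem
      have h1 := eq_one_of_odd (odd_card_oddOf _) hmem (h.mul_self (mul_mem hna' ha))
      exact (mul_eq_one_iff_eq_inv.1 h1).trans (h.inv_eq ha))
    exact h.htu (by rw [← hm, mem_centralizer_singleton_iff.1 hmC, mul_inv_cancel_right])

theorem centralizer_ne_top : centralizer ({t} : Set G) ≠ ⊤ := h.ne_top h.centralizer_threeClass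

theorem coreCent_le : coreCent t ≤ centralizer ({t} : Set G) := oddOf_le _

theorem le_normalizer_coreCent : centralizer ({t} : Set G) ≤ normalizer (coreCent t : Set G) :=
  le_normalizer_oddOf _

theorem odd_coreCent : Odd (Nat.card ↥(coreCent t)) := odd_card_oddOf _

theorem centralizer_eq_sup : centralizer ({t} : Set G) = coreCent t ⊔ (V : Subgroup G) :=
  le_antisymm h.centralizer_threeClass (sup_le h.coreCent_le h.le_centralizer)

/-- Every element of `C(t)` is one of `U` times one of `V`. -/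
theorem exists_mul {x : G} (hx : x ∈ centralizer ({t} : Set G)) :
    ∃ a ∈ coreCent t, ∃ b ∈ (V : Subgroup G), a * b = x :=
  exists_mul_of_sup (h.le_centralizer.trans h.le_normalizer_coreCent) (h.centralizer_threeClass hx)

theorem coreCent_inf : coreCent t ⊓ (V : Subgroup G) = ⊥ :=
  (eq_bot_iff_forall _).2 fun _ hx => eq_one_of_odd h.odd_coreCent hx.1 (h.mul_self hx.2)

theorem commute_of_mem {x : G} (hx : x ∈ coreCent t) : Commute x t :=
  mem_centralizer_singleton_iff.1 (h.coreCent_le hx)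

theorem mem_fixR {x : G} : x ∈ fixR t u ↔ x ∈ coreCent t ∧ Commute x u :=
  and_congr_right fun _ => mem_centralizer_singleton_iff

theorem mem_coreCent_of_odd {x : G} (hx : Commute x t) (ho : Odd (orderOf x)) : x ∈ coreCent t := by
  obtain ⟨a, ha, b, hb, rfl⟩ := h.exists_mul (mem_centralizer_singleton_iff.2 hx.eq)
  obtain ⟨k, hk⟩ := ho
  have h2 : ((a * b) ^ 2) ^ (k + 1) = a * b := by
    rw [← pow_mul, show 2 * (k + 1) = orderOf (a * b) + 1 by omega, pow_succ, pow_orderOf_eq_one, one_mul]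
  have h3 : (a * b) ^ 2 ∈ coreCent t := by
    rw [pow_two, show a * b * (a * b) = a * (b * a * b⁻¹) * (b * b) by group, h.mul_self hb, mul_one]
    exact mul_mem ha ((mem_normalizer_iff.1 (h.le_normalizer_coreCent (h.le_centralizer hb)) a).1 ha)
  exact h2 ▸ pow_mem h3 _

/-- `R` centralises `V`. -/
theorem commute_of_mem_fixR {x : G} (hx : x ∈ fixR t u) {v : G} (hv : v ∈ (V : Subgroup G)) : Commute x v := by
  obtain ⟨hx1, hx2⟩ := h.mem_fixR.1 hx
  rcases h.mem_iff.1 hv with rfl | rfl | rfl | rfl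
  exacts [Commute.one_right x, h.commute_of_mem hx1, hx2, (h.commute_of_mem hx1).mul_right hx2]

theorem odd_fixR : Odd (Nat.card ↥(fixR t u)) := odd_of_le inf_le_left h.odd_coreCent

theorem fixR_symm : fixR t u = fixR u t := by
  ext x
  rw [h.mem_fixR, h.symm.mem_fixR]
  constructor
  · rintro ⟨h1, h2⟩
    exact ⟨h.symm.mem_coreCent_of_odd h2 (Odd.of_dvd_nat h.odd_coreCent ((coreCent t).orderOf_dvd_natCard h1)),
      h.commute_of_mem h1⟩
  · rintro ⟨h1, h2⟩
    exact ⟨h.mem_coreCent_of_odd h2 (Odd.of_dvd_nat h.symm.odd_coreCent ((coreCent u).orderOf_dvd_natCard h1)),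
      h.symm.commute_of_mem h1⟩

theorem fixR_swap : fixR t (t * u) = fixR t u := by
  ext x
  rw [h.mem_fixR, h.swap.mem_fixR]
  refine and_congr_right fun h1 => ⟨fun h2 => ?_, fun h2 => (h.commute_of_mem h1).mul_right h2⟩
  have := (h.commute_of_mem h1).mul_right h2
  rwa [← mul_assoc, h.mul_self h.ht, one_mul] at this

theorem fixR_shift : fixR u (t * u) = fixR t u := by
  rw [(h.comm h.ht h.hu).eq, h.symm.fixR_swap, h.fixR_symm]

/-- `C(V) = V R`. -/
theorem centralizer_sylow : centralizer ((V : Subgroup G) : Set G) = fixR t u ⊔ (V : Subgroup G) := by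
  refine le_antisymm (fun x hx => ?_) (sup_le (fun x hx => ?_) fun x hx => ?_)
  · have hxt : Commute x t := (mem_centralizer_iff.1 hx t h.ht).symm
    obtain ⟨a, ha, b, hb, rfl⟩ := h.exists_mul (mem_centralizer_singleton_iff.2 hxt.eq)
    refine mul_mem (mem_sup_left (h.mem_fixR.2 ⟨ha, ?_⟩)) (mem_sup_right hb)
    have := (show Commute (a * b) u from (mem_centralizer_iff.1 hx u h.hu).symm).mul_left (h.comm hb h.hu).inv_left
    rwa [mul_inv_cancel_right] at this
  · exact mem_centralizer_iff.2 fun v hv => (h.commute_of_mem_fixR hx hv).eq.symm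
  · exact mem_centralizer_iff.2 fun v hv => (h.comm hv hx).eq

theorem normalizer_le_normalizer_fixR :
    normalizer ((V : Subgroup G) : Set G) ≤ normalizer (fixR t u : Set G) := by
  intro n hn
  have key : ∀ n ∈ normalizer ((V : Subgroup G) : Set G), ∀ x ∈ fixR t u, n * x * n⁻¹ ∈ fixR t u := by
    intro n hn x hx
    have hc : ∀ v ∈ (V : Subgroup G), Commute (n * x * n⁻¹) v := fun v hv => by
      have hv' : n⁻¹ * v * n ∈ (V : Subgroup G) := by
        simpa using (mem_normalizer_iff.1 (inv_mem hn) v).1 hv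
      have := (h.commute_of_mem_fixR hx hv').conj n
      rwa [show n * (n⁻¹ * v * n) * n⁻¹ = v by group] at this
    refine h.mem_fixR.2 ⟨h.mem_coreCent_of_odd (hc t h.ht) ?_, hc u h.hu⟩
    rw [show orderOf (n * x * n⁻¹) = orderOf x from MulEquiv.orderOf_eq (MulAut.conj n) x]
    exact Odd.of_dvd_nat h.odd_fixR ((fixR t u).orderOf_dvd_natCard hx)
  refine mem_normalizer_iff.2 fun x => ⟨key n hn x, fun hx => ?_⟩
  simpa [mul_assoc] using key n⁻¹ (inv_mem hn) _ hx

/-- The trick: a nontrivial subgroup of a maximal `C(t)` normalised by it has normaliser `C(t)`. -/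
theorem normalizer_eq (hC : IsCoatom (centralizer ({t} : Set G))) {X : Subgroup G}
    (hX : X ≤ centralizer ({t} : Set G)) (hX1 : X ≠ ⊥)
    (hn : centralizer ({t} : Set G) ≤ normalizer (X : Set G)) :
    normalizer (X : Set G) = centralizer ({t} : Set G) := by
  refine (hC.le_iff.1 hn).resolve_left fun htop => ?_
  haveI := h.simple
  haveI : X.Normal := normalizer_eq_top_iff.1 htop
  rcases (inferInstance : X.Normal).eq_bot_or_eq_top with e | e
  · exact hX1 e
  · exact h.centralizer_ne_top (top_le_iff.1 (e ▸ hX))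

end Hyp

end Cfsg.Agent.Invol.GW.Klein
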