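import Mathlib.Algebra.BigOperators.Field
import Mathlib.Data.Rat.Cast.Order
import Mathlib.Data.Fintype.EquivFin
import Mathlib.LinearAlgebra.Matrix.NonsingularInverse
import Mathlib.Tactic.FieldSimp
import Mathlib.Tactic.FinCases
import Mathlib.Tactic.Linarith
import Mathlib.Tactic.LinearCombination
import Mathlib.Tactic.Positivity
import Mathlib.Tactic.Ring

/-!
# Sign vectors of norm four orthogonal to a vector of degrees
-/

set_option autoImplicit false

namespace Cfsg.Agent.Invol.GW.Klein.Signs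

universe u

variable {ι : Type u}

theorem support_signs [Fintype ι] (a : ι → ℤ) (d : ι → ℕ) (hd : ∀ i, 0 < d i) (hsq : ∑ i, a i * a i = 4)
    (hdeg : ∑ i, a i * d i = 0) :
    (∀ i, a i ≠ 0 → a i = 1 ∨ a i = -1) ∧ (Finset.univ.filter fun i => a i ≠ 0).card = 4 := by
  classical
  have hone : ∀ i, a i ≠ 0 → a i = 1 ∨ a i = -1 := by
    intro i hi
    have hle : a i * a i ≤ 4 :=
      hsq ▸ Finset.single_le_sum (fun j _ => mul_self_nonneg (a j)) (Finset.mem_univ i)
    have h1 : -2 ≤ a i := by nlinarith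
    have h2 : a i ≤ 2 := by nlinarith
    by_contra hno
    push Not at hno
    have h4 : a i * a i = 4 := by
      have : a i = 2 ∨ a i = -2 := by omega
      rcases this with e | e <;> rw [e] <;> norm_num
    have hz : ∀ j, j ≠ i → a j = 0 := by
      intro j hj
      have h5 := Finset.add_sum_erase Finset.univ (fun j => a j * a j) (Finset.mem_univ i)
      rw [hsq, h4] at h5
      exact mul_self_eq_zero.1 ((Finset.sum_eq_zero_iff_of_nonneg fun j _ => mul_self_nonneg (a j)).1 (by linarith) j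
        (Finset.mem_erase.2 ⟨hj, Finset.mem_univ j⟩))
    rw [Finset.sum_eq_single i (fun j _ hj => by rw [hz j hj, zero_mul])
      (fun h => absurd (Finset.mem_univ i) h), mul_eq_zero] at hdeg
    rcases hdeg with e | e
    · exact hi e
    · exact (hd i).ne' (by exact_mod_cast e)
  refine ⟨hone, ?_⟩
  rw [← Finset.sum_filter_of_ne (p := fun i => a i ≠ 0) (fun i _ h => by intro e; exact h (by rw [e, zero_mul])),
    Finset.sum_congr rfl (g := fun _ => (1 : ℤ)) fun i hi => by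
      rcases hone i (Finset.mem_filter.1 hi).2 with e | e <;> rw [e] <;> norm_num,
    Finset.sum_const, nsmul_eq_mul, mul_one] at hsq
  exact_mod_cast hsq

/-- One column: the sum of the reciprocals is at most `8/15` when the positive degrees are at least five. -/
theorem single_bound (S : Finset ι) (hS : S.card = 4) (a : ι → ℤ) (d : ι → ℕ) (hd : ∀ i ∈ S, 0 < d i)
    (ha : ∀ i ∈ S, a i = 1 ∨ a i = -1) (hdeg : ∑ i ∈ S, a i * d i = 0) (h5 : ∀ i ∈ S, a i = 1 → 5 ≤ d i) :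
    ∑ i ∈ S, (a i : ℚ) / d i ≤ 8 / 15 := by
  classical
  set P := S.filter fun i => a i = 1 with hP
  set N := S.filter fun i => ¬ a i = 1 with hN
  have hcard : P.card + N.card = 4 := hS ▸ Finset.card_filter_add_card_filter_not (s := S) fun i => a i = 1
  have hNa : ∀ i ∈ N, a i = -1 := fun i hi =>
    (ha i (Finset.mem_filter.1 hi).1).resolve_left (Finset.mem_filter.1 hi).2
  have hPd : ∀ i ∈ P, (5 : ℚ) ≤ d i := fun i hi => by
    exact_mod_cast h5 i (Finset.mem_filter.1 hi).1 (Finset.mem_filter.1 hi).2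
  have hPN : ∑ i ∈ P, (d i : ℚ) = ∑ i ∈ N, (d i : ℚ) := by
    have h : ∑ i ∈ P, ((a i : ℚ) * d i) + ∑ i ∈ N, ((a i : ℚ) * d i) = 0 := by
      rw [Finset.sum_filter_add_sum_filter_not]
      exact_mod_cast hdeg
    rw [Finset.sum_congr rfl (g := fun i => (d i : ℚ)) fun i hi => by rw [(Finset.mem_filter.1 hi).2]; simp,
      Finset.sum_congr rfl (s₁ := N) (g := fun i => -(d i : ℚ)) fun i hi => by rw [hNa i hi]; simp,
      Finset.sum_neg_distrib] at h
    linarith
  rw [← Finset.sum_filter_add_sum_filter_not S (fun i => a i = 1), ← hP, ← hN,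
    Finset.sum_congr rfl (g := fun i => 1 / (d i : ℚ)) fun i hi => by rw [(Finset.mem_filter.1 hi).2]; simp,
    Finset.sum_congr rfl (s₁ := N) (g := fun i => -(1 / (d i : ℚ))) fun i hi => by rw [hNa i hi]; simp [neg_div],
    Finset.sum_neg_distrib]
  have hPle : ∑ i ∈ P, 1 / (d i : ℚ) ≤ P.card / 5 := by
    refine (Finset.sum_le_sum (g := fun _ => (1 : ℚ) / 5) fun i hi =>
      one_div_le_one_div_of_le (by norm_num) (hPd i hi)).trans (le_of_eq ?_)
    rw [Finset.sum_const, nsmul_eq_mul]; ring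
  have hN0 : 0 ≤ ∑ i ∈ N, 1 / (d i : ℚ) := Finset.sum_nonneg fun i _ => by positivity
  by_cases hsmall : P.card ≤ 2
  · have : (P.card : ℚ) ≤ 2 := by exact_mod_cast hsmall
    linarith
  have hN1 : N.card ≠ 0 := by
    intro e
    rw [Finset.card_eq_zero.1 e, Finset.sum_empty] at hPN
    have : (5 : ℚ) * P.card ≤ ∑ i ∈ P, (d i : ℚ) := by
      rw [mul_comm, ← nsmul_eq_mul]; exact Finset.card_nsmul_le_sum P _ _ hPd
    have h3 : (3 : ℚ) ≤ P.card := by exact_mod_cast (by omega : 3 ≤ P.card)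
    linarith
  obtain ⟨j, hj⟩ := Finset.card_eq_one.1 (by omega : N.card = 1)
  rw [hj, Finset.sum_singleton] at hPN ⊢
  have hP3 : (P.card : ℚ) = 3 := by exact_mod_cast (by omega : P.card = 3)
  set s := (d j : ℚ) with hs
  have hs15 : (15 : ℚ) ≤ s := by
    have : (5 : ℚ) * P.card ≤ ∑ i ∈ P, (d i : ℚ) := by
      rw [mul_comm, ← nsmul_eq_mul]; exact Finset.card_nsmul_le_sum P _ _ hPd
    linarith
  have hterm : ∀ i ∈ P, 1 / (d i : ℚ) ≤ 1 / 5 - ((d i : ℚ) - 5) / (15 * s) := by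
    intro i hi
    have h1 := hPd i hi
    have h2 : (d i : ℚ) ≤ s := hPN ▸ Finset.single_le_sum (fun k _ => Nat.cast_nonneg (d k)) hi
    have h3 : ((d i : ℚ) - 5) / (15 * s) ≤ ((d i : ℚ) - 5) / (5 * d i) :=
      div_le_div_of_nonneg_left (by linarith) (by linarith) (by linarith)
    have h4 : ((d i : ℚ) - 5) / (5 * d i) = 1 / 5 - 1 / (d i : ℚ) := by
      have h0 : (d i : ℚ) ≠ 0 := by linarith
      field_simp
    linarith
  have hsum := Finset.sum_le_sum hterm
  rw [Finset.sum_sub_distrib, Finset.sum_const, nsmul_eq_mul, ← Finset.sum_div, Finset.sum_sub_distrib, hPN,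
    Finset.sum_const, nsmul_eq_mul, hP3] at hsum
  have h6 : (s - 3 * 5) / (15 * s) = 1 / 15 - 1 / s := by
    have h0 : s ≠ 0 := by linarith
    field_simp
    ring
  linarith

/-- Three columns: the degrees are equal. -/
theorem triple_value (S : Finset ι) (hS : S.card = 4) (a b c : ι → ℤ) (d : ι → ℕ) (hd : ∀ i ∈ S, 0 < d i)
    (ha : ∀ i ∈ S, a i = 1 ∨ a i = -1) (hb : ∀ i ∈ S, b i = 1 ∨ b i = -1) (hc : ∀ i ∈ S, c i = 1 ∨ c i = -1)
    (hab : ∑ i ∈ S, a i * b i = 0) (hac : ∑ i ∈ S, a i * c i = 0) (hbc : ∑ i ∈ S, b i * c i = 0)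
    (hda : ∑ i ∈ S, a i * d i = 0) (hdb : ∑ i ∈ S, b i * d i = 0) (hdc : ∑ i ∈ S, c i * d i = 0)
    (hpos : 0 < ∑ i ∈ S, (a i : ℚ) * ((a i + b i + c i : ℤ) : ℚ) ^ 2 / d i) :
    ∃ y : ℕ, 0 < y ∧ (y : ℚ) * ∑ i ∈ S, (a i : ℚ) * ((a i + b i + c i : ℤ) : ℚ) ^ 2 / d i = 8 := by
  classical
  set e := (S.equivFinOfCardEq hS).symm with he
  have htr : ∀ f : ι → ℚ, ∑ i ∈ S, f i = ∑ k, f (e k) := fun f => by
    rw [← Finset.sum_coe_sort S f]; exact (Fintype.sum_equiv e _ _ fun k => rfl).symm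
  have sa : ∀ k, (a (e k) : ℚ) * a (e k) = 1 := fun k => by
    rcases ha _ (e k).2 with h | h <;> rw [h] <;> norm_num
  have sb : ∀ k, (b (e k) : ℚ) * b (e k) = 1 := fun k => by
    rcases hb _ (e k).2 with h | h <;> rw [h] <;> norm_num
  have sc : ∀ k, (c (e k) : ℚ) * c (e k) = 1 := fun k => by
    rcases hc _ (e k).2 with h | h <;> rw [h] <;> norm_num
  have cast0 : ∀ f g : ι → ℤ, ∑ i ∈ S, f i * g i = 0 → ∑ k, (f (e k) : ℚ) * g (e k) = 0 := fun f g h => by
    rw [← htr fun i => (f i : ℚ) * g i]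
    exact_mod_cast h
  have castd : ∀ f : ι → ℤ, ∑ i ∈ S, f i * d i = 0 → ∑ k, (f (e k) : ℚ) * (d (e k) : ℚ) = 0 := fun f h => by
    rw [← htr fun i => (f i : ℚ) * d i]
    exact_mod_cast h
  set ε : Fin 4 → ℚ := fun k => (a (e k) : ℚ) * b (e k) * c (e k) with hε
  let A : Matrix (Fin 4) (Fin 4) ℚ :=
    Matrix.of ![fun k => (a (e k) : ℚ), fun k => (b (e k) : ℚ), fun k => (c (e k) : ℚ), ε]
  have oab := cast0 a b hab
  have oac := cast0 a c hac
  have obc := cast0 b c hbc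
  have oae : ∑ k, (a (e k) : ℚ) * ε k = 0 := by
    rw [← obc]
    exact Finset.sum_congr rfl fun k _ => by linear_combination (b (e k) : ℚ) * c (e k) * sa k
  have obe : ∑ k, (b (e k) : ℚ) * ε k = 0 := by
    rw [← oac]
    exact Finset.sum_congr rfl fun k _ => by linear_combination (a (e k) : ℚ) * c (e k) * sb k
  have oce : ∑ k, (c (e k) : ℚ) * ε k = 0 := by
    rw [← oab]
    exact Finset.sum_congr rfl fun k _ => by linear_combination (a (e k) : ℚ) * b (e k) * sc k
  have see : ∀ k, ε k * ε k = 1 := fun k => by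
    linear_combination (b (e k) : ℚ) * b (e k) * c (e k) * c (e k) * sa k + (c (e k) : ℚ) * c (e k) * sb k + sc k
  have hAA : A * A.transpose = (4 : ℚ) • (1 : Matrix (Fin 4) (Fin 4) ℚ) := by
    ext i j
    rw [Matrix.mul_apply]
    fin_cases i <;> fin_cases j <;>
      simp [A, sa, sb, sc, see, oab, oac, obc, oae, obe, oce, mul_comm (b _ : ℚ) (a _ : ℚ),
        mul_comm (c _ : ℚ) (a _ : ℚ), mul_comm (c _ : ℚ) (b _ : ℚ), mul_comm (ε _) (a _ : ℚ),
        mul_comm (ε _) (b _ : ℚ), mul_comm (ε _) (c _ : ℚ)]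
  have hA' : A.transpose * A = (4 : ℚ) • (1 : Matrix (Fin 4) (Fin 4) ℚ) := by
    have h1 : ((1 / 4 : ℚ) • A.transpose) * A = 1 := by
      refine mul_eq_one_comm.1 ?_
      rw [Matrix.mul_smul, hAA, smul_smul]
      norm_num
    rw [Matrix.smul_mul] at h1
    rw [← h1, smul_smul]
    norm_num
  set D := ∑ k, ε k * (d (e k) : ℚ) with hD
  have hdk : ∀ k, 4 * (d (e k) : ℚ) = ε k * D := by
    intro k
    have h := congrFun (congrArg (fun X : Matrix (Fin 4) (Fin 4) ℚ => Matrix.mulVec X fun j => (d (e j) : ℚ)) hA') k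
    simp only [← Matrix.mulVec_mulVec, Matrix.smul_mulVec, Matrix.one_mulVec, Pi.smul_apply, smul_eq_mul] at h
    rw [← h, Matrix.mulVec, dotProduct, Fin.sum_univ_four]
    simp [A, Matrix.mulVec, dotProduct, castd a hda, castd b hdb, castd c hdc, hD]
  have hε0 : ε 0 = 1 ∨ ε 0 = -1 := mul_self_eq_one_iff.1 (see 0)
  have hεeq : ∀ k, ε k = ε 0 := by
    intro k
    have hk : (0 : ℚ) < d (e k) := by exact_mod_cast hd _ (e k).2
    have h0 : (0 : ℚ) < d (e 0) := by exact_mod_cast hd _ (e 0).2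
    have h1 := hdk k
    have h2 := hdk 0
    rcases mul_self_eq_one_iff.1 (see k) with q | q <;> rcases hε0 with q0 | q0 <;> rw [q, q0] <;>
      rw [q] at h1 <;> rw [q0] at h2 <;> linarith
  have hdeq : ∀ k, (d (e k) : ℚ) = d (e 0) := fun k => by
    have h1 := hdk k
    have h2 := hdk 0
    rw [hεeq k] at h1
    linarith
  have hval : ∑ i ∈ S, (a i : ℚ) * ((a i + b i + c i : ℤ) : ℚ) ^ 2 / d i = 8 * ε 0 / d (e 0) := by
    rw [htr, Finset.sum_congr rfl (g := fun k => (3 * (a (e k) : ℚ) + 2 * b (e k) + 2 * c (e k) + 2 * ε k) / d (e 0))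
      fun k _ => by
        rw [hdeq k]
        push_cast
        congr 1
        linear_combination ((a (e k) : ℚ) + 2 * b (e k) + 2 * c (e k)) * sa k + (a (e k) : ℚ) * sb k + (a (e k) : ℚ) * sc k,
      ← Finset.sum_div]
    congr 1
    have hz : ∀ f : ι → ℤ, ∑ i ∈ S, f i * d i = 0 → ∑ k, (f (e k) : ℚ) = 0 := fun f hf => by
      have h := castd f hf
      rw [Finset.sum_congr rfl fun k _ => by rw [hdeq k], ← Finset.sum_mul, mul_eq_zero] at h
      exact h.resolve_right (by exact_mod_cast (hd _ (e 0).2).ne')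
    simp only [Finset.sum_add_distrib, ← Finset.mul_sum, hz a hda, hz b hdb, hz c hdc]
    rw [Finset.sum_congr rfl fun k _ => hεeq k, Finset.sum_const, Finset.card_univ, Fintype.card_fin, nsmul_eq_mul]
    push_cast
    ring
  refine ⟨d (e 0), hd _ (e 0).2, ?_⟩
  have h0 : (0 : ℚ) < d (e 0) := by exact_mod_cast hd _ (e 0).2
  rw [hval] at hpos ⊢
  rcases hε0 with q | q
  · rw [q]; field_simp
  · exfalso
    rw [q, show (8 : ℚ) * -1 / (d (e 0) : ℚ) = -(8 / (d (e 0) : ℚ)) by ring] at hpos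
    have : (0 : ℚ) < 8 / (d (e 0) : ℚ) := div_pos (by norm_num) h0
    linarith

/-- The arithmetic in the case of one column. -/
theorem b_of_single {b q : ℕ} (hb : 0 < b) (hq : q + 1 = 4 * b ∨ q = 4 * b + 1) {x : ℚ}
    (hx : (q : ℚ) * ((q : ℚ) * q - 1) * x = 64 * (b : ℚ) ^ 3) (hle : x ≤ 8 / 15) : b = 1 := by
  by_contra hne
  have hb2 : (2 : ℚ) ≤ b := by exact_mod_cast (by omega : 2 ≤ b)
  rcases hq with hq | hq
  · have hq' : (q : ℚ) = 4 * b - 1 := by
      have : (q : ℚ) + 1 = 4 * b := by exact_mod_cast hq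
      linarith
    rw [hq'] at hx
    have hpos : (0 : ℚ) < (4 * b - 1) * ((4 * b - 1) * (4 * b - 1) - 1) :=
      mul_pos (by linarith) (by nlinarith)
    have h1 := mul_le_mul_of_nonneg_left hle hpos.le
    rw [hx] at h1
    nlinarith [mul_nonneg (mul_nonneg (le_trans (by norm_num : (0:ℚ) ≤ 2) hb2) (le_trans (by norm_num : (0:ℚ) ≤ 2) hb2)) (sub_nonneg.2 hb2)]
  · have hq' : (q : ℚ) = 4 * b + 1 := by exact_mod_cast hq
    rw [hq'] at hx
    have hpos : (0 : ℚ) < (4 * b + 1) * ((4 * b + 1) * (4 * b + 1) - 1) :=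
      mul_pos (by linarith) (by nlinarith)
    have h1 := mul_le_mul_of_nonneg_left hle hpos.le
    rw [hx] at h1
    nlinarith [mul_nonneg (mul_nonneg (le_trans (by norm_num : (0:ℚ) ≤ 2) hb2) (le_trans (by norm_num : (0:ℚ) ≤ 2) hb2)) (sub_nonneg.2 hb2)]

/-- The arithmetic in the case of three columns. -/
theorem b_of_triple {b q y : ℕ} (hb : Odd b) (hq : q + 1 = 4 * b ∨ q = 4 * b + 1) {x : ℚ}
    (hx : (q : ℚ) * ((q : ℚ) * q - 1) * x = 64 * (b : ℚ) ^ 3) (hy : (y : ℚ) * x = 8) : b = 1 := by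
  have hbpos : 0 < b := hb.pos
  have hbQ : (0 : ℚ) < b := by exact_mod_cast hbpos
  have key : (q : ℚ) * ((q : ℚ) * q - 1) = 8 * (y : ℚ) * (b : ℚ) ^ 3 := by
    linear_combination (y : ℚ) / 8 * hx - (q : ℚ) * ((q : ℚ) * q - 1) / 8 * hy
  have hdvd : (b : ℤ) ∣ 2 := by
    rcases hq with hq | hq
    · have hq' : (q : ℚ) = 4 * b - 1 := by
        have : (q : ℚ) + 1 = 4 * b := by exact_mod_cast hq
        linarith
      rw [hq'] at key
      have h1 : (4 * (b : ℚ) - 1) * (4 * b - 2) = 2 * y * b ^ 2 :=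
        mul_left_cancel₀ (by positivity : (4 * (b : ℚ)) ≠ 0) (by linear_combination key)
      have h2 : (4 * (b : ℤ) - 1) * (4 * b - 2) = 2 * y * b ^ 2 := by exact_mod_cast h1
      exact ⟨2 * (y : ℤ) * b - 16 * b + 12, by linear_combination h2⟩
    · have hq' : (q : ℚ) = 4 * b + 1 := by exact_mod_cast hq
      rw [hq'] at key
      have h1 : (4 * (b : ℚ) + 1) * (4 * b + 2) = 2 * y * b ^ 2 :=
        mul_left_cancel₀ (by positivity : (4 * (b : ℚ)) ≠ 0) (by linear_combination key)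
      have h2 : (4 * (b : ℤ) + 1) * (4 * b + 2) = 2 * y * b ^ 2 := by exact_mod_cast h1
      exact ⟨2 * (y : ℤ) * b - 16 * b - 12, by linear_combination h2⟩
  have h2 : b ∣ 2 := by exact_mod_cast hdvd
  rcases (Nat.dvd_prime Nat.prime_two).1 h2 with e | e
  · exact e
  · rw [e] at hb
    exact absurd hb (by decide)

end Cfsg.Agent.Invol.GW.Klein.Signs
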