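import Cfsg.Agent.Lib.Invol.GW.Klein.BlocksSpan
import Cfsg.Agent.Lib.Invol.GW.Klein.BlocksSigns
import Mathlib.GroupTheory.FiniteAbelian.Duality

/-!
# No linear character of `R` extends

`Hyp.no_linear`: `R` has no nontrivial quotient by a `N(V)`-invariant subgroup containing `R'` and `[U,u] ∩ R`.
-/

set_option autoImplicit false
set_option linter.unusedSectionVars false
set_option linter.style.haveILetI false
set_option maxHeartbeats 800000

open scoped ComplexConjugate commutatorElement Classical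

namespace Cfsg.Agent.Invol.GW.Klein

open Cfsg Subgroup

universe u

variable {G : Type u} [Group G] [Fintype G] [DecidableEq G]

namespace Hyp

variable {V : Sylow 2 G} {t u : G} (h : Hyp V t u)
include h

omit [DecidableEq G] in
theorem sum_klein {R : Type*} [AddCommMonoid R] (F : ↥(V : Subgroup G) → R) :
    ∑ v, F v = F 1 + F ⟨t, h.ht⟩ + F ⟨u, h.hu⟩ + F ⟨t * u, h.tu_mem⟩ := by
  classical
  have hU : (Finset.univ : Finset ↥(V : Subgroup G)) = {1, ⟨t, h.ht⟩, ⟨u, h.hu⟩, ⟨t * u, h.tu_mem⟩} := by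
    ext v
    simp only [Finset.mem_univ, Finset.mem_insert, Finset.mem_singleton, Subtype.ext_iff, OneMemClass.coe_one,
      true_iff]
    exact h.mem_iff.1 v.2
  rw [hU, Finset.sum_insert (by simp [Subtype.ext_iff, Ne.symm h.ht1, Ne.symm h.hu1, Ne.symm h.tu_ne_one]),
    Finset.sum_insert (by simp [Subtype.ext_iff, h.htu, Ne.symm h.tu_ne_left]),
    Finset.sum_pair (by simp [Subtype.ext_iff, Ne.symm h.tu_ne_right])]
  simp only [add_assoc]

/-- The two congruences for the restriction to `V × R`. -/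
theorem res_data (χ : IrrCharacter G) (φ : IrrCharacter ↥(fixR t u)) :
    ∃ n₁ n₂ : ℕ,
      (∑ x : ↥(fixR t u), (χ : G → ℂ) x * conj ((φ : ↥(fixR t u) → ℂ) x)) +
        (∑ x : ↥(fixR t u), (χ : G → ℂ) (t * x) * conj ((φ : ↥(fixR t u) → ℂ) x)) +
        (∑ x : ↥(fixR t u), (χ : G → ℂ) (u * x) * conj ((φ : ↥(fixR t u) → ℂ) x)) +
        (∑ x : ↥(fixR t u), (χ : G → ℂ) (t * u * x) * conj ((φ : ↥(fixR t u) → ℂ) x)) =
          4 * (Fintype.card ↥(fixR t u) : ℂ) * n₁ ∧
      (∑ x : ↥(fixR t u), (χ : G → ℂ) x * conj ((φ : ↥(fixR t u) → ℂ) x)) +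
        (∑ x : ↥(fixR t u), (χ : G → ℂ) (t * x) * conj ((φ : ↥(fixR t u) → ℂ) x)) -
        (∑ x : ↥(fixR t u), (χ : G → ℂ) (u * x) * conj ((φ : ↥(fixR t u) → ℂ) x)) -
        (∑ x : ↥(fixR t u), (χ : G → ℂ) (t * u * x) * conj ((φ : ↥(fixR t u) → ℂ) x)) =
          4 * (Fintype.card ↥(fixR t u) : ℂ) * n₂ := by
  classical
  let ι : ↥(V : Subgroup G) × ↥(fixR t u) →* G :=
    MonoidHom.noncommCoprod (V : Subgroup G).subtype (fixR t u).subtype
      fun w x => (h.commute_of_mem_fixR x.2 w.2).symm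
  let sgn : ↥(V : Subgroup G) →* ℂˣ :=
    { toFun := fun w => if (w : G) = 1 ∨ (w : G) = t then 1 else -1
      map_one' := if_pos (Or.inl rfl)
      map_mul' := fun a b => by
        rcases h.mem_iff.1 a.2 with ea | ea | ea | ea <;> rcases h.mem_iff.1 b.2 with eb | eb | eb | eb <;>
          simp only [Subgroup.coe_mul, ea, eb] <;>
          simp [h.mul_self h.ht, h.mul_self h.hu, h.mul_self h.tu_mem, ← mul_assoc,
            (h.comm h.hu h.ht).eq, h.ht1, h.hu1, h.tu_ne_one, Ne.symm h.htu, h.tu_ne_left,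
            show t * u * t = u by rw [(h.comm h.ht h.hu).eq, mul_assoc, h.mul_self h.ht, mul_one],
            show t * u * u = t by rw [mul_assoc, h.mul_self h.hu, mul_one]] }
  have hV : Fintype.card ↥(V : Subgroup G) = 4 := by rw [← Nat.card_eq_fintype_card, h.card_sylow]
  obtain ⟨n₁, hn₁⟩ := prod_mult_nat ι χ 1 φ
  obtain ⟨n₂, hn₂⟩ := prod_mult_nat ι χ sgn φ
  rw [hV, h.sum_klein] at hn₁ hn₂
  have hι : ∀ (w : ↥(V : Subgroup G)) (x : ↥(fixR t u)), ι (w, x) = (w : G) * (x : G) := fun _ _ => rfl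
  simp only [hι, sgn, MonoidHom.coe_mk, OneHom.coe_mk, OneMemClass.coe_one,
    coe_subtype, MonoidHom.one_apply, Units.val_one, one_mul, true_or, or_true, if_true, Units.val_neg, map_neg,
    neg_mul, mul_neg, Finset.sum_neg_distrib, h.hu1, Ne.symm h.htu, h.tu_ne_one, h.tu_ne_left, or_self,
    if_false, Nat.cast_ofNat] at hn₁ hn₂
  exact ⟨n₁, n₂, hn₁, by rw [← hn₂]; ring⟩

omit [DecidableEq G] in
/-- The degree is congruent to the value on involutions. -/
theorem four_dvd_degree (χ : IrrCharacter G) {n : ℤ} (hn : (χ : G → ℂ) t = n) :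
    (4 : ℤ) ∣ (charDegree (χ : G → ℂ) : ℤ) - n := by
  classical
  obtain ⟨m, hm⟩ := Char.IsChar.classInner_nat (Char.IsChar.res (Block.irr_isChar χ) (V : Subgroup G))
    (Char.IsChar.one (G := ↥(V : Subgroup G)))
  have hc : ∀ w ∈ (V : Subgroup G), w ≠ 1 → (χ : G → ℂ) w = n := fun w hw hw1 => by
    rw [← hn]
    exact Char.IsClass.eq_of_isConj (Block.irr_classFun χ) (h.one w t (h.orderOf_eq hw hw1) (h.orderOf_eq h.ht h.ht1))
  rw [classInner, h.card_sylow, h.sum_klein] at hm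
  simp only [map_one, mul_one, OneMemClass.coe_one, hc _ h.ht h.ht1, hc _ h.hu h.hu1, hc _ h.tu_mem h.tu_ne_one,
    Block.charDeg_spec' χ] at hm
  have hC : ((charDegree (χ : G → ℂ) : ℤ) : ℂ) + ((3 * n : ℤ) : ℂ) = ((4 * m : ℤ) : ℂ) := by
    push_cast
    push_cast at hm
    linear_combination 4 * hm
  have hZ : (charDegree (χ : G → ℂ) : ℤ) + 3 * n = 4 * m := by exact_mod_cast hC
  exact ⟨m - n, by linarith⟩

omit [DecidableEq G] in
theorem not_comm : ¬ ∀ a b : G, a * b = b * a := fun hc => by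
  obtain ⟨g, hg⟩ := isConj_iff.1 (h.one t u (h.orderOf_eq h.ht h.ht1) (h.orderOf_eq h.hu h.hu1))
  exact h.htu (by rw [← hg, hc g t, mul_inv_cancel_right])

omit [DecidableEq G] in
/-- A character of degree one is trivial. -/
theorem trivial_of_degree_one (χ : IrrCharacter G) (hd : charDegree (χ : G → ℂ) = 1) :
    (χ : G → ℂ) = fun _ => 1 := by
  haveI := h.simple
  have h1 : (χ : G → ℂ) 1 = 1 := by rw [Block.charDeg_spec', hd, Nat.cast_one]
  obtain ⟨l, hl⟩ := Char.linearHom_of_isCharacter (Block.irr_isChar χ) h1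
  rcases (MonoidHom.normal_ker l).eq_bot_or_eq_top with hker | hker
  · exact absurd (fun a b => (MonoidHom.ker_eq_bot_iff l).1 hker (by rw [map_mul, map_mul, mul_comm])) h.not_comm
  · funext g
    rw [congrFun hl g, (MonoidHom.mem_ker (f := l)).1 (hker ▸ Subgroup.mem_top g), Units.val_one]

omit [DecidableEq G] in
/-- A nontrivial character with values of full size on `R`. -/
theorem fixR_eq_bot_of_norm (χ : IrrCharacter G) (hχ : (χ : G → ℂ) ≠ fun _ => 1)
    (hR : ∀ x ∈ fixR t u, ‖(χ : G → ℂ) x‖ = (charDegree (χ : G → ℂ) : ℝ)) : fixR t u = ⊥ := by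
  classical
  haveI := h.simple
  have hspec := Block.charDeg_spec' χ
  obtain ⟨χ, n, ρ, hirr, rfl⟩ := χ
  change ρ.character 1 = _ at hspec
  have hdeg : charDegree ρ.character = Module.finrank ℂ (Fin n → ℂ) := by
    have h1 := Representation.char_one ρ
    rw [hspec] at h1
    exact_mod_cast h1
  have hker : MonoidHom.ker ρ = ⊥ := by
    refine (MonoidHom.normal_ker ρ).eq_bot_or_eq_top.resolve_right fun htop => hχ ?_
    have hconst : ∀ g, ρ.character g = ρ.character 1 := fun g => by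
      have h1 : ρ g = ρ 1 := by rw [(MonoidHom.mem_ker (f := ρ)).1 (htop ▸ Subgroup.mem_top g), map_one]
      rw [Representation.character, Representation.character, h1]
    have h1 := Char.classInner_self_irr (G := G) ⟨n, ρ, hirr, rfl⟩
    have h1c := Representation.char_one ρ
    rw [classInner] at h1
    simp only [hconst _, h1c, map_natCast, Finset.sum_const, Finset.card_univ, nsmul_eq_mul,
      ← Nat.card_eq_fintype_card] at h1
    rw [← mul_assoc, inv_mul_cancel₀ (Nat.cast_ne_zero.2 Nat.card_pos.ne'), one_mul] at h1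
    funext g
    show ρ.character g = 1
    rw [hconst g, h1c]
    have h2 : Module.finrank ℂ (Fin n → ℂ) * Module.finrank ℂ (Fin n → ℂ) = 1 := by exact_mod_cast h1
    rw [Nat.eq_one_of_mul_eq_one_right h2, Nat.cast_one]
  have hinj : Function.Injective ρ := (MonoidHom.ker_eq_bot_iff ρ).1 hker
  refine (eq_bot_iff_forall _).2 fun x hx => ?_
  obtain ⟨ω, hω⟩ := (Char.norm_character_eq_iff ρ x).1 (by rw [← hdeg]; exact hR x hx)
  have hxc : x ∈ center G := mem_center_iff.2 fun g => hinj (by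
    rw [map_mul, map_mul, hω, ← Module.End.one_eq_id, mul_smul_comm, smul_mul_assoc, mul_one, one_mul])
  have hZ : center G = ⊥ := by
    refine (Subgroup.Normal.eq_bot_or_eq_top (inferInstance : (center G).Normal)).resolve_right fun htop => ?_
    exact h.not_comm fun a b => mem_center_iff.1 (htop ▸ Subgroup.mem_top b) a
  rw [hZ] at hxc
  exact mem_bot.1 hxc

/-- Degree at most three and constant values on the cosets of the cores: no `R`. -/
theorem fixR_eq_bot_of_small (χ : IrrCharacter G) (hχ : (χ : G → ℂ) ≠ fun _ => 1)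
    (hd : charDegree (χ : G → ℂ) ≤ 3) {δ : ℂ}
    (hv : ∀ v ∈ (V : Subgroup G), v ≠ 1 → ∀ x ∈ coreCent v, (χ : G → ℂ) (v * x) = δ) : fixR t u = ⊥ := by
  classical
  refine h.fixR_eq_bot_of_norm χ hχ fun x hx => ?_
  have hcore : ∀ y : ↥(fixR t u), ∀ v ∈ (V : Subgroup G), v ≠ 1 → (y : G) ∈ coreCent v := by
    intro y v hv' hv1
    rcases h.mem_iff.1 hv' with e | e | e | e <;> rw [e]
    · exact absurd e hv1
    · exact y.2.1
    · exact (h.fixR_symm ▸ y.2 : (y : G) ∈ fixR u t).1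
    · exact ((h.shift.fixR_symm ▸ (h.fixR_shift.symm ▸ y.2)) : (y : G) ∈ fixR (t * u) u).1
  obtain ⟨f, hf⟩ : ∃ f : ↥(fixR t u) → ℂ, ∀ y, f y = (χ : G → ℂ) y := ⟨fun y => (χ : G → ℂ) y, fun _ => rfl⟩
  have hfc : IsCharacter ↥(fixR t u) f := by
    rw [show f = fun y : ↥(fixR t u) => (χ : G → ℂ) y from funext hf]
    exact Char.IsChar.res (Block.irr_isChar χ) _
  obtain ⟨a, ha, hdec⟩ := Char.IsChar.exists_decomp_inner hfc
  have hmult : ∀ φ : IrrCharacter ↥(fixR t u), φ ≠ Block.trivialIrr _ → ∃ k : ℕ, a φ = 4 * k := by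
    intro φ hφ
    obtain ⟨n₁, -, hn, -⟩ := h.res_data χ φ
    have h0 : ∀ v : G, v ∈ (V : Subgroup G) → v ≠ 1 →
        ∑ y : ↥(fixR t u), (χ : G → ℂ) (v * y) * conj ((φ : ↥(fixR t u) → ℂ) y) = 0 := by
      intro v hv' hv1
      rw [Finset.sum_congr rfl fun y _ => by rw [hv v hv' hv1 y (hcore y v hv' hv1)], ← Finset.mul_sum]
      have h1 := Char.classInner_irr_ne (Block.trivialIrr ↥(fixR t u)).2 φ.2 fun e => hφ (Subtype.ext e.symm)
      simp only [classInner, Block.trivialIrr, one_mul, mul_eq_zero, inv_eq_zero, Nat.cast_eq_zero] at h1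
      rw [h1.resolve_left Nat.card_pos.ne', mul_zero]
    rw [h0 t h.ht h.ht1, h0 u h.hu h.hu1, h0 _ h.tu_mem h.tu_ne_one, add_zero, add_zero, add_zero] at hn
    refine ⟨n₁, ?_⟩
    have h1 := ha φ
    rw [classInner] at h1
    simp only [hf] at h1
    rw [hn, Nat.card_eq_fintype_card] at h1
    have h2 : ((4 * n₁ : ℕ) : ℂ) = (a φ : ℂ) := by
      rw [← h1]
      push_cast
      field_simp
    exact (Nat.cast_inj.1 h2).symm
  have hdeg1 := congrFun hdec 1
  rw [Char.sum_irr_apply, hf, OneMemClass.coe_one, Block.charDeg_spec' χ,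
    Finset.sum_congr rfl fun φ _ => by rw [Block.charDeg_spec' φ]] at hdeg1
  have hdeg2 : charDegree (χ : G → ℂ) = ∑ φ : IrrCharacter ↥(fixR t u), a φ * charDegree (φ : ↥(fixR t u) → ℂ) := by
    exact_mod_cast hdeg1
  have hz : ∀ φ : IrrCharacter ↥(fixR t u), φ ≠ Block.trivialIrr _ → a φ = 0 := by
    intro φ hφ
    obtain ⟨k, hk⟩ := hmult φ hφ
    have hle : a φ * charDegree (φ : ↥(fixR t u) → ℂ) ≤ charDegree (χ : G → ℂ) :=
      hdeg2 ▸ Finset.single_le_sum (f := fun φ : IrrCharacter ↥(fixR t u) => a φ * charDegree (φ : ↥(fixR t u) → ℂ))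
        (fun _ _ => Nat.zero_le _) (Finset.mem_univ φ)
    have h3 := Block.charDeg_pos φ
    have h4 : a φ ≤ a φ * charDegree (φ : ↥(fixR t u) → ℂ) := Nat.le_mul_of_pos_right _ h3
    omega
  have hval : ∀ y : ↥(fixR t u), f y = (a (Block.trivialIrr _) : ℂ) := by
    intro y
    rw [congrFun hdec y, Char.sum_irr_apply, Finset.sum_eq_single (Block.trivialIrr _) (fun φ _ hφ => by
      rw [hz φ hφ, Nat.cast_zero, zero_mul]) (fun hh => absurd (Finset.mem_univ _) hh)]
    simp [Block.trivialIrr]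
  have h5 := hval 1
  rw [hf, OneMemClass.coe_one, Block.charDeg_spec' χ] at h5
  have h6 := hval ⟨x, hx⟩
  rw [hf, ← h5] at h6
  rw [show (χ : G → ℂ) x = (charDegree (χ : G → ℂ) : ℂ) from h6, Complex.norm_natCast]

end Hyp

/-- The orbit of linear characters: lifts to `C(t)` and their coefficients. -/
structure Orbit {V : Sylow 2 G} {t u : G} (h : Hyp V t u) (n : G) (θ : ↥(fixR t u) →* ℂˣ) where
  f : ℕ → (↥(centralizer ({t} : Set G)) →* ℂˣ)
  trivV : ∀ j, ∀ v ∈ (V : Subgroup G), lf (f j) v = 1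
  val : ∀ j, ∀ x : ↥(fixR t u), ∀ hx : n ^ j * (x : G) * (n ^ j)⁻¹ ∈ fixR t u,
    lf (f j) x = (θ ⟨_, hx⟩ : ℂ)

namespace Hyp

variable {V : Sylow 2 G} {t u : G} (h : Hyp V t u)
include h

omit [DecidableEq G] in
theorem conj_pow_mem {n : G} (hn : n ∈ normalizer ((V : Subgroup G) : Set G)) (j : ℕ) {x : G}
    (hx : x ∈ fixR t u) : n ^ j * x * (n ^ j)⁻¹ ∈ fixR t u :=
  (mem_normalizer_iff.1 (h.normalizer_le_normalizer_fixR (pow_mem hn j)) x).1 hx

omit [DecidableEq G] in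
theorem pow_three_centralizes {n : G} (hn : n ∈ normalizer ((V : Subgroup G) : Set G)) (hnt : n * t * n⁻¹ = u)
    (hnu : n * u * n⁻¹ = t * u) : n ^ 3 ∈ fixR t u ⊔ (V : Subgroup G) := by
  have htu' : n * (t * u) * n⁻¹ = t := by
    rw [show n * (t * u) * n⁻¹ = n * t * n⁻¹ * (n * u * n⁻¹) by group, hnt, hnu, (h.comm h.ht h.hu).eq,
      ← mul_assoc, h.mul_self h.hu, one_mul]
  have h3 : ∀ w, w = t ∨ w = u → n ^ 3 * w = w * n ^ 3 := fun w hw => by
    refine mul_inv_eq_iff_eq_mul.1 ?_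
    rw [show n ^ 3 * w * (n ^ 3)⁻¹ = n * (n * (n * w * n⁻¹) * n⁻¹) * n⁻¹ by
      rw [pow_succ, pow_two]; group]
    rcases hw with e | e <;> rw [e]
    · rw [hnt, hnu, htu']
    · rw [hnu, htu', hnt]
  rw [← h.centralizer_sylow]
  refine mem_centralizer_iff.2 fun w hw => ?_
  rcases h.mem_iff.1 hw with e | e | e | e <;> rw [e]
  · rw [one_mul, mul_one]
  · exact (h3 t (Or.inl rfl)).symm
  · exact (h3 u (Or.inr rfl)).symm
  · rw [mul_assoc, ← h3 u (Or.inr rfl), ← mul_assoc, ← h3 t (Or.inl rfl), mul_assoc]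

omit [DecidableEq G] in
/-- A linear character of `R` does not change under conjugation by `R * V`. -/
theorem lin_conj_centralizer (θ : ↥(fixR t u) →* ℂˣ) {c : G} (hc : c ∈ fixR t u ⊔ (V : Subgroup G))
    {x y : ↥(fixR t u)} (e : c * (x : G) * c⁻¹ = y) : θ y = θ x := by
  obtain ⟨a, ha, w, hw, rfl⟩ := exists_mul_of_sup (le_normalizer.trans h.normalizer_le_normalizer_fixR) hc
  have hwx : w * (x : G) * w⁻¹ = x := by rw [(h.commute_of_mem_fixR x.2 hw).symm.eq, mul_inv_cancel_right]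
  have hy : y = ⟨a, ha⟩ * x * ⟨a, ha⟩⁻¹ := Subtype.ext (by
    rw [← e, show a * w * (x : G) * (a * w)⁻¹ = a * (w * (x : G) * w⁻¹) * a⁻¹ by group, hwx]
    rfl)
  rw [hy, map_mul, map_mul, map_inv, mul_comm (θ ⟨a, ha⟩), mul_inv_cancel_right]

omit [DecidableEq G] in
theorem exists_orbit {K : Subgroup G} (hK : K ≤ fixR t u)
    (hNK : normalizer ((V : Subgroup G) : Set G) ≤ normalizer (K : Set G))
    (hcap : ⁅coreCent t, zpowers u⁆ ⊓ fixR t u ≤ K) {n : G} (hn : n ∈ normalizer ((V : Subgroup G) : Set G))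
    (θ : ↥(fixR t u) →* ℂˣ) (hθ : ∀ x : ↥(fixR t u), (x : G) ∈ K → θ x = 1) :
    Nonempty (Orbit h n θ) := by
  have hKN : fixR t u ≤ normalizer (K : Set G) := fun x hx =>
    hNK (Subgroup.centralizer_le_normalizer _ (mem_centralizer_iff.2 fun w hw => (h.commute_of_mem_fixR hx hw).eq.symm))
  have hex : ∀ j : ℕ, ∃ l : ↥(centralizer ({t} : Set G)) →* ℂˣ, (∀ v ∈ (V : Subgroup G), lf l v = 1) ∧
      ∀ x : ↥(fixR t u), ∀ hx : n ^ j * (x : G) * (n ^ j)⁻¹ ∈ fixR t u, lf l x = (θ ⟨_, hx⟩ : ℂ) := by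
    intro j
    let θj : ↥(fixR t u) →* ℂˣ :=
      { toFun := fun x => θ ⟨_, h.conj_pow_mem hn j x.2⟩
        map_one' := by
          rw [← map_one θ]
          exact congrArg θ (Subtype.ext (by simp))
        map_mul' := fun x y => by
          rw [← map_mul]
          exact congrArg θ (Subtype.ext (by simp [mul_assoc])) }
    obtain ⟨l, hl⟩ := h.exists_ext hK hKN hcap θj fun x hx =>
      hθ _ ((mem_normalizer_iff.1 (hNK (pow_mem hn j)) (x : G)).1 hx)
    obtain ⟨r, hr⟩ := h.odd_fixR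
    refine ⟨l ^ (Nat.card ↥(fixR t u) + 1), fun v hv => ?_, fun x hx => ?_⟩
    · rw [lf_apply _ (h.le_centralizer hv), MonoidHom.pow_apply, ← map_pow, hr,
        show (⟨v, h.le_centralizer hv⟩ : ↥(centralizer ({t} : Set G))) ^ (2 * r + 1 + 1) = 1 from Subtype.ext (by
          rw [Subgroup.coe_pow, show 2 * r + 1 + 1 = 2 * (r + 1) by ring, pow_mul, pow_two, h.mul_self hv,
            one_pow, OneMemClass.coe_one]), map_one, Units.val_one]
    · have hxC : (x : G) ∈ centralizer ({t} : Set G) := h.coreCent_le x.2.1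
      rw [lf_apply _ hxC, MonoidHom.pow_apply, hl x hxC]
      show ((θ ⟨_, h.conj_pow_mem hn j x.2⟩ ^ (Nat.card ↥(fixR t u) + 1) : ℂˣ) : ℂ) = _
      rw [← map_pow, pow_succ, pow_card_eq_one', one_mul]
  choose f h1 h2 using hex
  exact ⟨⟨f, h1, h2⟩⟩

/-- The main contradiction for one linear character. -/
theorem no_linear_char {n : G} (hn : n ∈ normalizer ((V : Subgroup G) : Set G)) (hnt : n * t * n⁻¹ = u)
    (hnu : n * u * n⁻¹ = t * u) {θ : ↥(fixR t u) →* ℂˣ} (hθ : θ ≠ 1) (O : Orbit h n θ) : False := by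
  classical
  obtain ⟨M, hM⟩ := Char.exists_isPModular 2 Nat.prime_two
  obtain ⟨m, b, q, hm, hb, hq, hU, hG, ρ, hρ, hρd, δ, -, hρv⟩ := h.principal_data
  have hxR : ∀ {x : G}, x ∈ fixR t u → x ∈ oddCent t := fun hx => h.mem_oddCent_iff.2 hx.1
  have hxC : ∀ {x : G}, x ∈ fixR t u → x ∈ centralizer ({t} : Set G) := fun hx => h.coreCent_le hx.1
  -- determined by `R`
  have hext : ∀ i j, (∀ x ∈ fixR t u, lf (O.f i) x = lf (O.f j) x) → O.f i = O.f j := by
    intro i j he
    refine MonoidHom.ext fun c => ?_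
    obtain ⟨a, ha, w, hw, e⟩ := h.exists_mul c.2
    have hc : c = ⟨a, h.coreCent_le ha⟩ * ⟨w, h.le_centralizer hw⟩ := Subtype.ext e.symm
    have hw1 : ∀ k, O.f k ⟨w, h.le_centralizer hw⟩ = 1 := fun k => Units.ext (by
      rw [Units.val_one, ← lf_apply (O.f k) (h.le_centralizer hw), O.trivV k w hw])
    rw [hc, map_mul, map_mul, hw1, hw1, mul_one, mul_one]
    exact h.hom_eq_of_eqOn (fun x hx => Units.ext (by rw [← lf_apply _ x.2, ← lf_apply _ x.2, he x hx])) ha
  have hper : ∀ j, O.f (j + 3) = O.f j := fun j => hext _ _ fun x hx => by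
    rw [O.val (j + 3) ⟨x, hx⟩ (h.conj_pow_mem hn _ hx), O.val j ⟨x, hx⟩ (h.conj_pow_mem hn _ hx)]
    refine congrArg _ (h.lin_conj_centralizer θ (h.pow_three_centralizes hn hnt hnu) ?_)
    show n ^ 3 * (n ^ j * x * (n ^ j)⁻¹) * (n ^ 3)⁻¹ = n ^ (j + 3) * x * (n ^ (j + 3))⁻¹
    rw [pow_add n j 3, ((Commute.refl n).pow_pow j 3).eq]
    group
  have hshift : ∀ i j, ∀ x ∈ fixR t u, lf (O.f j) (n ^ i * x * (n ^ i)⁻¹) = lf (O.f (j + i)) x := by
    intro i j x hx
    rw [O.val j ⟨_, h.conj_pow_mem hn i hx⟩ (h.conj_pow_mem hn j (h.conj_pow_mem hn i hx)),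
      O.val (j + i) ⟨x, hx⟩ (h.conj_pow_mem hn _ hx)]
    refine congrArg (fun w : ↥(fixR t u) => ((θ w : ℂˣ) : ℂ)) (Subtype.ext ?_)
    show n ^ j * (n ^ i * x * (n ^ i)⁻¹) * (n ^ j)⁻¹ = n ^ (j + i) * x * (n ^ (j + i))⁻¹
    rw [pow_add]; group
  set L := (Finset.range 3).image O.f with hL
  have hmemL : ∀ j, O.f j ∈ L := by
    intro j
    induction j using Nat.strong_induction_on with
    | _ j ih =>
      by_cases hj : j < 3
      · exact Finset.mem_image_of_mem _ (Finset.mem_range.2 hj)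
      · rw [show j = j - 3 + 3 by omega, hper]
        exact ih _ (by omega)
  -- fixed or three different
  have hcases : (∀ j, O.f j = O.f 0) ∨ (O.f 0 ≠ O.f 1 ∧ O.f 0 ≠ O.f 2 ∧ O.f 1 ≠ O.f 2) := by
    by_cases h01 : O.f 0 = O.f 1
    · left
      have hstep : ∀ j, O.f (j + 1) = O.f j := fun j => hext _ _ fun x hx => by
        have e1 := hshift j 1 x hx
        have e0 := hshift j 0 x hx
        rw [zero_add, h01] at e0
        rw [add_comm j 1, ← e1, e0]
      intro j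
      induction j with
      | zero => rfl
      | succ j ih => rw [hstep, ih]
    · right
      refine ⟨h01, fun h02 => h01 (hext _ _ fun x hx => ?_), fun h12 => h01 (hext _ _ fun x hx => ?_)⟩
      · have e2 := hshift 1 2 x hx
        have e0 := hshift 1 0 x hx
        rw [← h02, e0, hper 0] at e2
        exact e2.symm
      · have e2 := hshift 2 2 x hx
        have e1 := hshift 2 1 x hx
        rw [← h12, e1, hper 0, show (2 : ℕ) + 2 = 1 + 3 from rfl, hper 1] at e2
        exact e2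
  have hLcard : ∀ F : (↥(centralizer ({t} : Set G)) →* ℂˣ) → ℂ,
      (∀ j, O.f j = O.f 0) ∧ ∑ l ∈ L, F l = F (O.f 0) ∨
      (O.f 0 ≠ O.f 1 ∧ O.f 0 ≠ O.f 2 ∧ O.f 1 ≠ O.f 2) ∧ ∑ l ∈ L, F l = F (O.f 0) + F (O.f 1) + F (O.f 2) := by
    intro F
    rcases hcases with hc | ⟨c1, c2, c3⟩
    · refine Or.inl ⟨hc, ?_⟩
      rw [show L = {O.f 0} from Finset.eq_singleton_iff_unique_mem.2 ⟨hmemL 0, fun l hl => by
        obtain ⟨j, -, rfl⟩ := Finset.mem_image.1 hl
        exact hc j⟩, Finset.sum_singleton]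
    · refine Or.inr ⟨⟨c1, c2, c3⟩, ?_⟩
      rw [show L = {O.f 0, O.f 1, O.f 2} by
        rw [hL, show Finset.range 3 = {0, 1, 2} from rfl, Finset.image_insert, Finset.image_insert,
          Finset.image_singleton],
        Finset.sum_insert (by simp [c1, c2]), Finset.sum_pair c3, add_assoc]
  -- invariance of the orbit
  have hinv : ∀ x ∈ fixR t u, ∀ g ∈ normalizer ((V : Subgroup G) : Set G),
      ∑ l ∈ L, lf l (g * x * g⁻¹) = ∑ l ∈ L, lf l x := by
    intro x hx g hg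
    obtain ⟨i, hi⟩ : ∃ i : ℕ, n ^ i * t * (n ^ i)⁻¹ = g * t * g⁻¹ := by
      have hgt := (mem_normalizer_iff.1 hg t).1 h.ht
      rcases h.mem_iff.1 hgt with e | e | e | e
      · exact absurd (conj_eq_one_iff.1 e) h.ht1
      · exact ⟨0, by rw [e, pow_zero, one_mul, inv_one, mul_one]⟩
      · exact ⟨1, by rw [e, pow_one, hnt]⟩
      · exact ⟨2, by rw [e, pow_two, show n * n * t * (n * n)⁻¹ = n * (n * t * n⁻¹) * n⁻¹ by group, hnt, hnu]⟩
    set c := (n ^ i)⁻¹ * g with hc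
    have hcN : c ∈ normalizer ((V : Subgroup G) : Set G) := mul_mem (inv_mem (pow_mem hn i)) hg
    have hct : c * t * c⁻¹ = t := by
      rw [hc, show (n ^ i)⁻¹ * g * t * ((n ^ i)⁻¹ * g)⁻¹ = (n ^ i)⁻¹ * (g * t * g⁻¹) * n ^ i by group, ← hi]
      group
    obtain ⟨a, ha, w, hw, e⟩ := h.exists_mul (mem_centralizer_singleton_iff.2 (mul_inv_eq_iff_eq_mul.1 hct))
    have haN : a ∈ normalizer ((V : Subgroup G) : Set G) := by
      rw [show a = c * w⁻¹ by rw [← e, mul_inv_cancel_right]]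
      exact mul_mem hcN (inv_mem (le_normalizer hw))
    have haR : a ∈ fixR t u := h.mem_fixR.2 ⟨ha, by
      have h1 : a * u * a⁻¹ * u⁻¹ ∈ coreCent t ⊓ (V : Subgroup G) := by
        refine ⟨?_, (V : Subgroup G).mul_mem ((mem_normalizer_iff.1 haN u).1 h.hu) ((V : Subgroup G).inv_mem h.hu)⟩
        rw [show a * u * a⁻¹ * u⁻¹ = a * (u * a⁻¹ * u⁻¹) by group]
        exact (coreCent t).mul_mem ha
          ((mem_normalizer_iff.1 (h.le_normalizer_coreCent (h.le_centralizer h.hu)) a⁻¹).1 (inv_mem ha))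
      rw [h.coreCent_inf, mem_bot, mul_inv_eq_one, mul_inv_eq_iff_eq_mul] at h1
      exact h1⟩
    have hgx : g * x * g⁻¹ = n ^ i * (a * x * a⁻¹) * (n ^ i)⁻¹ := by
      have hwx : w * x * w⁻¹ = x := by rw [(h.commute_of_mem_fixR hx hw).symm.eq, mul_inv_cancel_right]
      rw [show g = n ^ i * (a * w) by rw [e, hc, mul_inv_cancel_left],
        show n ^ i * (a * w) * x * (n ^ i * (a * w))⁻¹ = n ^ i * (a * (w * x * w⁻¹) * a⁻¹) * (n ^ i)⁻¹ by group, hwx]
    have hval : ∀ j, lf (O.f j) (g * x * g⁻¹) = lf (O.f (j + i)) x := fun j => by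
      rw [hgx, hshift i j _ ((fixR t u).mul_mem ((fixR t u).mul_mem haR hx) ((fixR t u).inv_mem haR)),
        lf_conj _ (hxC haR) (hxC hx)]
    rcases hLcard (fun l => lf l (g * x * g⁻¹)) with ⟨hc, e1⟩ | ⟨hc, e1⟩
    · rcases hLcard (fun l => lf l x) with ⟨-, e2⟩ | ⟨⟨c1, -⟩, -⟩
      · rw [e1, e2, hval, hc]
      · exact absurd (hc 1).symm c1
    · rcases hLcard (fun l => lf l x) with ⟨hc', -⟩ | ⟨-, e2⟩
      · exact absurd (hc' 1).symm hc.1
      · rw [e1, e2, hval, hval, hval, zero_add]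
        have hmod : ∀ k, O.f k = O.f (k % 3) := by
          intro k
          induction k using Nat.strong_induction_on with
          | _ k ih =>
            by_cases hk : k < 3
            · rw [Nat.mod_eq_of_lt hk]
            · rw [show k = k - 3 + 3 by omega, hper, ih _ (by omega), Nat.add_mod_right]
        rw [hmod i, hmod (1 + i), hmod (2 + i)]
        obtain ⟨r, hr, hr3⟩ : ∃ r, i % 3 = r ∧ r < 3 := ⟨_, rfl, Nat.mod_lt _ (by norm_num)⟩
        rw [Nat.add_mod 1 i, Nat.add_mod 2 i, hr]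
        interval_cases r <;> norm_num <;> ring
  choose A hA using fun (j : ℕ) (χ : IrrCharacter G) => h.coef_int (O.f j) χ
  have hAper : ∀ j χ, A (j + 3) χ = A j χ := fun j χ => by
    have e : ((A (j + 3) χ : ℤ) : ℂ) = (A j χ : ℂ) := by rw [← hA, ← hA, hper]
    exact_mod_cast e
  have hdistL : ∀ l ∈ L, ∀ l' ∈ L, (∀ x ∈ oddCent t, lf l x = lf l' x) → l = l' := by
    intro l hl l' hl' he
    obtain ⟨i, -, rfl⟩ := Finset.mem_image.1 hl
    obtain ⟨j, -, rfl⟩ := Finset.mem_image.1 hl'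
    exact hext i j fun x hx => he x (hxR hx)
  -- orthogonality on `R`
  have hRorth : ∀ i j, ∑ x : ↥(fixR t u), conj (lf (O.f i) x) * lf (O.f j) x =
      if O.f i = O.f j then (Fintype.card ↥(fixR t u) : ℂ) else 0 := by
    intro i j
    split_ifs with e
    · rw [e, Finset.sum_congr rfl (g := fun _ => (1 : ℂ)) fun x _ => by
        rw [conj_lf _ (hxC x.2), inv_mul_cancel₀ (lf_ne_zero _ (hxC x.2))],
        Finset.sum_const, Finset.card_univ, nsmul_eq_mul, mul_one]
    · let g : ↥(fixR t u) →* ℂ :=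
        (Units.coeHom ℂ).comp (((O.f i)⁻¹ * O.f j).comp
          (Subgroup.inclusion ((inf_le_left : fixR t u ≤ coreCent t).trans h.coreCent_le)))
      have hg : ∀ x : ↥(fixR t u), g x = conj (lf (O.f i) x) * lf (O.f j) x := fun x => by
        rw [conj_lf _ (hxC x.2), lf_apply _ (hxC x.2), lf_apply _ (hxC x.2)]
        simp [g]
        rfl
      have hg1 : g ≠ 1 := fun e1 => e (hext i j fun x hx => by
        have h1 := hg ⟨x, hx⟩
        rw [e1, MonoidHom.one_apply, conj_lf _ (hxC hx)] at h1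
        exact (inv_mul_eq_one₀ (lf_ne_zero _ (hxC hx))).1 h1.symm)
      rw [← sum_hom_units_eq_zero g hg1]
      exact Finset.sum_congr rfl fun x _ => (hg x).symm
  set r := Fintype.card ↥(fixR t u) with hr
  have hr0 : (r : ℂ) ≠ 0 := Nat.cast_ne_zero.2 Fintype.card_ne_zero
  -- the values of a character in the support
  have hspan : ∀ χ j, A j χ ≠ 0 → ∀ y ∈ oddCent t,
      (χ : G → ℂ) (t * y) = ∑ l ∈ L, coef l (χ : G → ℂ) * lf l y := fun χ j hj =>
    h.value_span hM L hdistL hinv (hmemL j) χ (by rw [hA]; exact_mod_cast hj)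
  have hres : ∀ χ j, A j χ ≠ 0 → ∀ i k,
      ∑ x : ↥(fixR t u), (χ : G → ℂ) (t * (n ^ i * (x : G) * (n ^ i)⁻¹)) * conj (lf (O.f (k + i)) x) =
        (r : ℂ) * (A k χ : ℂ) := by
    intro χ j hj i k
    rw [Fintype.sum_equiv
      { toFun := fun x : ↥(fixR t u) => (⟨_, h.conj_pow_mem hn i x.2⟩ : ↥(fixR t u))
        invFun := fun x => ⟨(n ^ i)⁻¹ * (x : G) * n ^ i, by
          have := (mem_normalizer_iff.1 (h.normalizer_le_normalizer_fixR (inv_mem (pow_mem hn i))) (x : G)).1 x.2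
          rwa [inv_inv] at this⟩
        left_inv := fun x => Subtype.ext (by group)
        right_inv := fun x => Subtype.ext (by group) }
      (fun x : ↥(fixR t u) => (χ : G → ℂ) (t * (n ^ i * (x : G) * (n ^ i)⁻¹)) * conj (lf (O.f (k + i)) x))
      (fun x : ↥(fixR t u) => (χ : G → ℂ) (t * (x : G)) * conj (lf (O.f k) x))
      fun x => by
        show _ = (χ : G → ℂ) (t * (n ^ i * (x : G) * (n ^ i)⁻¹)) * conj (lf (O.f k) (n ^ i * (x : G) * (n ^ i)⁻¹))
        rw [hshift i k x x.2]]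
    rw [Finset.sum_congr rfl fun (x : ↥(fixR t u)) _ => by rw [hspan χ j hj x (hxR x.2), Finset.sum_mul],
      Finset.sum_comm, Finset.sum_eq_single (O.f k) (fun l hl hne => ?_) (fun hh => absurd (hmemL k) hh)]
    · rw [Finset.sum_congr rfl (g := fun x : ↥(fixR t u) => coef (O.f k) (χ : G → ℂ) * (conj (lf (O.f k) x) * lf (O.f k) x))
        fun x _ => by ring, ← Finset.mul_sum, hRorth, if_pos rfl, hA]
      ring
    · obtain ⟨i', -, rfl⟩ := Finset.mem_image.1 hl
      rw [Finset.sum_congr rfl (g := fun x : ↥(fixR t u) => coef (O.f i') (χ : G → ℂ) * (conj (lf (O.f k) x) * lf (O.f i') x))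
        fun x _ => by ring, ← Finset.mul_sum, hRorth, if_neg (Ne.symm hne), mul_zero]
  have hparity : ∀ χ j, A j χ ≠ 0 → ∀ k, (2 : ℤ) ∣ A (k + 1) χ + A (k + 2) χ := by
    intro χ j hj k
    let φ : IrrCharacter ↥(fixR t u) :=
      ⟨fun x => (((O.f k).comp (Subgroup.inclusion ((inf_le_left : fixR t u ≤ coreCent t).trans h.coreCent_le))) x : ℂ),
        Char.isIrr_linear _⟩
    have hφ : ∀ x : ↥(fixR t u), (φ : ↥(fixR t u) → ℂ) x = lf (O.f k) x := fun x => by
      rw [lf_apply _ (hxC x.2)]; rfl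
    obtain ⟨n₁, n₂, e1, e2⟩ := h.res_data χ φ
    simp only [hφ] at e1 e2
    have hAu : ∑ x : ↥(fixR t u), (χ : G → ℂ) (u * x) * conj (lf (O.f k) x) = (r : ℂ) * (A (k + 1) χ : ℂ) := by
      rw [← hres χ j hj 2 (k + 1), show k + 1 + 2 = k + 3 from rfl, hper]
      refine Finset.sum_congr rfl fun x _ => ?_
      have e3 : ∃ v ∈ fixR t u ⊔ (V : Subgroup G), n ^ 3 = v := ⟨_, h.pow_three_centralizes hn hnt hnu, rfl⟩
      have hconj : n * (t * (n ^ 2 * (x : G) * (n ^ 2)⁻¹)) * n⁻¹ = u * (n ^ 3 * (x : G) * (n ^ 3)⁻¹) := by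
        rw [show n * (t * (n ^ 2 * (x : G) * (n ^ 2)⁻¹)) * n⁻¹ =
          (n * t * n⁻¹) * (n * n ^ 2 * (x : G) * (n * n ^ 2)⁻¹) by group, hnt, ← pow_succ']
      obtain ⟨a, ha, w, hw, e4⟩ := exists_mul_of_sup (le_normalizer.trans h.normalizer_le_normalizer_fixR)
        (h.pow_three_centralizes hn hnt hnu)
      have hwx : w * (x : G) * w⁻¹ = x := by rw [(h.commute_of_mem_fixR x.2 hw).symm.eq, mul_inv_cancel_right]
      have hau : a * u * a⁻¹ = u := by rw [(h.commute_of_mem_fixR ha h.hu).eq, mul_inv_cancel_right]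
      have : u * (n ^ 3 * (x : G) * (n ^ 3)⁻¹) = a * (u * (x : G)) * a⁻¹ := by
        rw [← e4, show a * w * (x : G) * (a * w)⁻¹ = a * (w * (x : G) * w⁻¹) * a⁻¹ by group, hwx,
          show a * (u * (x : G)) * a⁻¹ = a * u * a⁻¹ * (a * (x : G) * a⁻¹) by group, hau]
      rw [← Block.irr_classFun χ (t * (n ^ 2 * (x : G) * (n ^ 2)⁻¹)) n, hconj, this, Block.irr_classFun χ]
    have hAtu : ∑ x : ↥(fixR t u), (χ : G → ℂ) (t * u * x) * conj (lf (O.f k) x) = (r : ℂ) * (A (k + 2) χ : ℂ) := by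
      rw [← hres χ j hj 1 (k + 2), show k + 2 + 1 = k + 3 from rfl, hper]
      refine Finset.sum_congr rfl fun x _ => ?_
      have hconj : n ^ 2 * (t * (n ^ 1 * (x : G) * (n ^ 1)⁻¹)) * (n ^ 2)⁻¹ = t * u * (n ^ 3 * (x : G) * (n ^ 3)⁻¹) := by
        rw [show n ^ 2 * (t * (n ^ 1 * (x : G) * (n ^ 1)⁻¹)) * (n ^ 2)⁻¹ =
          (n * (n * t * n⁻¹) * n⁻¹) * (n ^ 2 * n ^ 1 * (x : G) * (n ^ 2 * n ^ 1)⁻¹) by rw [pow_two]; group,
          hnt, hnu, ← pow_add]
      obtain ⟨a, ha, w, hw, e4⟩ := exists_mul_of_sup (le_normalizer.trans h.normalizer_le_normalizer_fixR)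
        (h.pow_three_centralizes hn hnt hnu)
      have hwx : w * (x : G) * w⁻¹ = x := by rw [(h.commute_of_mem_fixR x.2 hw).symm.eq, mul_inv_cancel_right]
      have hau : a * (t * u) * a⁻¹ = t * u := by
        rw [(h.commute_of_mem_fixR ha h.tu_mem).eq, mul_inv_cancel_right]
      have : t * u * (n ^ 3 * (x : G) * (n ^ 3)⁻¹) = a * (t * u * (x : G)) * a⁻¹ := by
        rw [← e4, show a * w * (x : G) * (a * w)⁻¹ = a * (w * (x : G) * w⁻¹) * a⁻¹ by group, hwx,
          show a * (t * u * (x : G)) * a⁻¹ = a * (t * u) * a⁻¹ * (a * (x : G) * a⁻¹) by group, hau]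
      rw [← Block.irr_classFun χ (t * (n ^ 1 * (x : G) * (n ^ 1)⁻¹)) (n ^ 2), hconj, this, Block.irr_classFun χ]
    rw [hAu, hAtu] at e1 e2
    have h2 : (((A (k + 1) χ + A (k + 2) χ : ℤ)) : ℂ) = ((2 * ((n₁ : ℤ) - n₂) : ℤ) : ℂ) := by
      push_cast
      apply mul_left_cancel₀ hr0
      linear_combination (e1 - e2) / 2
    exact ⟨_, Int.cast_inj.1 h2⟩
  -- norms and supports
  have hd : ∀ χ : IrrCharacter G, 0 < charDegree (χ : G → ℂ) := fun χ => Block.charDeg_pos χ
  have hdeg0 : ∀ j, ∑ χ : IrrCharacter G, A j χ * (charDegree (χ : G → ℂ) : ℤ) = 0 := fun j => by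
    have e := h.sum_coef_degree (O.f j)
    simp only [hA, Block.charDeg_spec'] at e
    exact_mod_cast e
  have hsq : ∀ j, ∑ χ : IrrCharacter G, A j χ * A j χ = 4 := fun j => by
    have e := h.sum_coef_sq (O.f j)
    simp only [hA] at e
    exact_mod_cast e
  have horth : ∀ i j, O.f i ≠ O.f j → ∑ χ : IrrCharacter G, A i χ * A j χ = 0 := fun i j hij => by
    have e := h.sum_coef_mul_coef (O.f i) (O.f j)
    rw [h.sum_conj_mul (l := O.f j) (l' := O.f i) (by
      by_contra hno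
      push Not at hno
      exact hij (hext i j fun x hx => (hno x (hxR hx)).symm)), mul_zero, mul_zero] at e
    simp only [hA] at e
    exact_mod_cast e
  have hsign := fun j => Signs.support_signs (A j) (fun χ => charDegree (χ : G → ℂ)) hd (hsq j) (hdeg0 j)
  set S := Finset.univ.filter fun χ : IrrCharacter G => A 0 χ ≠ 0 with hS
  have hS4 : S.card = 4 := (hsign 0).2
  have hvalt : ∀ χ ∈ S, (χ : G → ℂ) t = ∑ l ∈ L, coef l (χ : G → ℂ) := fun χ hχ => by
    have e := hspan χ 0 (Finset.mem_filter.1 hχ).2 1 (hxR (one_mem (fixR t u)))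
    rw [mul_one] at e
    rw [e]
    exact Finset.sum_congr rfl fun l _ => by rw [lf_one, mul_one]
  -- the order identity
  have hb0 : 0 < b := hb.pos
  have hkey : ∀ N : IrrCharacter G → ℤ, (∀ χ ∈ S, (χ : G → ℂ) t = N χ) →
      (q : ℚ) * ((q : ℚ) * q - 1) * ∑ χ ∈ S, (A 0 χ : ℚ) * (N χ : ℚ) ^ 2 / charDegree (χ : G → ℂ) =
        64 * (b : ℚ) ^ 3 := by
    intro N hN
    have e := h.sum_coef_order (O.f 0) hM (O.trivV 0)
    rw [← Finset.sum_subset (Finset.subset_univ S) (fun χ _ hχ => by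
      have : A 0 χ = 0 := by simpa [hS] using hχ
      rw [hA, this, Int.cast_zero, zero_mul, zero_div]), hU,
      Finset.sum_congr rfl (g := fun χ : IrrCharacter G =>
        (((A 0 χ : ℚ) * (N χ : ℚ) ^ 2 / charDegree (χ : G → ℂ) : ℚ) : ℂ)) fun χ hχ => by
        rw [hA, hN χ hχ, Block.charDeg_spec']; push_cast; rfl, ← Rat.cast_sum] at e
    set T0 := ∑ χ ∈ S, (A 0 χ : ℚ) * (N χ : ℚ) ^ 2 / charDegree (χ : G → ℂ)
    have hq1 : 1 ≤ q * q := Nat.one_le_iff_ne_zero.2 (by rintro hh; rcases mul_eq_zero.1 hh with hh | hh <;> omega)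
    have hG' : (2 : ℚ) * Nat.card G = (m : ℚ) ^ 3 * Nat.card ↥(fixR t u) * q * ((q : ℚ) * q - 1) := by
      have := congrArg (Nat.cast (R := ℚ)) hG
      push_cast [Nat.cast_sub hq1] at this
      linarith
    have e' : 32 * ((m : ℚ) * b * Nat.card ↥(fixR t u)) ^ 3 =
        (Nat.card G : ℚ) * (Nat.card ↥(fixR t u) : ℚ) ^ 2 * T0 := by
      have : (((32 * ((m : ℚ) * b * Nat.card ↥(fixR t u)) ^ 3 : ℚ)) : ℂ) =
          (((Nat.card G : ℚ) * (Nat.card ↥(fixR t u) : ℚ) ^ 2 * T0 : ℚ) : ℂ) := by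
        push_cast at e ⊢
        exact e
      exact_mod_cast this
    have hm0 : (m : ℚ) ≠ 0 := Nat.cast_ne_zero.2 hm.pos.ne'
    have hrq : (Nat.card ↥(fixR t u) : ℚ) ≠ 0 := Nat.cast_ne_zero.2 Nat.card_pos.ne'
    refine mul_left_cancel₀ (mul_ne_zero (pow_ne_zero 3 hm0) (pow_ne_zero 3 hrq)) ?_
    linear_combination (-(Nat.card ↥(fixR t u) : ℚ) ^ 2 * T0) * hG' - 2 * e'
  have hb1 : b = 1 := by
    rcases hcases with hfix | ⟨c01, c02, c12⟩
    · -- one column
      have hAfix : ∀ χ ∈ S, (χ : G → ℂ) t = A 0 χ := fun χ hχ => by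
        rw [hvalt χ hχ]
        rcases hLcard (fun l => coef l (χ : G → ℂ)) with ⟨-, e⟩ | ⟨⟨c1, -⟩, -⟩
        · rw [e, hA]
        · exact absurd (hfix 1).symm c1
      have hk := hkey (A 0) hAfix
      have hsum : ∑ χ ∈ S, (A 0 χ : ℚ) * (A 0 χ : ℚ) ^ 2 / charDegree (χ : G → ℂ) =
          ∑ χ ∈ S, (A 0 χ : ℚ) / charDegree (χ : G → ℂ) := Finset.sum_congr rfl fun χ hχ => by
        rcases (hsign 0).1 χ (Finset.mem_filter.1 hχ).2 with e | e <;> rw [e] <;> norm_num
      rw [hsum] at hk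
      refine Signs.b_of_single hb0 hq hk (Signs.single_bound S hS4 (A 0) _ (fun χ _ => hd χ)
        (fun χ hχ => (hsign 0).1 χ (Finset.mem_filter.1 hχ).2) ?_ fun χ hχ h1 => ?_)
      · rw [← hdeg0 0]
        exact Finset.sum_subset (Finset.subset_univ S) fun χ _ hχ => by
          have : A 0 χ = 0 := by simpa [hS] using hχ
          rw [this, zero_mul]
      · obtain ⟨k, hk'⟩ := h.four_dvd_degree χ (hAfix χ hχ)
        rw [h1] at hk'
        by_contra h5
        have hd1 : charDegree (χ : G → ℂ) = 1 := by have := hd χ; omega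
        have hc : coef (O.f 0) (χ : G → ℂ) = 0 := by
          rw [h.trivial_of_degree_one χ hd1, coef]
          obtain ⟨x, hx⟩ : ∃ x : ↥(fixR t u), θ x ≠ 1 := by
            by_contra hno
            push Not at hno
            exact hθ (MonoidHom.ext hno)
          let l1 : ↥(centralizer ({t} : Set G)) →* ℂˣ := 1
          have hl1 : ∀ y ∈ oddCent t, lf l1 y = 1 := fun y hy => by
            rw [lf_apply _ (h.mem_cent hy)]; simp [l1]
          have h0 := h.sum_conj_mul (l := O.f 0) (l' := l1) ⟨x, hxR x.2, by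
            rw [hl1 _ (hxR x.2), O.val 0 x (h.conj_pow_mem hn 0 x.2)]
            intro e
            refine hx ?_
            rw [← Units.val_eq_one, ← e]
            simp⟩
          rw [Finset.sum_congr rfl fun y hy => by rw [hl1 y hy]] at h0
          simp only [mul_one] at h0 ⊢
          rw [h0, mul_zero]
        rw [hA, h1] at hc
        norm_num at hc
    · -- three columns
      have hodd : ∀ χ ∈ S, A 1 χ ≠ 0 ∧ A 2 χ ≠ 0 := by
        intro χ hχ
        have h0 := (hsign 0).1 χ (Finset.mem_filter.1 hχ).2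
        have p1 := hparity χ 0 (Finset.mem_filter.1 hχ).2 1
        have p2 := hparity χ 0 (Finset.mem_filter.1 hχ).2 2
        rw [hAper 0] at p2
        have e13 : A (1 + 2) χ = A 0 χ := hAper 0 χ
        rw [e13] at p1
        rw [show (2 : ℕ) + 2 = 1 + 3 from rfl, hAper 1] at p2
        constructor <;> intro e
        · rw [e] at p2; rcases h0 with e0 | e0 <;> rw [e0] at p2 <;> norm_num at p2
        · rw [show (1 : ℕ) + 1 = 2 from rfl, e] at p1; rcases h0 with e0 | e0 <;> rw [e0] at p1 <;> norm_num at p1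
      have hsame : ∀ j, (j = 1 ∨ j = 2) → S = Finset.univ.filter fun χ : IrrCharacter G => A j χ ≠ 0 := fun j hj => by
        refine Finset.eq_of_subset_of_card_le (fun χ hχ => Finset.mem_filter.2 ⟨Finset.mem_univ _, ?_⟩) ?_
        · rcases hj with rfl | rfl
          exacts [(hodd χ hχ).1, (hodd χ hχ).2]
        · rw [(hsign j).2, hS4]
      have hsupp : ∀ j, j < 3 → ∀ χ, χ ∉ S → A j χ = 0 := by
        intro j hj χ hχ
        interval_cases j
        · simpa [hS] using hχ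
        · rw [hsame 1 (Or.inl rfl)] at hχ; simpa using hχ
        · rw [hsame 2 (Or.inr rfl)] at hχ; simpa using hχ
      have hred : ∀ j, j < 3 → ∀ F : IrrCharacter G → ℤ, ∑ χ ∈ S, A j χ * F χ = ∑ χ, A j χ * F χ :=
        fun j hj F => Finset.sum_subset (Finset.subset_univ S) fun χ _ hχ => by rw [hsupp j hj χ hχ, zero_mul]
      have hsgn : ∀ j, j < 3 → ∀ χ ∈ S, A j χ = 1 ∨ A j χ = -1 := by
        intro j hj χ hχ
        refine (hsign j).1 χ ?_
        interval_cases j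
        exacts [(Finset.mem_filter.1 hχ).2, (hodd χ hχ).1, (hodd χ hχ).2]
      have hk := hkey (fun χ => A 0 χ + A 1 χ + A 2 χ) fun χ hχ => by
        rw [hvalt χ hχ]
        rcases hLcard (fun l => coef l (χ : G → ℂ)) with ⟨hf, -⟩ | ⟨-, e⟩
        · exact absurd (hf 1).symm c01
        · rw [e, hA, hA, hA]; push_cast; rfl
      have hpos : 0 < ∑ χ ∈ S, (A 0 χ : ℚ) * ((A 0 χ + A 1 χ + A 2 χ : ℤ) : ℚ) ^ 2 / charDegree (χ : G → ℂ) := by
        have h1 : (0 : ℚ) < 64 * (b : ℚ) ^ 3 := by positivity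
        rw [← hk] at h1
        have hq2 : (2 : ℚ) ≤ q := by exact_mod_cast (by omega : 2 ≤ q)
        exact (mul_pos_iff_of_pos_left (mul_pos (by linarith) (by nlinarith))).1 h1
      obtain ⟨y, hy, hyS⟩ := Signs.triple_value S hS4 (A 0) (A 1) (A 2) _ (fun χ _ => hd χ)
        (hsgn 0 (by norm_num)) (hsgn 1 (by norm_num)) (hsgn 2 (by norm_num))
        (by rw [hred 0 (by norm_num)]; exact horth 0 1 c01) (by rw [hred 0 (by norm_num)]; exact horth 0 2 c02)
        (by rw [hred 1 (by norm_num)]; exact horth 1 2 c12) (by rw [hred 0 (by norm_num)]; exact hdeg0 0)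
        (by rw [hred 1 (by norm_num)]; exact hdeg0 1) (by rw [hred 2 (by norm_num)]; exact hdeg0 2) hpos
      exact Signs.b_of_triple hb hq hk hyS
  refine hθ (MonoidHom.ext fun x => ?_)
  have hbot := h.fixR_eq_bot_of_small ρ hρ (by omega) hρv
  have hx1 : x = 1 := Subtype.ext (mem_bot.1 (hbot ▸ x.2 : (x : G) ∈ (⊥ : Subgroup G)))
  rw [hx1, map_one, MonoidHom.one_apply]

end Hyp

/-- `R` has no nontrivial abelian quotient by an `N(V)`-invariant subgroup containing `[U,u] ∩ R`. -/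
theorem Hyp.no_linear {G : Type u} [Group G] [Finite G] {V : Sylow 2 G} {t u : G} (h : Hyp V t u)
    (K : Subgroup G) (hK : K ≤ fixR t u) (hne : K ≠ fixR t u) (hder : ⁅fixR t u, fixR t u⁆ ≤ K)
    (hNK : normalizer ((V : Subgroup G) : Set G) ≤ normalizer (K : Set G))
    (hcap : ⁅coreCent t, zpowers u⁆ ⊓ fixR t u ≤ K) : False := by
  classical
  letI := Fintype.ofFinite G
  obtain ⟨a, ha, haK⟩ := SetLike.exists_of_lt (lt_of_le_of_ne hK hne)
  set K' := (K.subgroupOf (fixR t u)).map (Abelianization.of (G := ↥(fixR t u))) with hK'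
  have hder' : commutator ↥(fixR t u) ≤ K.subgroupOf (fixR t u) := by
    rw [commutator_def, Subgroup.commutator_le]
    intro x _ y _
    rw [mem_subgroupOf]
    exact hder (by
      rw [show ((⁅x, y⁆ : ↥(fixR t u)) : G) = ⁅(x : G), (y : G)⁆ from map_commutatorElement (fixR t u).subtype x y]
      exact commutator_mem_commutator x.2 y.2)
  have hnot : Abelianization.of ⟨a, ha⟩ ∉ K' := by
    rintro ⟨k, hk, e⟩
    have h1 : k⁻¹ * ⟨a, ha⟩ ∈ commutator ↥(fixR t u) := by
      rw [← Abelianization.ker_of, MonoidHom.mem_ker, map_mul, map_inv, e, inv_mul_cancel]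
    have h2 := mul_mem hk (hder' h1)
    rw [mul_inv_cancel_left, mem_subgroupOf] at h2
    exact haK h2
  haveI : Finite (Abelianization ↥(fixR t u) ⧸ K') := inferInstance
  obtain ⟨χ, hχ⟩ := CommGroup.exists_apply_ne_one_of_hasEnoughRootsOfUnity
    (Abelianization ↥(fixR t u) ⧸ K') ℂ (a := QuotientGroup.mk' K' (Abelianization.of ⟨a, ha⟩))
    (fun e => hnot ((QuotientGroup.eq_one_iff _).1 e))
  set θ : ↥(fixR t u) →* ℂˣ := χ.comp ((QuotientGroup.mk' K').comp Abelianization.of) with hθ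
  have hθ1 : θ ≠ 1 := fun e => hχ (by
    have := DFunLike.congr_fun e ⟨a, ha⟩
    rw [MonoidHom.one_apply] at this
    exact this)
  have hθK : ∀ x : ↥(fixR t u), (x : G) ∈ K → θ x = 1 := fun x hx => by
    show χ (QuotientGroup.mk' K' (Abelianization.of x)) = 1
    rw [show QuotientGroup.mk' K' (Abelianization.of x) = 1 from
      (QuotientGroup.eq_one_iff _).2 (mem_map_of_mem _ (mem_subgroupOf.2 hx)), map_one]
  obtain ⟨n, hn, hnt, hnu⟩ := h.exists_h
  obtain ⟨O⟩ := h.exists_orbit hK hNK hcap hn θ hθK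
  exact h.no_linear_char hn hnt hnu hθ1 O

end Cfsg.Agent.Invol.GW.Klein
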