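import Cfsg.Agent.Lib.Invol.GW.Klein.BlocksMatrix
import Mathlib.LinearAlgebra.Trace
import Mathlib.LinearAlgebra.FiniteDimensional.Lemmas
import Mathlib.GroupTheory.Coset.Card
import Mathlib.LinearAlgebra.Matrix.Rank

/-!
# A module in characteristic two which a four group with one class of involutions does not have

`A` is a full matrix representation whose traces lie in the prime field, `E t` the sum over the odd core of
the centraliser of `t`.  If the conjugates of `E t` add up to one and `E t` has rank at most three, then the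
rank is two, `t` is nontrivial on the image and one of the other two involutions `v` is trivial on it.  The
sums for `t` and `t * v` differ by sums over pairs interchanged by `v`, which is absurd.
-/

set_option autoImplicit false
set_option linter.unusedSectionVars false

namespace Cfsg.Agent.Invol.GW.Klein

open Matrix

universe u v

variable {G : Type u} [Group G] [Fintype G] [DecidableEq G] {k : Type v} [Field k] {n : ℕ}

/-- The elements of odd order commuting with `t`. -/
noncomputable def oddCent (t : G) : Finset G := by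
  classical exact Finset.univ.filter fun x => Commute x t ∧ Odd (orderOf x)

theorem mem_oddCent {t x : G} : x ∈ oddCent t ↔ Commute x t ∧ Odd (orderOf x) := by
  simp [oddCent]

theorem oddCent_conj {t x : G} (g : G) (hx : x ∈ oddCent t) : g * x * g⁻¹ ∈ oddCent (g * t * g⁻¹) := by
  rw [mem_oddCent] at hx ⊢
  refine ⟨hx.1.conj g, ?_⟩
  rw [show orderOf (g * x * g⁻¹) = orderOf x from MulEquiv.orderOf_eq (MulAut.conj g) x]
  exact hx.2

variable (A : G →* Matrix (Fin n) (Fin n) k)

/-- The sum over the odd core of the centraliser. -/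
noncomputable def coreSum (t : G) : Matrix (Fin n) (Fin n) k := ∑ x ∈ oddCent t, A x

theorem coreSum_conj (g t : G) : A g * coreSum A t * A g⁻¹ = coreSum A (g * t * g⁻¹) := by
  rw [coreSum, coreSum, Finset.mul_sum, Finset.sum_mul]
  refine Finset.sum_nbij' (fun x => g * x * g⁻¹) (fun x => g⁻¹ * x * g) (fun x hx => oddCent_conj g hx)
    (fun x hx => ?_) (fun x _ => by group) (fun x _ => by group) (fun x _ => by rw [← map_mul, ← map_mul])
  have := oddCent_conj g⁻¹ hx
  simpa [mul_assoc] using this

theorem coreSum_comm {g t : G} (h : Commute g t) : A g * coreSum A t = coreSum A t * A g := by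
  have h1 := coreSum_conj A g t
  rw [h.eq, mul_inv_cancel_right] at h1
  conv_rhs => rw [← h1]
  rw [mul_assoc, mul_assoc, ← map_mul, inv_mul_cancel, map_one, mul_one]

/-- The conjugates of a matrix, over the cosets of a centraliser. -/
noncomputable def orbitSum (t : G) (f : Matrix (Fin n) (Fin n) k) : Matrix (Fin n) (Fin n) k := by
  classical exact ∑ q : G ⧸ Subgroup.centralizer ({t} : Set G), A q.out * f * A q.out⁻¹

variable {A}

theorem conj_rep {t : G} {f : Matrix (Fin n) (Fin n) k} (hf : ∀ c, Commute c t → A c * f = f * A c) {a b : G}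
    (hab : (a : G ⧸ Subgroup.centralizer ({t} : Set G)) = b) : A a * f * A a⁻¹ = A b * f * A b⁻¹ := by
  obtain ⟨c, hc, rfl⟩ : ∃ c, Commute c t ∧ a * c = b :=
    ⟨a⁻¹ * b, Subgroup.mem_centralizer_singleton_iff.1 (QuotientGroup.eq.1 hab), mul_inv_cancel_left a b⟩
  rw [_root_.mul_inv_rev, map_mul, map_mul,
    show A a * A c * f * (A c⁻¹ * A a⁻¹) = A a * (A c * f) * A c⁻¹ * A a⁻¹ by simp only [mul_assoc], hf c hc]
  simp only [mul_assoc]
  rw [← mul_assoc (A c), ← map_mul, mul_inv_cancel, map_one, one_mul]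

theorem mat_add_self [CharP k 2] (M : Matrix (Fin n) (Fin n) k) : M + M = 0 := by
  rw [← two_smul k, CharTwo.two_eq_zero, zero_smul]

theorem mat_add_eq_zero [CharP k 2] {M N : Matrix (Fin n) (Fin n) k} (h : M + N = 0) : M = N :=
  add_right_cancel (h.trans (mat_add_self N).symm)

theorem add_one_sq [CharP k 2] {s : G} (hs : s * s = 1) : (A s + 1) * (A s + 1) = 0 := by
  rw [add_mul, mul_add, mul_add, ← map_mul, hs, map_one, one_mul, mul_one, mul_one, add_comm (A s) 1]
  exact mat_add_self _

theorem orbitSum_comm {t : G} {f : Matrix (Fin n) (Fin n) k} (hf : ∀ c, Commute c t → A c * f = f * A c)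
    (g : G) : orbitSum A t f * A g = A g * orbitSum A t f := by
  classical
  rw [orbitSum, Finset.sum_mul, Finset.mul_sum]
  symm
  refine Fintype.sum_equiv (MulAction.toPerm g) _ _ fun q => ?_
  have h1 := conj_rep hf (a := (g • q).out) (b := g * q.out) (by
    rw [QuotientGroup.out_eq', show ((g * q.out : G) : G ⧸ Subgroup.centralizer ({t} : Set G)) =
      g • ((q.out : G) : G ⧸ Subgroup.centralizer ({t} : Set G)) from rfl, QuotientGroup.out_eq'])
  show A g * (A q.out * f * A q.out⁻¹) = A (g • q).out * f * A (g • q).out⁻¹ * A g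
  rw [h1, _root_.mul_inv_rev, map_mul, map_mul]
  simp only [mul_assoc]
  rw [← map_mul, inv_mul_cancel, map_one, mul_one]

theorem trace_orbitSum (t : G) (f : Matrix (Fin n) (Fin n) k) :
    trace (orbitSum A t f) = ((Subgroup.centralizer ({t} : Set G)).index : k) * trace f := by
  classical
  rw [orbitSum, trace_sum, Finset.sum_congr rfl fun q _ => show trace (A q.out * f * A q.out⁻¹) = trace f by
    rw [trace_mul_comm, ← mul_assoc, ← map_mul, inv_mul_cancel, map_one, one_mul],
    Finset.sum_const, Finset.card_univ, nsmul_eq_mul, Subgroup.index_eq_card, Nat.card_eq_fintype_card]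

/-- In a plane a nonzero nilpotent commuting with the projection has image equal to its kernel. -/
theorem exists_eq_mulVec {E N : Matrix (Fin n) (Fin n) k} (_hEE : E * E = E) (hN : N * E = E * N)
    (hNN : N * N * E = 0) (hNE : N * E ≠ 0) (hr : Module.finrank k (LinearMap.range E.mulVecLin) = 2)
    {y : Fin n → k} (hy : E *ᵥ y = y) (hNy : N *ᵥ y = 0) : ∃ z, y = N *ᵥ (E *ᵥ z) := by
  set K := LinearMap.range E.mulVecLin ⊓ LinearMap.ker N.mulVecLin with hK
  have hlt : K < LinearMap.range E.mulVecLin := by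
    refine lt_of_le_of_ne inf_le_left fun e => hNE (Matrix.ext_of_mulVec_single fun i => ?_)
    have : E *ᵥ Pi.single i 1 ∈ K := e ▸ ⟨_, rfl⟩
    rw [← mulVec_mulVec, zero_mulVec]
    exact this.2
  have hle : LinearMap.range (N * E).mulVecLin ≤ K := by
    rintro _ ⟨x, rfl⟩
    refine ⟨⟨N *ᵥ x, ?_⟩, ?_⟩
    · rw [mulVecLin_apply, mulVecLin_apply, mulVec_mulVec, ← hN]
    · show N *ᵥ ((N * E) *ᵥ x) = 0
      rw [mulVec_mulVec, ← mul_assoc, hNN, zero_mulVec]
  have hne : LinearMap.range (N * E).mulVecLin ≠ ⊥ := fun e => hNE (Matrix.ext_of_mulVec_single fun i => by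
    rw [zero_mulVec]
    exact (Submodule.mem_bot k).1 (e ▸ ⟨Pi.single i 1, rfl⟩))
  have h1 := Submodule.finrank_lt_finrank_of_lt hlt
  have h2 := Submodule.one_le_finrank_iff.2 hne
  have h3 := Submodule.finrank_mono hle
  have heq := Submodule.eq_of_le_of_finrank_le hle (by omega)
  have hyK : y ∈ K := ⟨⟨y, hy⟩, hNy⟩
  rw [← heq] at hyK
  obtain ⟨z, hz⟩ := hyK
  exact ⟨z, by rw [mulVec_mulVec]; exact hz.symm⟩

theorem trace_of_idem {E : Matrix (Fin n) (Fin n) k} (hEE : E * E = E) :
    trace E = (Module.finrank k (LinearMap.range E.mulVecLin) : k) := by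
  have hp : LinearMap.IsProj (LinearMap.range E.mulVecLin) E.mulVecLin :=
    ⟨fun x => ⟨x, rfl⟩, by
      rintro _ ⟨x, rfl⟩
      simp [hEE]⟩
  rw [← hp.trace, ← Matrix.toLin'_apply', Matrix.trace_toLin'_eq]

/-- The contradiction. -/
theorem no_module [CharP k 2] [IsAlgClosed k] [NeZero n] (hA : Full A) (hn : n ≠ 1)
    (hsq : ∀ g, trace (A g) ^ 2 = trace (A g)) (hinv : ∀ g, trace (A g⁻¹) = trace (A g))
    {t u : G} (ht : t * t = 1) (hu : u * u = 1) (htu : Commute t u)
    (hgrp : ∀ x ∈ oddCent t, ∀ y ∈ oddCent t, x * y ∈ oddCent t)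
    (hcard : Odd (oddCent t).card)
    (hdec : ∀ c, Commute c t → ∃ x ∈ oddCent t, c = x ∨ c = x * t ∨ c = x * u ∨ c = x * (t * u))
    (hfus : ∃ h, h * t * h⁻¹ = u ∧ h * u * h⁻¹ = t * u)
    (hidx : Odd (Subgroup.centralizer ({t} : Set G)).index)
    (hrank : Module.finrank k (LinearMap.range (coreSum A t).mulVecLin) ≤ 3)
    (hsum : orbitSum A t (coreSum A t) = 1) : False := by
  classical
  set E := coreSum A t with hE
  have hcomm : ∀ c, Commute c t → A c * E = E * A c := fun c hc => coreSum_comm A hc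
  have hxE : ∀ x ∈ oddCent t, A x * E = E := fun x hx => by
    rw [hE, coreSum, Finset.mul_sum]
    refine Finset.sum_nbij' (fun y => x * y) (fun y => x⁻¹ * y) (fun y hy => hgrp x hx y hy) (fun y hy => ?_)
      (fun y _ => inv_mul_cancel_left x y) (fun y _ => mul_inv_cancel_left x y) (fun y _ => (map_mul A x y).symm)
    refine hgrp _ ?_ y hy
    rw [mem_oddCent, orderOf_inv] at *
    exact ⟨hx.1.inv_left, hx.2⟩
  have hEE : E * E = E := by
    conv_lhs => arg 1; rw [hE, coreSum]
    rw [Finset.sum_mul, Finset.sum_congr rfl hxE, Finset.sum_const]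
    obtain ⟨j, hj⟩ := hcard
    rw [hj, ← Nat.cast_smul_eq_nsmul k, Nat.cast_add, Nat.cast_mul, Nat.cast_two, CharTwo.two_eq_zero,
      zero_mul, zero_add, Nat.cast_one, one_smul]
  have hn2 : (n : k) = 0 := by
    obtain ⟨j, hj⟩ := hA.even_dim hn hinv
    rw [hj, Nat.cast_add, CharTwo.add_self_eq_zero]
  have hI : ((Subgroup.centralizer ({t} : Set G)).index : k) = 1 := by
    obtain ⟨j, hj⟩ := hidx
    rw [hj, Nat.cast_add, Nat.cast_mul, Nat.cast_two, CharTwo.two_eq_zero, zero_mul, zero_add, Nat.cast_one]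
  have htrace : ∀ f, (∀ c, Commute c t → A c * f = f * A c) → trace f = 0 := by
    intro f hf
    obtain ⟨c, hc⟩ := hA.scalar (orbitSum_comm hf)
    have := trace_orbitSum (A := A) t f
    rw [hc, trace_smul, trace_one, Fintype.card_fin, hn2, smul_zero, hI, one_mul] at this
    exact this.symm
  have hE0 : E ≠ 0 := fun h0 => by
    rw [h0] at hsum
    have h1 : orbitSum A t (0 : Matrix (Fin n) (Fin n) k) = 0 := by
      rw [orbitSum]
      exact Finset.sum_eq_zero fun q _ => by rw [mul_zero, zero_mul]
    exact one_ne_zero (hsum.symm.trans h1)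
  have hr : Module.finrank k (LinearMap.range E.mulVecLin) = 2 := by
    have h0 := htrace E hcomm
    rw [trace_of_idem hEE, CharP.cast_eq_zero_iff k 2] at h0
    have h1 : Module.finrank k (LinearMap.range E.mulVecLin) ≠ 0 := fun e => hE0
      (Matrix.ext_of_mulVec_single fun i => by
        rw [zero_mulVec]
        exact (Submodule.mem_bot k).1 (Submodule.finrank_eq_zero.1 e ▸ ⟨Pi.single i 1, rfl⟩))
    omega
  -- `u` and `t * u` agree with each other up to `t` on the image
  have hact : ∀ c, Commute c t → c * c = 1 → c ≠ t → c ≠ 1 → A c * E = A u * E ∨ A c * E = A (t * u) * E := by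
    intro c hc hcc hct hc1
    have hb : ∀ b, Commute b t → ∀ x ∈ oddCent t, A (x * b) * E = A b * E := fun b hb x hx => by
      rw [map_mul, mul_assoc, hcomm b hb, ← mul_assoc, hxE x hx]
    obtain ⟨x, hx, h | h | h | h⟩ := hdec c hc
    · exfalso
      have h2 := (mem_oddCent.1 hx).2
      rw [← h, orderOf_eq_prime (by rw [pow_two]; exact hcc) hc1] at h2
      exact absurd h2 (by decide)
    · exfalso
      refine hct ?_
      have hxx : x * x = 1 := by
        rw [h] at hcc
        calc x * x = x * (t * x) * t := by rw [← (mem_oddCent.1 hx).1.eq, mul_assoc, mul_assoc, ht, mul_one]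
          _ = 1 := by rw [← hcc]; simp only [mul_assoc]
      have h2 := (mem_oddCent.1 hx).2
      by_cases hx1 : x = 1
      · rw [h, hx1, one_mul]
      · rw [orderOf_eq_prime (by rw [pow_two]; exact hxx) hx1] at h2
        exact absurd h2 (by decide)
    · exact Or.inl (h ▸ hb u htu.symm x hx)
    · exact Or.inr (h ▸ hb _ ((Commute.refl t).mul_left htu.symm) x hx)
  have htE : A t * E ≠ E := by
    intro htE
    have hboth : ∀ c, Commute c t → c * c = 1 → c ≠ t → c ≠ 1 → A c * E = A u * E := fun c h1 h2 h3 h4 =>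
      (hact c h1 h2 h3 h4).elim id fun h => by
        rw [h, map_mul, mul_assoc, hcomm u htu.symm, ← mul_assoc, htE]
    set f := (A u + 1) * E with hf
    have hfc : ∀ c, Commute c t → A c * f = f * A c := by
      intro c hc
      have h1 : A (c * u * c⁻¹) * E = A u * E := by
        by_cases hu1 : u = 1
        · rw [hu1, mul_one, mul_inv_cancel]
        refine hboth _ ?_ ?_ ?_ ?_
        · have := (htu.symm.conj c)
          rwa [show c * t * c⁻¹ = t by rw [hc.eq, mul_inv_cancel_right]] at this
        · rw [show c * u * c⁻¹ * (c * u * c⁻¹) = c * (u * u) * c⁻¹ by group, hu, mul_one, mul_inv_cancel]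
        · intro e
          have : u = t := by
            calc u = c⁻¹ * (c * u * c⁻¹) * c := by group
              _ = t := by rw [e, mul_assoc, ← hc.eq, inv_mul_cancel_left]
          obtain ⟨g, hg1, hg2⟩ := hfus
          rw [this, ht] at hg2
          exact hu1 (this.trans (conj_eq_one_iff.1 hg2))
        · simpa [conj_eq_one_iff] using hu1
      calc A c * f = A (c * u * c⁻¹) * E * A c + E * A c := by
            rw [hf, add_mul, one_mul, mul_add, mul_assoc (A (c * u * c⁻¹)), ← hcomm c hc,
              ← mul_assoc (A (c * u * c⁻¹)), ← map_mul, inv_mul_cancel_right, map_mul, mul_assoc]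
        _ = f * A c := by rw [h1, hf, add_mul, one_mul, add_mul]
    obtain ⟨c, hc⟩ := hA.scalar (orbitSum_comm hfc)
    have hEt : E * A t = E := by rw [← hcomm t (Commute.refl t), htE]
    have hval : E * orbitSum A t f * E = f := by
      rw [orbitSum, Finset.mul_sum, Finset.sum_mul,
        ← Finset.sum_filter_add_sum_filter_not Finset.univ
          (fun q : G ⧸ Subgroup.centralizer ({t} : Set G) => t • q = q)]
      have hmove : ∑ q ∈ Finset.univ.filter (fun q : G ⧸ Subgroup.centralizer ({t} : Set G) => ¬ t • q = q),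
          E * (A q.out * f * A q.out⁻¹) * E = 0 := by
        refine Finset.sum_involution (fun q _ => t • q) (fun q _ => ?_)
          (fun q hq _ => (Finset.mem_filter.1 hq).2)
          (fun q hq => Finset.mem_filter.2 ⟨Finset.mem_univ _, fun e =>
            (Finset.mem_filter.1 hq).2 (MulAction.injective t e)⟩)
          (fun q _ => by rw [smul_smul, ht, one_smul])
        have h1 := conj_rep hfc (a := (t • q).out) (b := t * q.out) (by
          rw [QuotientGroup.out_eq', show ((t * q.out : G) : G ⧸ Subgroup.centralizer ({t} : Set G)) =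
            t • ((q.out : G) : G ⧸ Subgroup.centralizer ({t} : Set G)) from rfl, QuotientGroup.out_eq'])
        have h2 : E * (A (t • q).out * f * A (t • q).out⁻¹) * E = E * (A q.out * f * A q.out⁻¹) * E := by
          rw [h1, _root_.mul_inv_rev, inv_eq_of_mul_eq_one_right ht, map_mul, map_mul]
          simp only [mul_assoc]
          rw [htE, ← mul_assoc E, hEt]
        rw [h2, ← two_smul k, CharTwo.two_eq_zero, zero_smul]
      rw [hmove, add_zero, Finset.sum_eq_single ((1 : G) : G ⧸ Subgroup.centralizer ({t} : Set G))]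
      · rw [conj_rep hfc (b := 1) (QuotientGroup.out_eq' _), inv_one, map_one, one_mul, mul_one, hf,
          mul_assoc, mul_assoc, hEE, ← mul_assoc, mul_add, mul_one, ← hcomm u htu.symm, add_mul, hEE,
          mul_assoc, hEE, add_mul, one_mul]
      · intro q hq hq1
        set g := q.out with hg
        have hfix : Commute (g⁻¹ * t * g) t := by
          have h1 := (Finset.mem_filter.1 hq).2
          rw [← QuotientGroup.out_eq' q] at h1
          have h2 : (t * g)⁻¹ * g ∈ Subgroup.centralizer ({t} : Set G) :=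
            QuotientGroup.eq.1 (h1 : ((t * g : G) : G ⧸ Subgroup.centralizer ({t} : Set G)) = g)
          rw [_root_.mul_inv_rev, inv_eq_of_mul_eq_one_right ht] at h2
          exact Subgroup.mem_centralizer_singleton_iff.1 (by simpa [mul_assoc] using h2)
        have hne : g⁻¹ * t * g ≠ t := fun e => hq1 (by
          rw [← QuotientGroup.out_eq' q, QuotientGroup.eq, mul_one]
          refine inv_mem (Subgroup.mem_centralizer_singleton_iff.2 ?_)
          calc g * t = g * (g⁻¹ * t * g) := by rw [e]
            _ = t * g := by group)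
        have ht1 : t ≠ 1 := fun e => hne (by rw [e]; group)
        have h3 := hboth _ hfix
          (by rw [show g⁻¹ * t * g * (g⁻¹ * t * g) = g⁻¹ * (t * t) * g by group, ht, mul_one, inv_mul_cancel])
          hne (fun e => ht1 (by
            calc t = g * (g⁻¹ * t * g) * g⁻¹ := by group
              _ = 1 := by rw [e]; group))
        have h4 : A g * f * A g⁻¹ = (A t + 1) * (A g * E * A g⁻¹) := by
          rw [hf, show (A u + 1) * E = (A (g⁻¹ * t * g) + 1) * E by rw [add_mul, add_mul, h3]]
          simp only [add_mul, mul_add, one_mul, ← mul_assoc, ← map_mul]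
          rw [show g * g⁻¹ * t * g = t * g by group]
        rw [h4, ← mul_assoc, mul_add, mul_one, hEt, ← two_smul k, CharTwo.two_eq_zero, zero_smul, zero_mul,
          zero_mul]
      · exact fun h => absurd (Finset.mem_filter.2 ⟨Finset.mem_univ _, by
          show ((t * 1 : G) : G ⧸ Subgroup.centralizer ({t} : Set G)) = (1 : G)
          rw [mul_one, QuotientGroup.eq, mul_one]
          exact inv_mem (Subgroup.mem_centralizer_singleton_iff.2 rfl)⟩) h
    rw [hc, mul_smul_comm, mul_one, smul_mul_assoc, hEE] at hval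
    have hf2 : f * f = 0 := by
      have hEu : E * (A u + 1) = (A u + 1) * E := by rw [mul_add, add_mul, hcomm u htu.symm, mul_one, one_mul]
      rw [hf, mul_assoc, ← mul_assoc E, hEu, mul_assoc, hEE, ← mul_assoc, add_one_sq hu, zero_mul]
    have hc0 : c = 0 := by
      rw [← hval, smul_mul_assoc, mul_smul_comm, hEE, smul_smul, smul_eq_zero] at hf2
      exact mul_self_eq_zero.1 (hf2.resolve_right hE0)
    rw [hc0, zero_smul] at hval
    have huE : A u * E = E := by
      have h1 : A u * E + E = 0 := by rw [← hf.symm.trans hval.symm, add_mul, one_mul]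
      exact mat_add_eq_zero h1
    -- every element of the centraliser is trivial on the image
    have hall : ∀ c, Commute c t → A c * E = E := fun c hc => by
      obtain ⟨x, hx, h | h | h | h⟩ := hdec c hc <;> rw [h]
      · exact hxE x hx
      · rw [map_mul, mul_assoc, htE, hxE x hx]
      · rw [map_mul, mul_assoc, huE, hxE x hx]
      · rw [map_mul, map_mul, mul_assoc, mul_assoc, huE, htE, hxE x hx]
    refine hE0 (Matrix.ext_iff_trace_mul_left.2 fun M => ?_)
    rw [mul_zero, trace_zero, ← hEE, ← mul_assoc, trace_mul_comm, ← mul_assoc]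
    refine htrace _ fun c hc => ?_
    rw [← mul_assoc, ← mul_assoc, hall c hc, mul_assoc (E * M) E, ← hcomm c hc, hall c hc]
  -- `u` is `t` or trivial on the image
  have hEt : E * A t = A t * E := (hcomm t (Commute.refl t)).symm
  set X := A t + 1 with hX
  set Y := A u + 1 with hY
  have hinvol : ∀ s : G, s * s = 1 → (A s + 1) * (A s + 1) = 0 := fun s hs => add_one_sq hs
  have hXE : X * E = E * X := by rw [hX, add_mul, mul_add, hEt, one_mul, mul_one]
  have hYE : Y * E = E * Y := by rw [hY, add_mul, mul_add, hcomm u htu.symm, one_mul, mul_one]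
  have hXX : X * X * E = 0 := by rw [hinvol t ht, zero_mul]
  have hXE0 : X * E ≠ 0 := fun h => htE (by
    rw [hX, add_mul, one_mul] at h
    exact mat_add_eq_zero h)
  have hXY : X * Y = Y * X := by
    simp only [hX, hY, add_mul, mul_add, one_mul, mul_one, ← map_mul, htu.eq]
    abel
  obtain ⟨m, hm⟩ : ∃ m : k, Y * E = m • (X * E) := by
    obtain ⟨i, hi⟩ : ∃ i, (X * E) *ᵥ Pi.single i 1 ≠ 0 := by
      by_contra hno
      push Not at hno
      exact hXE0 (Matrix.ext_of_mulVec_single fun i => by rw [zero_mulVec]; exact hno i)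
    set w := E *ᵥ Pi.single i (1 : k) with hw
    have hwE : E *ᵥ w = w := by rw [hw, mulVec_mulVec, hEE]
    have hXw : X *ᵥ w ≠ 0 := by rw [hw, mulVec_mulVec]; exact hi
    have hker : ∀ y, E *ᵥ y = y → X *ᵥ y = 0 → ∃ a : k, y = a • (X *ᵥ w) := by
      intro y hy hXy
      have hle : Submodule.span k {X *ᵥ w} ≤ LinearMap.range E.mulVecLin ⊓ LinearMap.ker X.mulVecLin :=
        (Submodule.span_singleton_le_iff_mem _ _).2 ⟨⟨X *ᵥ w, by
            rw [mulVecLin_apply, mulVec_mulVec, ← hXE, ← mulVec_mulVec, hwE]⟩, by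
            show X *ᵥ (X *ᵥ w) = 0
            rw [mulVec_mulVec, hinvol t ht, zero_mulVec]⟩
      have hlt : LinearMap.range E.mulVecLin ⊓ LinearMap.ker X.mulVecLin < LinearMap.range E.mulVecLin :=
        lt_of_le_of_ne inf_le_left fun e => hXw (inf_eq_left.1 e ⟨w, hwE⟩)
      have h1 := Submodule.finrank_lt_finrank_of_lt hlt
      have heq := Submodule.eq_of_le_of_finrank_le hle (by rw [finrank_span_singleton hXw]; omega)
      have hyK : y ∈ LinearMap.range E.mulVecLin ⊓ LinearMap.ker X.mulVecLin := ⟨⟨y, hy⟩, hXy⟩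
      rw [← heq, Submodule.mem_span_singleton] at hyK
      obtain ⟨a, ha⟩ := hyK
      exact ⟨a, ha.symm⟩
    have hYXw : Y *ᵥ (X *ᵥ w) = 0 := by
      obtain ⟨a, ha⟩ := hker (Y *ᵥ (X *ᵥ w))
        (by simp only [mulVec_mulVec]; rw [← mul_assoc E, ← hYE, mul_assoc Y E, ← hXE, ← mul_assoc,
              ← mulVec_mulVec, hwE])
        (by simp only [mulVec_mulVec]; rw [← mul_assoc, hXY, mul_assoc, hinvol t ht, mul_zero, zero_mulVec])
      have h2 : Y *ᵥ (Y *ᵥ (X *ᵥ w)) = 0 := by rw [mulVec_mulVec, hinvol u hu, zero_mulVec]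
      rw [ha, mulVec_smul, ha, smul_smul, smul_eq_zero] at h2
      rw [ha, mul_self_eq_zero.1 (h2.resolve_right hXw), zero_smul]
    obtain ⟨a, ha⟩ := hker (Y *ᵥ w)
      (by rw [mulVec_mulVec, ← hYE, ← mulVec_mulVec, hwE])
      (by rw [mulVec_mulVec, hXY, ← mulVec_mulVec]; exact hYXw)
    refine ⟨a, Matrix.ext_of_mulVec_single fun j => ?_⟩
    set y := E *ᵥ Pi.single j (1 : k) with hy
    have hyE : E *ᵥ y = y := by rw [hy, mulVec_mulVec, hEE]
    obtain ⟨b, hb⟩ := hker (X *ᵥ y) (by rw [mulVec_mulVec, ← hXE, ← mulVec_mulVec, hyE])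
      (by rw [mulVec_mulVec, hinvol t ht, zero_mulVec])
    obtain ⟨e, he⟩ := hker (y - b • w) (by rw [mulVec_sub, mulVec_smul, hyE, hwE])
      (by rw [mulVec_sub, mulVec_smul, hb, sub_self])
    have hy2 : y = b • w + e • (X *ᵥ w) := by rw [← he, add_sub_cancel]
    rw [smul_mulVec, ← mulVec_mulVec, ← mulVec_mulVec, ← hy, hb]
    conv_lhs => rw [hy2]
    rw [mulVec_add, mulVec_smul, mulVec_smul, hYXw, smul_zero, add_zero, ha, smul_smul, smul_smul, mul_comm]
  have hm2 : m = 0 ∨ m = 1 := by
    obtain ⟨P, hP, hPA⟩ := (hA.map (frobenius k 2)).exists_conj hA fun g => by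
      show trace ((A g).map (frobenius k 2)) = _
      rw [← hsq g]
      simp [trace, Matrix.diag, frobenius_def, CharTwo.sum_sq]
    have hmap : ∀ g, P * (A g).map (frobenius k 2) = A g * P := hPA
    have hEmap : P * E.map (frobenius k 2) = E * P := by
      rw [hE, coreSum, show ((∑ x ∈ oddCent t, A x).map (frobenius k 2)) =
        ∑ x ∈ oddCent t, (A x).map (frobenius k 2) from map_sum ((frobenius k 2).mapMatrix) _ _,
        Finset.mul_sum, Finset.sum_mul]
      exact Finset.sum_congr rfl fun x _ => hmap x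
    have hone : ∀ s, P * ((A s + 1) * E).map (frobenius k 2) = (A s + 1) * E * P := fun s => by
      rw [show ((A s + 1) * E).map (frobenius k 2) =
        ((A s).map (frobenius k 2) + 1) * E.map (frobenius k 2) by
          show (frobenius k 2).mapMatrix ((A s + 1) * E) = _
          rw [map_mul, map_add, map_one]; rfl,
        ← mul_assoc, mul_add, hmap, mul_one, show A s * P + P = (A s + 1) * P by rw [add_mul, one_mul],
        mul_assoc, hEmap, ← mul_assoc]
    have h1 := congrArg (fun M : Matrix (Fin n) (Fin n) k => P * M.map (frobenius k 2)) hm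
    simp only [hY, hX] at h1
    have hsm : ∀ Z : Matrix (Fin n) (Fin n) k,
        (m • Z).map (frobenius k 2) = m ^ 2 • Z.map (frobenius k 2) := fun Z => by
      ext i j; simp [frobenius_def, mul_pow]
    rw [hone, hsm, mul_smul_comm, hone, ← smul_mul_assoc, ← hY, ← hX, hm] at h1
    have h2 := congrArg (· * P⁻¹) h1
    rw [mul_assoc, Matrix.mul_nonsing_inv _ hP, mul_one, mul_assoc, Matrix.mul_nonsing_inv _ hP, mul_one,
      ← sub_eq_zero, ← sub_smul, smul_eq_zero] at h2
    have h3 := h2.resolve_right hXE0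
    rcases mul_eq_zero.1 (show m * (1 - m) = 0 by linear_combination h3) with h | h
    · exact Or.inl h
    · exact Or.inr (sub_eq_zero.1 h).symm
  obtain ⟨h, hh1, hh2⟩ := hfus
  have hh3 : h * (t * u) * h⁻¹ = t := by
    rw [show h * (t * u) * h⁻¹ = h * t * h⁻¹ * (h * u * h⁻¹) by group, hh1, hh2, htu.eq,
      ← mul_assoc, hu, one_mul]
  obtain ⟨v, g, hvv, hvt, hvE, hg1, hg2⟩ : ∃ v g, v * v = 1 ∧ Commute v t ∧ A v * E = E ∧
      g * t * g⁻¹ = t * v ∧ g * (t * v) * g⁻¹ = v := by
    rcases hm2 with rfl | rfl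
    · refine ⟨u, h * h, hu, htu.symm, ?_, ?_, ?_⟩
      · rw [zero_smul, hY, add_mul, one_mul] at hm
        exact mat_add_eq_zero hm
      · rw [show h * h * t * (h * h)⁻¹ = h * (h * t * h⁻¹) * h⁻¹ by group, hh1, hh2]
      · rw [show h * h * (t * u) * (h * h)⁻¹ = h * (h * (t * u) * h⁻¹) * h⁻¹ by group, hh3, hh1]
    · refine ⟨t * u, h, ?_, (Commute.refl t).mul_left htu.symm, ?_, ?_, ?_⟩
      · rw [mul_assoc, ← mul_assoc u, ← htu.eq, mul_assoc t u u, hu, mul_one, ht]
      · rw [one_smul, hY, hX, add_mul, add_mul, one_mul] at hm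
        rw [map_mul, mul_assoc, add_right_cancel hm, ← mul_assoc, ← map_mul, ht, map_one, one_mul]
      · rw [hh1, ← mul_assoc, ht, one_mul]
      · rw [show h * (t * (t * u)) * h⁻¹ = h * (t * t * u) * h⁻¹ by group, ht, one_mul, hh2]
  set N := A v + 1 with hN
  set v' := t * v with hv'
  set E' := coreSum A v' with hE'
  have hcv : Commute v v' := hvt.mul_right (Commute.refl v)
  have hNE' : N * E' ≠ 0 := by
    intro h0
    refine hXE0 ?_
    have hc : Commute (t * v) t := (Commute.refl t).mul_left hvt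
    have h2 : A g⁻¹ * (N * E') * A g = 0 := by rw [h0, mul_zero, zero_mul]
    have hback : g⁻¹ * v' * g⁻¹⁻¹ = t := by
      rw [← hg1]; group
    have hE'c : A g⁻¹ * E' * A g = E := by
      have := coreSum_conj A g⁻¹ v'
      rw [hback, inv_inv] at this
      exact this
    have hvc : A g⁻¹ * A v = A (t * v) * A g⁻¹ := by
      rw [← map_mul, ← map_mul]
      congr 1
      calc g⁻¹ * v = g⁻¹ * (g * (t * v) * g⁻¹) := by rw [hg2]
        _ = t * v * g⁻¹ := by group
    rw [hN, add_mul, one_mul, mul_add, add_mul, hE'c, ← mul_assoc (A g⁻¹), hvc, mul_assoc (A (t * v)),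
      mul_assoc (A (t * v)), hE'c, map_mul, mul_assoc, hvE] at h2
    rw [hX, add_mul, one_mul]
    exact h2
  have hE'E' : E' * E' = E' := by
    rw [hE', ← hg1, ← coreSum_conj, ← hE]
    calc A g * E * A g⁻¹ * (A g * E * A g⁻¹) = A g * (E * (A g⁻¹ * A g) * E) * A g⁻¹ := by
          simp only [mul_assoc]
      _ = _ := by rw [← map_mul, inv_mul_cancel, map_one, mul_one, hEE]
  have hr' : Module.finrank k (LinearMap.range E'.mulVecLin) = 2 := by
    have hu1 : A g * A g⁻¹ = 1 := by rw [← map_mul, mul_inv_cancel, map_one]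
    have hu2 : A g⁻¹ * A g = 1 := by rw [← map_mul, inv_mul_cancel, map_one]
    have he : Matrix.rank E' = Matrix.rank E := by
      rw [hE', ← hg1, ← coreSum_conj,
        Matrix.rank_mul_eq_left_of_isUnit_det _ _ ((Matrix.isUnit_iff_isUnit_det _).1 (IsUnit.of_mul_eq_one _ hu2)),
        Matrix.rank_mul_eq_right_of_isUnit_det _ _ ((Matrix.isUnit_iff_isUnit_det _).1 (IsUnit.of_mul_eq_one _ hu1))]
    rw [Matrix.rank, Matrix.rank, hr] at he
    exact he
  obtain ⟨w, hw, hw0⟩ : ∃ w, E *ᵥ w = w ∧ w ≠ 0 := by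
    by_contra hno
    push Not at hno
    exact hE0 (Matrix.ext_of_mulVec_single fun i => by
      rw [zero_mulVec]
      exact hno _ (by rw [mulVec_mulVec, hEE]))
  have hNw : N *ᵥ w = 0 := by
    rw [← hw, mulVec_mulVec, hN, add_mul, one_mul, hvE, mat_add_self, zero_mulVec]
  -- modulo the image of `N` the two sums agree at `w`
  have hfilter : ∀ s : G, Commute v s → ∃ z,
      coreSum A s *ᵥ w = (∑ x ∈ (oddCent s).filter (fun x => Commute x v), A x) *ᵥ w + N *ᵥ z := by
    intro s hs
    set π := (LinearMap.range N.mulVecLin).mkQ with hπ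
    have h0 : π (coreSum A s *ᵥ w) =
        π ((∑ x ∈ (oddCent s).filter (fun x => Commute x v), A x) *ᵥ w) := by
      rw [coreSum, ← Finset.sum_filter_add_sum_filter_not (oddCent s) (fun x => Commute x v) (fun x => A x),
        add_mulVec, map_add]
      suffices π ((∑ x ∈ (oddCent s).filter (fun x => ¬ Commute x v), A x) *ᵥ w) = 0 by rw [this, add_zero]
      rw [sum_mulVec, map_sum]
      refine Finset.sum_involution (fun x _ => v * x * v) (fun x _ => ?_)
        (fun x hx _ e => (Finset.mem_filter.1 hx).2 ?_) (fun x hx => ?_)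
        (fun x _ => by rw [show v * (v * x * v) * v = v * v * x * (v * v) by group, hvv, one_mul, mul_one])
      · have hvw : A v *ᵥ w = w := by
          rw [← hw, mulVec_mulVec, hvE]
        have hsame : π (A (v * x * v) *ᵥ w) = π (A x *ᵥ w) := by
          rw [map_mul, map_mul, ← mulVec_mulVec, hvw, ← mulVec_mulVec, hπ, Submodule.mkQ_apply,
            Submodule.mkQ_apply, Submodule.Quotient.eq]
          refine ⟨A x *ᵥ w, ?_⟩
          show N *ᵥ (A x *ᵥ w) = _
          rw [hN, add_mulVec, one_mulVec]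
          funext i
          simp [CharTwo.sub_eq_add]
        rw [hsame, ← two_smul k, CharTwo.two_eq_zero, zero_smul]
      · calc x * v = v * x * v * v := by rw [e]
          _ = v * x := by rw [mul_assoc, hvv, mul_one]
      · obtain ⟨hx1, hx2⟩ := Finset.mem_filter.1 hx
        refine Finset.mem_filter.2 ⟨?_, fun hc => hx2 ?_⟩
        · have := oddCent_conj v hx1
          rwa [show v * s * v⁻¹ = s by rw [hs.eq, mul_inv_cancel_right], inv_eq_of_mul_eq_one_right hvv] at this
        · have := hc.conj v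
          rwa [inv_eq_of_mul_eq_one_right hvv, show v * (v * x * v) * v = v * v * x * (v * v) by group,
            hvv, one_mul, mul_one, one_mul] at this
    rw [hπ, Submodule.mkQ_apply, Submodule.mkQ_apply, Submodule.Quotient.eq] at h0
    obtain ⟨z, hz⟩ := h0
    exact ⟨z, by rw [show N *ᵥ z = _ from hz, add_sub_cancel]⟩
  have hset : (oddCent t).filter (fun x => Commute x v) = (oddCent v').filter (fun x => Commute x v) := by
    ext x
    simp only [Finset.mem_filter, mem_oddCent]
    refine ⟨fun ⟨⟨h1, h2⟩, h3⟩ => ⟨⟨h1.mul_right h3, h2⟩, h3⟩, fun ⟨⟨h1, h2⟩, h3⟩ => ⟨⟨?_, h2⟩, h3⟩⟩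
    have := h1.mul_right h3
    rwa [hv', mul_assoc, hvv, mul_one] at this
  obtain ⟨z₁, hz₁⟩ := hfilter t hvt
  obtain ⟨z₂, hz₂⟩ := hfilter v' hcv
  rw [← hE, hw, hset] at hz₁
  rw [← hE'] at hz₂
  have hw' : w = E' *ᵥ w + N *ᵥ (z₁ - z₂) := by
    rw [mulVec_sub, hz₂]
    conv_lhs => rw [hz₁]
    abel
  have hNE'c : N * E' = E' * N := by rw [hN, hE', add_mul, mul_add, coreSum_comm A hcv, one_mul, mul_one]
  obtain ⟨z, hz⟩ := exists_eq_mulVec hE'E' hNE'c (by rw [hN, hinvol v hvv, zero_mul]) hNE' hr'
    (y := E' *ᵥ w) (by rw [mulVec_mulVec, hE'E'])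
    (by rw [mulVec_mulVec, hNE'c, ← mulVec_mulVec, hNw, mulVec_zero])
  refine hw0 ?_
  have hEN : E * N = 0 := by
    rw [hN, mul_add, mul_one, ← hcomm v hvt, hvE, mat_add_self]
  rw [← hw, hw', hz, ← mulVec_add, mulVec_mulVec, hEN, zero_mulVec]

end Cfsg.Agent.Invol.GW.Klein
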