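import Cfsg.Agent.Lib.Invol.GW.Klein.BlocksMatrix
import Cfsg.Agent.Lib.Char.DecompBlock
import Cfsg.Agent.Lib.Char.ModularRank

/-!
# The simple module of a primitive idempotent

A primitive idempotent `i` over the local ring has a surjection of the modular group algebra onto matrices
which kills the inequivalent primitive idempotents and sends `i` to a projection of rank one.  Its traces are
combinations of the reduced characters of the block of `i`.
-/

set_option autoImplicit false
set_option linter.unusedSectionVars false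
set_option linter.style.haveILetI false
set_option maxHeartbeats 800000

namespace Cfsg.Agent.Invol.GW.Klein

open Cfsg Cfsg.Agent.Block Cfsg.Agent.Char Cfsg.Agent.Char.Decomp Cfsg.Agent.Char.Spec Cfsg.Agent.Char.BP
  Cfsg.Agent.Char.Res Cfsg.Agent.Char.Corner Matrix

universe u

variable {G : Type u} [Group G] [Fintype G] [DecidableEq G] {p : ℕ} [Fact p.Prime] {M : Ideal AlgInt}

theorem exists_matrix_at (hM : IsPModular p M) {i : MonoidAlgebra ℂ G} (hi : Pr M i) :
    letI := resInst hM
    ∃ (n : ℕ) (_ : NeZero n) (π : MonoidAlgebra (ResField hM) G →ₐ[ResField hM]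
        Matrix (Fin n) (Fin n) (ResField hM)),
      Function.Surjective π ∧ trace (π (redA hM i)) ≠ 0 ∧
      Module.finrank (ResField hM) (LinearMap.range (π (redA hM i)).mulVecLin) ≤ 1 ∧
      (∀ j, Pr M j → ¬ Eqv M i j → π (redA hM j) = 0) ∧
      ∀ j, Pr M j → Eqv M i j →
        Module.finrank (ResField hM) (LinearMap.range (π (redA hM j)).mulVecLin) ≤ 1 := by
  classical
  letI := resInst hM
  haveI := resField_isAlgClosed hM
  obtain ⟨hnt, hloc⟩ := corner_scalar hM hi
  have he := redA_idem hM hi.ring hi.idem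
  haveI : Nontrivial he.Corner := hnt
  let I₀ : Ideal (MonoidAlgebra (ResField hM) G) :=
    { carrier := {y | ∀ a b, IsNilpotent (proj (K := ResField hM) he (a * y * b))}
      zero_mem' := fun a b => by simp
      add_mem' := fun {y z} hy hz a b => by
        rw [mul_add, add_mul, map_add]
        exact LocAlg.nilpotent_add hloc (hy a b) (hz a b)
      smul_mem' := fun r y hy a b => by
        rw [smul_eq_mul, ← mul_assoc a r y]
        exact hy (a * r) b }
  haveI : I₀.IsTwoSided := ⟨fun {y} r hy a b => by
    rw [← mul_assoc a y r, mul_assoc (a * y) r b]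
    exact hy a (r * b)⟩
  have hout : ∀ j, Pr M j → ¬ Eqv M i j → redA hM j ∈ I₀ := by
    intro j hj hne a b
    by_contra hnil
    obtain ⟨A, hA, rfl⟩ := redA_surjective hM a
    obtain ⟨B, hB, rfl⟩ := redA_surjective hM b
    set X := i * (A * j * B) * i with hXdef
    have hX : AlgRing M X := (hi.ring.mul hM ((hA.mul hM hj.ring).mul hM hB)).mul hM hi.ring
    rcases prim_dichotomy hM hi.1 (Res.fx_bot hX)
      (by rw [hXdef, ← mul_assoc, ← mul_assoc, hi.idem])
      (by rw [hXdef, mul_assoc, hi.idem]) with ⟨w, hw, hwc, hxw⟩ | ⟨N, hN⟩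
    · refine hne ⟨A, B * i * w, hA, (hB.mul hM hi.ring).mul hM hw.1, ?_⟩
      conv_lhs => rw [← hxw, hXdef]
      simp only [mul_assoc]
    · refine hnil ⟨N + 1, Subtype.ext ?_⟩
      set y := proj (K := ResField hM) he (redA hM A * redA hM j * redA hM B) with hy
      have hyX : y.1 = redA hM X := by
        rw [hy, proj_val, hXdef, redA_mul hM (hi.ring.mul hM ((hA.mul hM hj.ring).mul hM hB)) hi.ring,
          redA_mul hM hi.ring ((hA.mul hM hj.ring).mul hM hB), redA_mul hM (hA.mul hM hj.ring) hB,
          redA_mul hM hA hj.ring]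
      have hpow : ∀ n : ℕ, (y ^ n).1 = y.1 ^ n * (redA hM i) := by
        intro n
        induction n with
        | zero => rw [pow_zero, pow_zero, one_mul]; rfl
        | succ n ih =>
          rw [pow_succ]
          show (y ^ n).1 * y.1 = _
          rw [ih, mul_assoc, (val_mem he y).1, pow_succ, mul_assoc, (val_mem he y).2]
      show (y ^ (N + 1)).1 = 0
      rw [pow_succ']
      show y.1 * (y ^ N).1 = 0
      rw [hpow, hyX, ← redA_pow hM hX, ← redA_mul hM (AlgRing.pow hM hX N) hi.ring,
        (redA_eq_zero hM ((AlgRing.pow hM hX N).mul hM hi.ring)).2 hN, mul_zero]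
  have h1 : (1 : MonoidAlgebra (ResField hM) G) ∉ I₀ := by
    intro h
    have h2 := h 1 1
    rw [mul_one, one_mul] at h2
    have h3 : proj (K := ResField hM) he 1 = 1 := Subtype.ext (by
      rw [proj_val, mul_one, he.eq]; rfl)
    rw [h3] at h2
    exact not_isNilpotent_one h2
  obtain ⟨n, hn, π, hπs, hπ0⟩ := exists_matrix_hom (K := ResField hM) I₀ h1
  haveI := hn
  set E := π (redA hM i) with hEdef
  have hEE : E * E = E := by rw [hEdef, ← map_mul, he.eq]
  have hzero : ∀ j, Pr M j → ¬ Eqv M i j → π (redA hM j) = 0 := fun j hj h => hπ0 _ (hout j hj h)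
  have hmove : ∀ j, Pr M j → Eqv M i j → ∃ U V, π (redA hM j) = U * E * V := by
    intro j hj hq
    obtain ⟨u, v, hu, hv, hje⟩ := Eqv.symm hM hi hj hq
    refine ⟨π (redA hM j) * π (redA hM u), π (redA hM v) * π (redA hM j), ?_⟩
    conv_lhs => rw [hje, redA_mul hM (((hj.ring.mul hM hu).mul hM hi.ring).mul hM hv) hj.ring,
      redA_mul hM ((hj.ring.mul hM hu).mul hM hi.ring) hv, redA_mul hM (hj.ring.mul hM hu) hi.ring,
      redA_mul hM hj.ring hu]
    simp only [map_mul, mul_assoc, hEdef]
  have hE0 : E ≠ 0 := by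
    intro hE
    obtain ⟨k, f, hf, hsum⟩ := exists_decomp (G := G) (p := p) hM _ 1 le_rfl (AlgRing.one hM) (one_mul _)
    have hall : ∀ t, π (redA hM (f t)) = 0 := by
      intro t
      by_cases hq : Eqv M i (f t)
      · obtain ⟨U, V, h⟩ := hmove _ (hf t) hq
        rw [h, hE, mul_zero, zero_mul]
      · exact hzero _ (hf t) hq
    have hred : ∀ s : Finset (Fin k), redA hM (∑ t ∈ s, f t) = ∑ t ∈ s, redA hM (f t) := by
      intro s
      induction s using Finset.induction_on with
      | empty => simp [redA_zero]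
      | insert t s ht ih =>
        rw [Finset.sum_insert ht, Finset.sum_insert ht,
          redA_add hM (hf t).ring (AlgRing.sum hM fun t _ => (hf t).ring), ih]
    have h2 := congrArg π (hred Finset.univ)
    rw [hsum, redA_one, map_one, map_sum, Finset.sum_eq_zero fun t _ => hall t] at h2
    exact one_ne_zero h2
  have hscal : ∀ T : Matrix (Fin n) (Fin n) (ResField hM),
      ∃ c : ResField hM, IsNilpotent (E * T * E - c • E) := by
    intro T
    obtain ⟨y, rfl⟩ := hπs T
    obtain ⟨c, N, hc⟩ := hloc (proj (K := ResField hM) he y)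
    refine ⟨c, N + 1, ?_⟩
    set z := proj (K := ResField hM) he y - algebraMap (ResField hM) he.Corner c with hz
    have hz1 : π z.1 = E * π y * E - c • E := by
      have e : z.1 = redA hM i * y * redA hM i - c • redA hM i := rfl
      rw [e, map_sub, map_mul, map_mul, map_smul]
    rw [← hz1, ← map_pow]
    have hpow : ∀ n : ℕ, (z ^ (n + 1)).1 = z.1 ^ (n + 1) := by
      intro n
      induction n with
      | zero => rw [pow_one, pow_one]
      | succ n ih =>
        rw [pow_succ, pow_succ _ (n + 1)]
        show (z ^ (n + 1)).1 * z.1 = _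
        rw [ih]
    rw [← hpow, pow_succ, hc, zero_mul]
    exact map_zero π
  have htr : trace E ≠ 0 := by
    intro h0
    refine hE0 (Matrix.ext fun a b => ?_)
    obtain ⟨c, hc⟩ := hscal (Matrix.single b a 1)
    have h2 := (Matrix.isNilpotent_trace_of_isNilpotent hc).eq_zero
    rw [Matrix.trace_sub, Matrix.trace_smul, h0, smul_zero, sub_zero, Matrix.trace_mul_comm,
      ← mul_assoc, hEE] at h2
    rw [Matrix.trace_mul_comm, Matrix.trace_single_mul] at h2
    simpa using h2
  have hrank : Module.finrank (ResField hM) (LinearMap.range E.mulVecLin) ≤ 1 := by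
    by_contra hbig
    push Not at hbig
    obtain ⟨a, ha⟩ : ∃ a, E *ᵥ a ≠ 0 := by
      by_contra hno
      push Not at hno
      exact hE0 (Matrix.ext_of_mulVec_single fun j => by rw [zero_mulVec]; exact hno _)
    set x := E *ᵥ a with hx
    have hxE : E *ᵥ x = x := by rw [hx, mulVec_mulVec, hEE]
    have hlt : Submodule.span (ResField hM) {x} < LinearMap.range E.mulVecLin := by
      refine lt_of_le_of_ne ((Submodule.span_singleton_le_iff_mem _ _).2 ⟨a, rfl⟩) fun e => ?_
      rw [← e, finrank_span_singleton ha] at hbig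
      exact lt_irrefl _ hbig
    obtain ⟨y, hy, hyx⟩ := SetLike.exists_of_lt hlt
    have hyE : E *ᵥ y = y := by
      obtain ⟨b, rfl⟩ := hy
      rw [mulVecLin_apply, mulVec_mulVec, hEE]
    obtain ⟨φ, hφy, hφmap⟩ := Submodule.exists_dual_map_eq_bot_of_notMem hyx inferInstance
    have hφx : φ x = 0 := (Submodule.mem_bot (ResField hM)).1
      (hφmap ▸ Submodule.mem_map_of_mem (Submodule.mem_span_singleton_self x))
    -- a map sending `y` to a multiple of itself and killing `x`
    obtain ⟨c, hc⟩ := hscal (LinearMap.toMatrix' (φ.smulRight y))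
    set T := E * LinearMap.toMatrix' (φ.smulRight y) * E - c • E with hT
    have hTx : T *ᵥ x = (-c) • x := by
      rw [hT, sub_mulVec, ← mulVec_mulVec, ← mulVec_mulVec, hxE, LinearMap.toMatrix'_mulVec,
        LinearMap.smulRight_apply, hφx, zero_smul, mulVec_zero, smul_mulVec, hxE, zero_sub, neg_smul]
    have hTy : T *ᵥ y = (φ y - c) • y := by
      rw [hT, sub_mulVec, ← mulVec_mulVec, ← mulVec_mulVec, hyE, LinearMap.toMatrix'_mulVec,
        LinearMap.smulRight_apply, mulVec_smul, hyE, smul_mulVec, hyE, sub_smul]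
    have hev : ∀ (v : Fin n → ResField hM) (d : ResField hM), T *ᵥ v = d • v → v ≠ 0 → d = 0 := by
      intro v d hv hv0
      obtain ⟨N, hN⟩ := hc
      have hpow : ∀ N : ℕ, (T ^ N) *ᵥ v = d ^ N • v := by
        intro N
        induction N with
        | zero => rw [pow_zero, one_mulVec, pow_zero, one_smul]
        | succ N ih => rw [pow_succ, ← mulVec_mulVec, hv, mulVec_smul, ih, smul_smul, pow_succ']
      have h := hpow N
      rw [hN, zero_mulVec] at h
      exact eq_zero_of_pow_eq_zero ((smul_eq_zero.1 h.symm).resolve_right hv0)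
    have hy0 : y ≠ 0 := fun e => hyx (e ▸ Submodule.zero_mem _)
    have hc0 := hev x _ hTx ha
    rw [neg_eq_zero] at hc0
    have h2 := hev y _ hTy hy0
    rw [hc0, sub_zero] at h2
    exact hφy h2
  refine ⟨n, hn, π, hπs, htr, hrank, hzero, fun j hj hq => ?_⟩
  obtain ⟨U, V, h⟩ := hmove j hj hq
  rw [h]
  calc Module.finrank (ResField hM) (LinearMap.range (U * E * V).mulVecLin)
      ≤ Module.finrank (ResField hM) (LinearMap.range (U * E).mulVecLin) :=
        Matrix.rank_mul_le_left (U * E) V
    _ ≤ Module.finrank (ResField hM) (LinearMap.range E.mulVecLin) := Matrix.rank_mul_le_right U E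
    _ ≤ 1 := hrank

/-- The traces of the simple module of a block are combinations of the characters of the block. -/
theorem exists_trace_comb (hM : IsPModular p M) {B : Set (IrrCharacter G)} (hB : IsPBlock M B)
    [DecidablePred (· ∈ B)] :
    letI := resInst hM
    ∀ {n : ℕ} (π : MonoidAlgebra (ResField hM) G →ₐ[ResField hM] Matrix (Fin n) (Fin n) (ResField hM)),
      π (redA hM (bz B)) = 1 →
      ∃ c : IrrCharacter G → ResField hM, ∀ g, trace (π (MonoidAlgebra.single g 1)) =
        ∑ χ ∈ Finset.univ.filter (· ∈ B), c χ * red hM ((χ : G → ℂ) g) := by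
  classical
  letI := resInst hM
  haveI : CharP (ResField hM) p := resField_charP hM
  intro n π hπ
  set τ : G → ResField hM := fun g => trace (π (MonoidAlgebra.single g 1)) with hτ
  let ρ : G →* Module.End (ResField hM) (Fin n → ResField hM) :=
    ((Matrix.toLinAlgEquiv' : Matrix (Fin n) (Fin n) (ResField hM) ≃ₐ[ResField hM] _).toAlgHom.comp
      π).toMonoidHom.comp (MonoidAlgebra.of (ResField hM) G)
  have hρ : ∀ g, LinearMap.trace _ _ (ρ g) = τ g := fun g => by
    show LinearMap.trace _ _ (Matrix.toLin' (π (MonoidAlgebra.single g 1))) = _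
    rw [Matrix.trace_toLin'_eq]
  obtain ⟨c, hc⟩ := CycMod.exists_red_comb hM τ (fun g t => by
      rw [← hρ, ← hρ, ρ.map_mul, ρ.map_mul, LinearMap.trace_mul_comm, ← mul_assoc, ← ρ.map_mul,
        inv_mul_cancel, ρ.map_one, one_mul])
    (fun g u v huv hcom ⟨a, ha⟩ _ => by
      rw [← huv, ← hρ, ← hρ]
      exact CycMod.trace_pPart ρ hcom (a := a) (ha ▸ pow_orderOf_eq_one u))
  refine ⟨c, fun g => ?_⟩
  have hbr : ∀ h, MemLocalRing M (blockCoeff B h) := fun h => blockCoeff_ring hM hB h
  have hbz : redA hM (bz B) = ∑ h, MonoidAlgebra.single h (red hM (blockCoeff B h)) := by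
    show (∑ g : G, MonoidAlgebra.single g (red hM ((bz B).coeff g))) = _
    exact Finset.sum_congr rfl fun h _ => by rw [bz, algOf_coeff_id]
  calc τ g = trace (π (redA hM (bz B)) * π (MonoidAlgebra.single g 1)) := by rw [hπ, one_mul]
    _ = ∑ h, red hM (blockCoeff B h) * τ (h * g) := by
        rw [hbz, ← map_mul, Finset.sum_mul, map_sum, trace_sum]
        refine Finset.sum_congr rfl fun h _ => ?_
        rw [MonoidAlgebra.single_mul_single, mul_one, hτ,
          show MonoidAlgebra.single (h * g) (red hM (blockCoeff B h)) =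
            red hM (blockCoeff B h) • MonoidAlgebra.single (h * g) (1 : ResField hM) by
            rw [MonoidAlgebra.smul_single, smul_eq_mul, mul_one], map_smul, trace_smul, smul_eq_mul]
    _ = ∑ χ, c χ * red hM (∑ h, blockCoeff B h * (χ : G → ℂ) (h * g)) := by
        simp only [hc, Finset.mul_sum]
        rw [Finset.sum_comm]
        refine Finset.sum_congr rfl fun χ _ => ?_
        rw [CycMod.red_sum_mul hM _ _ _ hbr (fun h => irr_ring hM χ _), Finset.mul_sum]
        exact Finset.sum_congr rfl fun h _ => by ring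
    _ = _ := by
        rw [Finset.sum_filter]
        refine Finset.sum_congr rfl fun χ _ => ?_
        rw [CycMod.sum_blockCoeff_mul_irr]
        split
        · rfl
        · rw [red_zero, mul_zero]

end Cfsg.Agent.Invol.GW.Klein
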