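import Cfsg.Agent.Lib.Invol.GW.Klein.BlocksRationalAux
import Cfsg.Agent.Lib.Invol.GW.Klein.BlocksSimple
import Cfsg.Agent.Lib.Invol.GW.Klein.BlocksLocal

/-!
# The principal block with Klein four defect is not rational when a degree is exceptional

If all characters of the principal block are integer valued and one of them is `-1` on involutions, the simple
module of a suitable primitive idempotent is a module as excluded by `no_module`.
-/

set_option autoImplicit false
set_option linter.unusedSectionVars false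
set_option linter.style.haveILetI false
set_option maxHeartbeats 1000000

namespace Cfsg.Agent.Invol.GW.Klein

open Cfsg Cfsg.Agent.Block Cfsg.Agent.Char.Decomp Cfsg.Agent.Char.Spec Cfsg.Agent.Char.BP
  Cfsg.Agent.Char.Res Matrix

universe u v

variable {G : Type u} [Group G] [Fintype G] [DecidableEq G] {M : Ideal AlgInt}

theorem oddCent_image (g t : G) : (oddCent t).image (fun x => g * x * g⁻¹) = oddCent (g * t * g⁻¹) := by
  ext y
  refine ⟨fun hy => ?_, fun hy => Finset.mem_image.2 ⟨g⁻¹ * y * g, ?_, by group⟩⟩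
  · obtain ⟨x, hx, rfl⟩ := Finset.mem_image.1 hy
    exact oddCent_conj g hx
  · have := oddCent_conj g⁻¹ hy
    simpa [mul_assoc] using this

theorem avgA_conj (g t : G) : MonoidAlgebra.single g (1 : ℂ) * avgA (oddCent t) * MonoidAlgebra.single g⁻¹ 1 =
    avgA (oddCent (g * t * g⁻¹)) := by
  rw [avgA, avgA, ← oddCent_image, Finset.card_image_of_injective _ (fun a b e => by simpa using e),
    Finset.sum_image (fun a _ b _ e => by simpa using e), mul_smul_comm, smul_mul_assoc, Finset.mul_sum,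
    Finset.sum_mul]
  simp only [MonoidAlgebra.single_mul_single, mul_one]

/-- The sum of the averages over the cores of the centralisers of the conjugates of `t`. -/
noncomputable def centSum (t : G) : MonoidAlgebra ℂ G := by
  classical exact ∑ q : G ⧸ Subgroup.centralizer ({t} : Set G), avgA (oddCent (q.out * t * q.out⁻¹))

theorem centSum_classFun (t : G) : IsClassFunction G (fun x => (centSum t).coeff x) := by
  classical
  intro x s
  show (centSum t).coeff (s * x * s⁻¹) = (centSum t).coeff x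
  have hfix : MonoidAlgebra.single s⁻¹ (1 : ℂ) * centSum t * MonoidAlgebra.single s 1 = centSum t := by
    rw [centSum, Finset.mul_sum, Finset.sum_mul]
    refine Fintype.sum_equiv (MulAction.toPerm s⁻¹) _ _ fun q => ?_
    have h1 := avgA_conj s⁻¹ (q.out * t * q.out⁻¹)
    rw [inv_inv] at h1
    rw [h1]
    congr 2
    show s⁻¹ * (q.out * t * q.out⁻¹) * s = (s⁻¹ • q).out * t * (s⁻¹ • q).out⁻¹
    obtain ⟨c, hc⟩ := QuotientGroup.mk_out_eq_mul (Subgroup.centralizer ({t} : Set G)) (s⁻¹ * q.out)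
    rw [show (s⁻¹ • q) = ((s⁻¹ * q.out : G) : G ⧸ Subgroup.centralizer ({t} : Set G)) by
      conv_lhs => rw [← QuotientGroup.out_eq' q]
      rfl, hc]
    have hct : (c : G) * t = t * (c : G) := Subgroup.mem_centralizer_singleton_iff.1 c.2
    calc s⁻¹ * (q.out * t * q.out⁻¹) * s = s⁻¹ * q.out * (t * (c : G)) * (c : G)⁻¹ * q.out⁻¹ * s := by group
      _ = s⁻¹ * q.out * ((c : G) * t) * (c : G)⁻¹ * q.out⁻¹ * s := by rw [hct]
      _ = _ := by group
  conv_rhs => rw [← hfix]
  rw [MonoidAlgebra.coeff_mul_single_apply, MonoidAlgebra.coeff_single_mul_apply]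
  simp [mul_assoc]

theorem ev_central_mul (χ : IrrCharacter G) {Z : MonoidAlgebra ℂ G} (hZ : IsClassFunction G fun x => Z.coeff x)
    (a : MonoidAlgebra ℂ G) :
    ev (χ : G → ℂ) (Z * a) = ev (χ : G → ℂ) Z / (χ : G → ℂ) 1 * ev (χ : G → ℂ) a := by
  have hid : ∀ h : G, ∑ k : G, Z.coeff k * (χ : G → ℂ) (k * h) =
      ev (χ : G → ℂ) Z / (χ : G → ℂ) 1 * (χ : G → ℂ) h := fun h =>
    Cfsg.Agent.Char.sum_classFun_mul_apply χ.2 hZ h
  simp only [ev, coeff_mul_apply, Finset.sum_mul]
  rw [Finset.sum_comm, Finset.mul_sum]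
  refine Finset.sum_congr rfl fun h _ => ?_
  change _ = ev (χ : G → ℂ) Z / (χ : G → ℂ) 1 * (a.coeff h * (χ : G → ℂ) h)
  rw [mul_left_comm, ← hid h, Finset.mul_sum]
  refine Fintype.sum_equiv (Equiv.mulRight h⁻¹) _ _ fun g => ?_
  simp only [Equiv.coe_mulRight, inv_mul_cancel_right]
  ring

theorem finrank_range_sum_le {k : Type v} [Field k] {n : ℕ} {ι : Type*} (s : Finset ι)
    (f : ι → Matrix (Fin n) (Fin n) k) :
    Module.finrank k (LinearMap.range (∑ i ∈ s, f i).mulVecLin) ≤
      ∑ i ∈ s, Module.finrank k (LinearMap.range (f i).mulVecLin) := by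
  classical
  induction s using Finset.induction_on with
  | empty => rw [Finset.sum_empty, Finset.sum_empty, Matrix.mulVecLin_zero, LinearMap.range_zero, finrank_bot]
  | insert i s hi ih =>
    rw [Finset.sum_insert hi, Finset.sum_insert hi]
    refine le_trans ?_ (Nat.add_le_add_left ih _)
    refine le_trans (Submodule.finrank_mono ?_) (Submodule.finrank_add_le_finrank_add_finrank _ _)
    rintro _ ⟨x, rfl⟩
    rw [Matrix.mulVecLin_apply, Matrix.add_mulVec]
    exact Submodule.add_mem_sup ⟨x, rfl⟩ ⟨x, rfl⟩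

/-- The contradiction for a rational principal block. -/
theorem rational_block_false [IsSimpleGroup G] (hM : IsPModular 2 M) (P : Sylow 2 G)
    (hP : IsKleinFour (P : Subgroup G)) (hone : ∀ s t : G, orderOf s = 2 → orderOf t = 2 → IsConj s t)
    {t u : G} (ht : t ∈ (P : Subgroup G)) (hu : u ∈ (P : Subgroup G)) (ht1 : t ≠ 1) (hu1 : u ≠ 1) (htu : t ≠ u)
    (hfus : ∃ h, h * t * h⁻¹ = u ∧ h * u * h⁻¹ = t * u)
    (hint : ∀ χ : IrrCharacter G, χ ∈ principalBlock M G → ∀ g, ∃ m : ℤ, (χ : G → ℂ) g = m)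
    (hdeg : ∀ χ : IrrCharacter G, χ ∈ principalBlock M G → Odd (charDegree (χ : G → ℂ)))
    (hval : ∀ χ : IrrCharacter G, χ ∈ principalBlock M G → ∃ δ : ℤ, (δ = 1 ∨ δ = -1) ∧ (χ : G → ℂ) t = δ)
    {ζ : IrrCharacter G} (hζ : ζ ∈ principalBlock M G) (hζt : (ζ : G → ℂ) t = -1) : False := by
  classical
  haveI : Fact (Nat.Prime 2) := ⟨Nat.prime_two⟩
  have hord : ∀ {x : G}, x ∈ (P : Subgroup G) → x ≠ 1 → orderOf x = 2 := fun hx hx1 => klein_orderOf P hP hx hx1
  have hsq : ∀ {x : G}, x ∈ (P : Subgroup G) → x * x = 1 := fun {x} hx => by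
    haveI := hP
    exact congrArg Subtype.val (IsKleinFour.mul_self (⟨x, hx⟩ : (P : Subgroup G)))
  have ht2 : orderOf t = 2 := hord ht ht1
  have hcomm : Commute t u := klein_comm P hP ht hu
  obtain ⟨K, hKn, hK, hidx⟩ := klein_centralizer_complement P hP ht ht1
  haveI := hKn
  -- the odd core of the centraliser
  let emb : K ↪ G := ⟨fun k => ((k : Subgroup.centralizer ({t} : Set G)) : G), fun a b e => Subtype.ext (Subtype.ext e)⟩
  have hU : oddCent t = Finset.univ.map emb := by
    ext x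
    simp only [mem_oddCent, Finset.mem_map, Finset.mem_univ, true_and]
    constructor
    · rintro ⟨hx, ho⟩
      refine ⟨⟨⟨x, Subgroup.mem_centralizer_singleton_iff.2 hx.eq⟩, regular_mem_of_index_pPow hidx ?_⟩, rfl⟩
      rw [← Subgroup.orderOf_coe]
      exact fun h => (Nat.not_even_iff_odd.2 ho) (even_iff_two_dvd.2 h)
    · rintro ⟨k, rfl⟩
      refine ⟨Subgroup.mem_centralizer_singleton_iff.1 (k : Subgroup.centralizer ({t} : Set G)).2, ?_⟩
      show Odd (orderOf ((k : Subgroup.centralizer ({t} : Set G)) : G))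
      rw [Subgroup.orderOf_coe, Subgroup.orderOf_coe, ← Nat.not_even_iff_odd, even_iff_two_dvd]
      exact fun h => hK (h.trans (orderOf_dvd_natCard k))
  have hKmem : ∀ x, x ∈ oddCent t ↔ ∃ k : K, ((k : Subgroup.centralizer ({t} : Set G)) : G) = x := by
    intro x
    rw [hU, Finset.mem_map]
    simp only [Finset.mem_univ, true_and]
    rfl
  have hgrp : ∀ x ∈ oddCent t, ∀ y ∈ oddCent t, x * y ∈ oddCent t := by
    intro x hx y hy
    obtain ⟨a, rfl⟩ := (hKmem x).1 hx
    obtain ⟨b, rfl⟩ := (hKmem y).1 hy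
    exact (hKmem _).2 ⟨a * b, rfl⟩
  have hcardK : (oddCent t).card = Nat.card K := by
    rw [hU, Finset.card_map, Finset.card_univ, Nat.card_eq_fintype_card]
  have hcard : Odd (oddCent t).card := by
    rw [hcardK, ← Nat.not_even_iff_odd, even_iff_two_dvd]; exact hK
  have hdec : ∀ c, Commute c t → ∃ x ∈ oddCent t, c = x ∨ c = x * t ∨ c = x * u ∨ c = x * (t * u) := by
    intro c hc
    obtain ⟨-, hsurj, -, -, -⟩ := KleinOrder.conj_iff_of_pair hP ht ht1 rfl hKn hK hidx
    let cC : Subgroup.centralizer ({t} : Set G) := ⟨c, Subgroup.mem_centralizer_singleton_iff.2 hc.eq⟩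
    obtain ⟨q, hq, hqc⟩ := hsurj cC
    have h1 : cC * q⁻¹ ∈ K := by
      rw [← QuotientGroup.eq_one_iff, QuotientGroup.mk_mul, hqc, QuotientGroup.mk_inv, mul_inv_cancel]
    refine ⟨c * (q : G)⁻¹, (hKmem _).2 ⟨⟨_, h1⟩, rfl⟩, ?_⟩
    rcases KleinOrder.mem_four hP ht hu ht1 hu1 htu hq with e | e | e | e
    · exact .inl (by rw [e, inv_one, mul_one])
    · exact .inr (.inl (by rw [e, inv_mul_cancel_right]))
    · exact .inr (.inr (.inl (by rw [e, inv_mul_cancel_right])))
    · exact .inr (.inr (.inr (by rw [e, inv_mul_cancel_right])))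
  set I := (Subgroup.centralizer ({t} : Set G)).index with hI
  have hidxI : Odd I := by
    rw [← Nat.not_even_iff_odd, even_iff_two_dvd]
    intro h2
    refine Sylow.not_dvd_index P (h2.trans (Subgroup.index_dvd_of_le fun x hx => ?_))
    exact Subgroup.mem_centralizer_singleton_iff.2 (klein_comm P hP hx ht)
  have hG : (Nat.card G : ℂ) = (I : ℂ) * ((oddCent t).card : ℂ) * 4 := by
    have h1 := Subgroup.index_mul_card (Subgroup.centralizer ({t} : Set G))
    rw [← K.card_mul_index, hidx, ← hcardK] at h1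
    rw [← h1, hI]
    push_cast
    ring
  have hN0 : (I : ℂ) * ((oddCent t).card : ℂ) ≠ 0 :=
    mul_ne_zero (Nat.cast_ne_zero.2 hidxI.pos.ne') (Nat.cast_ne_zero.2 hcard.pos.ne')
  set Sg := Finset.univ.filter (fun g : G => 2 ∣ orderOf g) with hSg
  set Rg := Finset.univ.filter (fun g : G => ¬ 2 ∣ orderOf g) with hRg
  have hsing : ∀ {F : G → ℂ}, IsClassFunction G F → ∑ g ∈ Sg, F g = (I : ℂ) * ∑ x ∈ oddCent t, F (t * x) := by
    intro F hF
    rw [hSg, sum_singular hP hone ht2 rfl hKn hK hidx hF, hU, Finset.sum_map]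
    rfl
  have hconst : ∀ χ : IrrCharacter G, χ ∈ principalBlock M G → ∀ x ∈ oddCent t,
      (χ : G → ℂ) (t * x) = (χ : G → ℂ) t := by
    intro χ hχ x hx
    obtain ⟨k, rfl⟩ := (hKmem x).1 hx
    exact KleinOrder.value_const hM ht2 hKn hK hχ k.2
  have hsum0 : ∀ χ : IrrCharacter G, χ ≠ trivialIrr G → ∑ g : G, (χ : G → ℂ) g = 0 := by
    intro χ hχ
    have h := Cfsg.Agent.Char.classInner_irr_ne χ.2 (trivialIrr G).2 fun e => hχ (Subtype.ext e)
    simp only [classInner, trivialIrr, map_one, mul_one, mul_eq_zero, inv_eq_zero, Nat.cast_eq_zero] at h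
    exact h.resolve_left Nat.card_pos.ne'
  have hsplit : ∀ F : G → ℂ, ∑ g : G, F g = ∑ g ∈ Sg, F g + ∑ g ∈ Rg, F g := fun F =>
    (Finset.sum_filter_add_sum_filter_not _ _ _).symm
  have hsingχ : ∀ χ : IrrCharacter G, χ ∈ principalBlock M G →
      ∑ g ∈ Sg, (χ : G → ℂ) g = (I : ℂ) * ((oddCent t).card : ℂ) * (χ : G → ℂ) t := fun χ hχ => by
    rw [hsing (irr_classFun χ), Finset.sum_congr rfl (hconst χ hχ), Finset.sum_const, nsmul_eq_mul]
    ring
  -- the values at the average over the core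
  set eU := avgA (oddCent t) with heU
  have hμ : ∀ χ : IrrCharacter G, χ ∈ principalBlock M G → χ ≠ trivialIrr G →
      ev (χ : G → ℂ) eU = 4 + (χ : G → ℂ) t := by
    intro χ hχ hne
    have hreal : ∀ g, ((χ : G → ℂ) g).im = 0 := fun g => by
      obtain ⟨m, hm⟩ := hint χ hχ g
      rw [hm, Complex.intCast_im]
    have hind := Cfsg.Agent.Char.Forms.ind_of_odd_real χ hreal (hdeg χ hχ)
    rw [inv_mul_eq_iff_eq_mul₀ (Nat.cast_ne_zero.2 Nat.card_pos.ne'), mul_one, hsplit] at hind
    have hreg : ∑ g ∈ Rg, (χ : G → ℂ) (g * g) = ∑ g ∈ Rg, (χ : G → ℂ) g := by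
      refine sum_sq_odd (fun g hg => ?_) (fun g hg m => ?_) _
      · rw [← Nat.not_even_iff_odd, even_iff_two_dvd]; exact (Finset.mem_filter.1 hg).2
      · exact Finset.mem_filter.2 ⟨Finset.mem_univ _, fun h => (Finset.mem_filter.1 hg).2
          (h.trans (orderOf_pow_dvd m))⟩
    have hsg : ∑ g ∈ Sg, (χ : G → ℂ) (g * g) = (I : ℂ) * ∑ x ∈ oddCent t, (χ : G → ℂ) x := by
      rw [hsing (F := fun g => (χ : G → ℂ) (g * g)) (fun g s => by
        show (χ : G → ℂ) (s * g * s⁻¹ * (s * g * s⁻¹)) = (χ : G → ℂ) (g * g)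
        rw [show s * g * s⁻¹ * (s * g * s⁻¹) = s * (g * g) * s⁻¹ by group]
        exact irr_classFun χ (g * g) s),
        ← sum_sq_odd (fun g hg => (mem_oddCent.1 hg).2) (fun g hg m => ?_) (χ : G → ℂ)]
      · refine congrArg _ (Finset.sum_congr rfl fun x hx => congrArg _ ?_)
        have hxt : Commute x t := (mem_oddCent.1 hx).1
        calc t * x * (t * x) = t * (x * t) * x := by group
          _ = x * x := by rw [hxt.eq, ← mul_assoc t t, hsq ht, one_mul]
      · obtain ⟨k, rfl⟩ := (hKmem g).1 hg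
        exact (hKmem _).2 ⟨k ^ m, by simp⟩
    have h0 := hsum0 χ hne
    rw [hsplit, hsingχ χ hχ] at h0
    rw [hreg, hsg] at hind
    rw [heU, ev_avgA, inv_mul_eq_iff_eq_mul₀ (Nat.cast_ne_zero.2 hcard.pos.ne')]
    refine mul_left_cancel₀ (Nat.cast_ne_zero.2 hidxI.pos.ne' : (I : ℂ) ≠ 0) ?_
    linear_combination hind - h0 + hG
  have hζne : ζ ≠ trivialIrr G := fun e => by
    rw [e] at hζt
    simp [trivialIrr] at hζt
    norm_num at hζt
  have hζU : ev (ζ : G → ℂ) eU = ((3 : ℕ) : ℂ) := by rw [hμ ζ hζ hζne, hζt]; norm_num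
  -- the primitive idempotent
  have hev1 : ∀ f : G → ℂ, ev f (1 : MonoidAlgebra ℂ G) = f 1 := fun f => by
    rw [MonoidAlgebra.one_def, ev_single, one_mul]
  choose nat hnat using fun (χ : IrrCharacter G) (a : {a : MonoidAlgebra ℂ G // a * a = a}) =>
    Cfsg.Agent.Char.Spec.ev_idem_nat (irr_isChar χ) a.2
  obtain ⟨i, hi, hi1, hiζ⟩ : ∃ i, Pr M i ∧ ev ((trivialIrr G : IrrCharacter G) : G → ℂ) i = 0 ∧
      ev (ζ : G → ℂ) i ≠ 0 := by
    by_contra hno
    push Not at hno
    obtain ⟨N, f, hf, hsum⟩ := exists_decomp (G := G) hM _ 1 le_rfl (AlgRing.one hM) (one_mul _)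
    let m : Fin N → ℕ := fun s => nat (trivialIrr G) ⟨f s, (hf s).idem⟩
    have hm : ∀ s, ev ((trivialIrr G : IrrCharacter G) : G → ℂ) (f s) = (m s : ℂ) := fun s =>
      hnat (trivialIrr G) ⟨f s, (hf s).idem⟩
    have hm1 : ∑ s, m s = 1 := by
      have h := hev1 ((trivialIrr G : IrrCharacter G) : G → ℂ)
      rw [← hsum, ev_sum, Finset.sum_congr rfl fun s _ => hm s] at h
      rw [show ((trivialIrr G : IrrCharacter G) : G → ℂ) 1 = 1 from rfl] at h
      exact_mod_cast h
    obtain ⟨s₀, -, hs₀⟩ := Finset.exists_ne_zero_of_sum_ne_zero (by rw [hm1]; exact one_ne_zero)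
    have hrest := Finset.add_sum_erase Finset.univ m (Finset.mem_univ s₀)
    rw [hm1] at hrest
    have hz : ∀ s, s ≠ s₀ → m s = 0 := fun s hs => by
      have := Finset.single_le_sum (f := m) (fun _ _ => Nat.zero_le _)
        (Finset.mem_erase.2 ⟨hs, Finset.mem_univ s⟩)
      omega
    have hzζ : ∀ s, s ≠ s₀ → ev (ζ : G → ℂ) (f s) = 0 := fun s hs =>
      hno _ (hf s) (by rw [hm, hz s hs, Nat.cast_zero])
    have hd := hev1 (ζ : G → ℂ)
    rw [← hsum, ev_sum, Finset.sum_eq_single s₀ (fun s _ hs => hzζ s hs)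
      (fun h => absurd (Finset.mem_univ s₀) h)] at hd
    have hm₀ : m s₀ = 1 := by omega
    have hall : ∀ a, AlgRing M a → a * a = a →
        ev (ζ : G → ℂ) a = (ζ : G → ℂ) 1 * ev ((trivialIrr G : IrrCharacter G) : G → ℂ) a := by
      intro a ha haa
      obtain ⟨N', f', hf', hsum'⟩ := exists_decomp (G := G) hM _ a le_rfl ha haa
      rw [← hsum', ev_sum, ev_sum, Finset.mul_sum]
      refine Finset.sum_congr rfl fun j _ => ?_
      obtain ⟨s, hs⟩ := exists_eqv_of_sum hM (hf' j) hf hsum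
      rw [Eqv.ev_eq hM (hf' j) (hf s) hs (irr_classFun ζ), Eqv.ev_eq hM (hf' j) (hf s) hs (irr_classFun _), hm]
      by_cases e : s = s₀
      · rw [e, hd, hm₀, Nat.cast_one, mul_one]
      · rw [hzζ s e, hz s e, Nat.cast_zero, mul_zero]
    set d := charDegree (ζ : G → ℂ) with hd'
    have hζ1 : (ζ : G → ℂ) 1 = (d : ℂ) := charDeg_spec' ζ
    have hreg1 : ∀ g ∈ Rg, (ζ : G → ℂ) g = (d : ℂ) := by
      intro g hg
      set s := Finset.univ.filter (fun x : G => x ∈ Subgroup.zpowers g) with hs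
      have hsc : s.card = orderOf g := by
        rw [← Nat.card_zpowers, Nat.card_eq_fintype_card, ← Finset.card_univ (α := Subgroup.zpowers g), hs]
        exact (Finset.card_bij (s := (Finset.univ : Finset (Subgroup.zpowers g))) (fun x _ => (x : G)) (fun x _ => Finset.mem_filter.2 ⟨Finset.mem_univ _, x.2⟩)
          (fun a _ b _ e => Subtype.ext e)
          fun x hx => ⟨⟨x, (Finset.mem_filter.1 hx).2⟩, Finset.mem_univ _, rfl⟩).symm
      have hodd : Odd s.card := by
        rw [hsc, ← Nat.not_even_iff_odd, even_iff_two_dvd]; exact (Finset.mem_filter.1 hg).2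
      have hgs : g ∈ s := Finset.mem_filter.2 ⟨Finset.mem_univ _, Subgroup.mem_zpowers g⟩
      have h := hall (avgA s) (avgA_ring hM hodd) (avgA_idem ⟨g, hgs⟩ fun x hx y hy =>
        Finset.mem_filter.2 ⟨Finset.mem_univ _, mul_mem (Finset.mem_filter.1 hx).2 (Finset.mem_filter.1 hy).2⟩)
      rw [ev_avgA, ev_avgA, hζ1] at h
      choose k hk using fun x => hint ζ hζ x
      have hle : ∀ x ∈ s, k x ≤ (d : ℤ) := fun x _ => by
        have h1 := Cfsg.Agent.Char.IsChar.norm_le (irr_isChar ζ) x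
        rw [hk, hζ1, Complex.norm_intCast, Complex.norm_natCast] at h1
        have h2 : |k x| ≤ (d : ℤ) := by exact_mod_cast h1
        exact (le_abs_self _).trans h2
      have h0 : (s.card : ℂ) ≠ 0 := Nat.cast_ne_zero.2 hodd.pos.ne'
      have hone' : ∀ x, ((trivialIrr G : IrrCharacter G) : G → ℂ) x = 1 := fun x => rfl
      simp only [hone', Finset.sum_const, nsmul_eq_mul, mul_one, inv_mul_cancel₀ h0] at h
      rw [inv_mul_eq_iff_eq_mul₀ h0, Finset.sum_congr rfl fun x _ => hk x] at h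
      have h' : ∑ x ∈ s, k x = ∑ _x ∈ s, (d : ℤ) := by
        rw [Finset.sum_const, nsmul_eq_mul]
        exact_mod_cast h
      rw [hk, (Finset.sum_eq_sum_iff_of_le hle).1 h' g hgs]
      norm_num
    have h0 := hsum0 ζ hζne
    rw [hsplit, hsingχ ζ hζ, hζt, Finset.sum_congr rfl hreg1, Finset.sum_const, nsmul_eq_mul] at h0
    have hcs : ((Rg.card : ℕ) : ℂ) = 3 * ((I : ℂ) * ((oddCent t).card : ℂ)) := by
      have h1 := hsplit fun _ => (1 : ℂ)
      rw [hsing (F := fun _ => (1 : ℂ)) (fun _ _ => rfl)] at h1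
      simp only [Finset.sum_const, Finset.card_univ, nsmul_eq_mul, mul_one, ← Nat.card_eq_fintype_card] at h1
      linear_combination hG - h1
    rw [hcs] at h0
    have h3 : ((3 * d : ℕ) : ℂ) = ((1 : ℕ) : ℂ) := by
      push_cast
      exact mul_left_cancel₀ hN0 (by linear_combination h0)
    have h3' : 3 * d = 1 := Nat.cast_inj.1 h3
    omega
  -- the module
  letI := resInst hM
  haveI : CharP (ResField hM) 2 := resField_charP hM
  haveI : IsAlgClosed (ResField hM) := resField_isAlgClosed hM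
  obtain ⟨n, hn, π, hπs, htr0, hrank1, hzero, hrankj⟩ := exists_matrix_at hM hi
  haveI := hn
  have hB : IsPBlock M (principalBlock M G) := isPBlock_principalBlock
  let A : G →* Matrix (Fin n) (Fin n) (ResField hM) :=
    (π : MonoidAlgebra (ResField hM) G →* Matrix (Fin n) (Fin n) (ResField hM)).comp
      (MonoidAlgebra.of (ResField hM) G)
  have hAg : ∀ g, A g = π (MonoidAlgebra.single g 1) := fun g => rfl
  have hA : Full A := by
    refine eq_top_iff.2 fun X _ => ?_
    obtain ⟨y, rfl⟩ := hπs X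
    induction y using MonoidAlgebra.induction_on with
    | of g => exact Submodule.subset_span ⟨g, rfl⟩
    | add a b ha hb => rw [map_add]; exact add_mem (ha trivial) (hb trivial)
    | smul r a ha => rw [map_smul]; exact Submodule.smul_mem _ r (ha trivial)
  have hE0 : π (redA hM i) ≠ 0 := fun e => htr0 (by rw [e, Matrix.trace_zero])
  have hib : bz (principalBlock M G) * i = i := by
    refine (bz_dichotomy hM hB hi).resolve_right fun h0 => hiζ ?_
    have h := ev_bz ζ i (B := principalBlock M G)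
    rw [if_pos hζ, h0, ev_zero] at h
    exact h.symm
  have hπB : π (redA hM (bz (principalBlock M G))) = 1 := by
    obtain ⟨c, hc⟩ := hA.scalar (P := π (redA hM (bz (principalBlock M G)))) fun g => by
      rw [hAg, ← map_mul, ← map_mul, ← redA_single hM g, ← redA_mul hM (bz_ring hM hB) (AlgRing.single hM g),
        ← redA_mul hM (AlgRing.single hM g) (bz_ring hM hB), (bz_comm (principalBlock M G) _).eq]
    have h1 : π (redA hM (bz (principalBlock M G))) * π (redA hM i) = π (redA hM i) := by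
      rw [← map_mul, ← redA_mul hM (bz_ring hM hB) hi.ring, hib]
    rw [hc, smul_mul_assoc, one_mul] at h1
    have hc1 : c = 1 := smul_left_injective _ hE0 (by simpa using h1)
    rw [hc, hc1, one_smul]
  obtain ⟨c, hτ⟩ := exists_trace_comb hM hB π hπB
  have hT : ∀ x, AlgRing M x → trace (π (redA hM x)) =
      ∑ χ ∈ Finset.univ.filter (· ∈ principalBlock M G), c χ * red hM (ev (χ : G → ℂ) x) := by
    intro x hx
    rw [show trace (π (redA hM x)) = ((Matrix.traceLinearMap (Fin n) (ResField hM) (ResField hM)).comp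
      π.toLinearMap) (redA hM x) from rfl, trace_redA hM]
    simp only [LinearMap.comp_apply, AlgHom.toLinearMap_apply, Matrix.traceLinearMap_apply, smul_eq_mul, hτ,
      Finset.mul_sum]
    rw [Finset.sum_comm]
    refine Finset.sum_congr rfl fun χ _ => ?_
    rw [ev, Cfsg.Agent.Char.CycMod.red_sum_mul hM _ _ _ hx (fun g => irr_ring hM χ g), Finset.mul_sum]
    exact Finset.sum_congr rfl fun g _ => by ring
  have hinv : ∀ g, trace (A g⁻¹) = trace (A g) := fun g => by
    rw [hAg, hAg, hτ, hτ]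
    refine Finset.sum_congr rfl fun χ hχ => ?_
    obtain ⟨m, hm⟩ := hint χ (Finset.mem_filter.1 hχ).2 g
    rw [irr_apply_inv, hm, map_intCast]
  have hsqr : ∀ g, trace (A g) ^ 2 = trace (A g) := fun g => by
    have h2 : trace (A g) ^ 2 = trace (A (g * g)) := by
      rw [map_mul]
      simp only [trace, Matrix.diag, Matrix.mul_apply]
      rw [sum_symm_eq (fun a b => A g a b * A g b a) (fun a b => mul_comm _ _), CharTwo.sum_sq]
      simp only [pow_two]
    rw [h2, hAg, hAg, hτ, hτ]
    refine Finset.sum_congr rfl fun χ hχ => ?_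
    obtain ⟨m, hm⟩ := hint χ (Finset.mem_filter.1 hχ).2 g
    rw [red_char_sq hM χ hm]
  have hn1 : n ≠ 1 := by
    rintro rfl
    have hAc : ∀ a b, A (a * b) = A (b * a) := fun a b => by
      rw [map_mul, map_mul]
      ext x y
      simp only [Matrix.mul_apply, Fin.sum_univ_one, Fin.fin_one_eq_zero]
      exact mul_comm _ _
    rcases (MonoidHom.normal_ker A).eq_bot_or_eq_top with hker | hker
    · have hinj : Function.Injective A := (MonoidHom.ker_eq_bot_iff A).1 hker
      obtain ⟨g, hg⟩ := isConj_iff.1 (hone t u ht2 (hord hu hu1))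
      exact htu (by rw [← hg, hinj (hAc g t), mul_inv_cancel_right])
    · refine hE0 ?_
      have hall : ∀ g, π (MonoidAlgebra.single g 1) = 1 := fun g =>
        (MonoidHom.mem_ker (f := A)).1 (hker ▸ Subgroup.mem_top g)
      have h1 : ∑ g : G, red hM (i.coeff g) = 0 := by
        rw [← red_sum hM fun g _ => hi.ring g, ← red_zero hM, ← hi1]
        simp [ev, trivialIrr]
      rw [show π (redA hM i) = π.toLinearMap (redA hM i) from rfl, trace_redA hM]
      simp only [AlgHom.toLinearMap_apply, hall, ← Finset.sum_smul, h1, zero_smul]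
  -- rank
  have hUr : AlgRing M eU := avgA_ring hM hcard
  have hE : ∀ s, Odd (oddCent s).card → π (redA hM (avgA (oddCent s))) = coreSum A s := fun s hs => by
    rw [avgA_red hM hs, map_sum]
    rfl
  have hrank : Module.finrank (ResField hM) (LinearMap.range (coreSum A t).mulVecLin) ≤ 3 := by
    rw [← hE t hcard, ← heU]
    obtain ⟨N, f, hf, hsum⟩ := exists_decomp (G := G) hM _ eU le_rfl hUr (avgA_idem (Finset.card_pos.1 hcard.pos) hgrp)
    rw [← hsum, redA_sum hM _ fun s _ => (hf s).ring, map_sum]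
    refine (finrank_range_sum_le _ _).trans ?_
    have hle : ∀ s, Module.finrank (ResField hM) (LinearMap.range (π (redA hM (f s))).mulVecLin) ≤
        nat ζ ⟨f s, (hf s).idem⟩ := by
      intro s
      by_cases hq : Eqv M i (f s)
      · refine (hrankj _ (hf s) hq).trans (Nat.pos_of_ne_zero fun h0 => hiζ ?_)
        rw [Eqv.ev_eq hM hi (hf s) hq (irr_classFun ζ), hnat ζ ⟨f s, (hf s).idem⟩, h0, Nat.cast_zero]
      · rw [hzero _ (hf s) hq, Matrix.mulVecLin_zero, LinearMap.range_zero, finrank_bot]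
        exact Nat.zero_le _
    refine (Finset.sum_le_sum fun s _ => hle s).trans (le_of_eq ?_)
    have h := hζU
    rw [← hsum, ev_sum, Finset.sum_congr rfl fun s _ => hnat ζ ⟨f s, (hf s).idem⟩] at h
    exact_mod_cast h
  -- the conjugates add up to one
  have hcs : ∀ q : G, Odd (oddCent (q * t * q⁻¹)).card := fun q => by
    rw [← oddCent_image, Finset.card_image_of_injective _ (fun a b e => by simpa using e)]
    exact hcard
  have hZr : AlgRing M (centSum t) := by
    rw [centSum]; exact AlgRing.sum hM fun q _ => avgA_ring hM (hcs _)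
  have hZA : π (redA hM (centSum t)) = orbitSum A t (coreSum A t) := by
    rw [centSum, redA_sum hM _ (fun q _ => avgA_ring hM (hcs _)), map_sum, orbitSum]
    refine Finset.sum_congr rfl fun q _ => ?_
    rw [hE _ (hcs _), coreSum_conj]
  have hZev : ∀ χ : IrrCharacter G, ev (χ : G → ℂ) (centSum t) = (I : ℂ) * ev (χ : G → ℂ) eU := fun χ => by
    rw [centSum, ev_sum, hI, Subgroup.index_eq_card, Nat.card_eq_fintype_card, ← Finset.card_univ,
      Finset.sum_congr rfl (g := fun _ => ev (χ : G → ℂ) eU) (fun q _ => ?_), Finset.sum_const, nsmul_eq_mul]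
    rw [← avgA_conj, ev_mul_comm (irr_classFun χ), ← mul_assoc, MonoidAlgebra.single_mul_single, inv_mul_cancel,
      mul_one, ← MonoidAlgebra.one_def, one_mul]
  obtain ⟨z, hz⟩ := hA.scalar (orbitSum_comm fun x hx => coreSum_comm A hx)
  have hω : ∀ χ : IrrCharacter G, χ ∈ principalBlock M G →
      red hM (ev (χ : G → ℂ) (centSum t * i)) = red hM (ev (χ : G → ℂ) i) := by
    intro χ hχ
    rw [ev_central_mul χ (centSum_classFun t), hZev]
    by_cases htriv : χ = trivialIrr G
    · rw [htriv, hi1, mul_zero]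
    obtain ⟨δ, hδ, hδt⟩ := hval χ hχ
    obtain ⟨m, hm⟩ : ∃ m : ℕ, Odd m ∧ ev (χ : G → ℂ) eU = (m : ℂ) := by
      rw [hμ χ hχ htriv, hδt]
      rcases hδ with rfl | rfl
      · exact ⟨5, by decide, by norm_num⟩
      · exact ⟨3, by decide, by norm_num⟩
    obtain ⟨k, hk⟩ := Cfsg.Agent.Char.Spec.ev_idem_nat (irr_isChar χ) hi.idem
    have hd : Odd (charDegree (χ : G → ℂ)) := hdeg χ hχ
    have hdi : MemLocalRing M (charDegree (χ : G → ℂ) : ℂ)⁻¹ :=
      ring_inv_natCast hM fun h => (Nat.not_even_iff_odd.2 hd) (even_iff_two_dvd.2 h)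
    have hnum : MemLocalRing M ((I : ℂ) * (m : ℂ)) := ring_mul hM (ring_natCast hM _) (ring_natCast hM _)
    have hinv1 : red hM (charDegree (χ : G → ℂ) : ℂ)⁻¹ = 1 := by
      have h1 := red_mul hM hdi (ring_natCast hM (charDegree (χ : G → ℂ)))
      rw [inv_mul_cancel₀ (Nat.cast_ne_zero.2 hd.pos.ne'), red_one, red_natCast_two hM hd, mul_one] at h1
      exact h1.symm
    rw [hm.2, charDeg_spec', hk, div_eq_mul_inv, red_mul hM (ring_mul hM hnum hdi) (ring_natCast hM _),
      red_mul hM hnum hdi, red_mul hM (ring_natCast hM _) (ring_natCast hM _), red_natCast_two hM hidxI,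
      red_natCast_two hM hm.1, hinv1, one_mul, one_mul, one_mul]
  have hsum1 : orbitSum A t (coreSum A t) = 1 := by
    have h1 := hT _ (hZr.mul hM hi.ring)
    rw [redA_mul hM hZr hi.ring, map_mul, hZA, hz, smul_mul_assoc, one_mul, Matrix.trace_smul,
      Finset.sum_congr rfl fun χ hχ => by rw [hω χ (Finset.mem_filter.1 hχ).2], ← hT _ hi.ring, smul_eq_mul] at h1
    have hz1 : z = 1 := mul_right_cancel₀ htr0 (by rw [one_mul]; exact h1)
    rw [hz, hz1, one_smul]
  exact no_module hA hn1 hsqr hinv (hsq ht) (hsq hu) hcomm hgrp hcard hdec hfus hidxI hrank hsum1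

end Cfsg.Agent.Invol.GW.Klein
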