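import Cfsg.Agent.Lib.Invol.GW.Klein.Setup
import Cfsg.Agent.Lib.Invol.GW.Klein.BlocksRational
import Cfsg.Agent.S4480

/-!
# The principal block in the configuration with Klein four Sylow subgroup

`Hyp.principal_data`: the order of the group and of the core of the centraliser of an involution, and a small
character which is constant on each coset `v * O(C(v))`.
-/

set_option autoImplicit false
set_option linter.unusedSectionVars false
set_option linter.style.haveILetI false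
set_option maxHeartbeats 800000

namespace Cfsg.Agent.Invol.GW.Klein

open Cfsg Subgroup

universe u

variable {G : Type u} [Group G] [Finite G]

theorem card_eq_mul_of_inf_eq_bot {A B L : Subgroup G} (hA : A ≤ L) (hB : B ≤ L) (hAB : A ⊓ B = ⊥)
    (hL : ∀ x ∈ L, ∃ a ∈ A, ∃ b ∈ B, a * b = x) : Nat.card L = Nat.card A * Nat.card B := by
  rw [← Nat.card_prod]
  refine (Nat.card_eq_of_bijective
    (fun w : A × B => (⟨(w.1 : G) * w.2, mul_mem (hA w.1.2) (hB w.2.2)⟩ : L)) ⟨?_, ?_⟩).symm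
  · rintro ⟨⟨a, ha⟩, b, hb⟩ ⟨⟨a', ha'⟩, b', hb'⟩ e
    have e' : a * b = a' * b' := congrArg Subtype.val e
    have hm : a'⁻¹ * a ∈ A ⊓ B := ⟨A.mul_mem (A.inv_mem ha') ha, by
      rw [show a'⁻¹ * a = b' * b⁻¹ by
        rw [inv_mul_eq_iff_eq_mul, ← mul_assoc, ← e', mul_inv_cancel_right]]
      exact B.mul_mem hb' (B.inv_mem hb)⟩
    rw [hAB, mem_bot, inv_mul_eq_one] at hm
    subst hm
    cases mul_left_cancel e'
    rfl
  · rintro ⟨x, hx⟩
    obtain ⟨a, ha, b, hb, rfl⟩ := hL x hx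
    exact ⟨(⟨a, ha⟩, ⟨b, hb⟩), rfl⟩

namespace Hyp

variable {V : Sylow 2 G} {t u : G} (h : Hyp V t u)
include h

theorem card_sylow : Nat.card ↥(V : Subgroup G) = 4 := h.klein.card_four

theorem card_centralizer : Nat.card ↥(centralizer ({t} : Set G)) = Nat.card ↥(coreCent t) * 4 := by
  rw [card_eq_mul_of_inf_eq_bot h.coreCent_le h.le_centralizer h.coreCent_inf fun x hx => h.exists_mul hx,
    h.card_sylow]

theorem card_centralizer_sylow :
    Nat.card ↥(centralizer ((V : Subgroup G) : Set G)) = Nat.card ↥(fixR t u) * 4 := by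
  have hsup := h.centralizer_sylow
  rw [card_eq_mul_of_inf_eq_bot (A := fixR t u) (B := (V : Subgroup G)) (hsup ▸ le_sup_left) (hsup ▸ le_sup_right)
    (eq_bot_iff.2 fun x hx => h.coreCent_inf ▸ (⟨hx.1.1, hx.2⟩ : x ∈ coreCent t ⊓ (V : Subgroup G))) fun x hx =>
      exists_mul_of_sup (le_normalizer.trans h.normalizer_le_normalizer_fixR) (hsup ▸ hx : x ∈ fixR t u ⊔ (V : Subgroup G)),
    h.card_sylow]

/-- The constancy of a character of the principal block on `v * O(C(v))`. -/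
theorem block_value_const [Fintype G] {M : Ideal AlgInt} (hM : IsPModular 2 M) {χ : IrrCharacter G}
    (hχ : χ ∈ principalBlock M G) {v : G} (hv : v ∈ (V : Subgroup G)) (hv1 : v ≠ 1) {x : G}
    (hx : x ∈ coreCent v) : (χ : G → ℂ) (v * x) = (χ : G → ℂ) v := by
  haveI : Fact (Nat.Prime 2) := ⟨Nat.prime_two⟩
  obtain ⟨K, hKn, hK, hidx⟩ := Block.klein_centralizer_complement V h.klein hv hv1
  haveI := hKn
  have hxC : x ∈ centralizer ({v} : Set G) := oddOf_le _ hx
  have ho : Odd (orderOf x) := Odd.of_dvd_nat (odd_card_oddOf _) ((coreCent v).orderOf_dvd_natCard hx)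
  have hreg : (⟨x, hxC⟩ : centralizer ({v} : Set G)) ∈ K := Block.regular_mem_of_index_pPow hidx (by
    rw [← Subgroup.orderOf_coe]
    exact fun hd => (Nat.not_even_iff_odd.2 ho) (even_iff_two_dvd.2 hd))
  exact Block.KleinOrder.value_const hM (h.orderOf_eq hv hv1) hKn hK hχ hreg

/-- The characters of the principal block with different degrees in the mirror case would be rational. -/
theorem degree_eq_of_mirror [Fintype G] {M : Ideal AlgInt} (hM : IsPModular 2 M) {ζ₂ ζ₃ ζ₄ : IrrCharacter G}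
    (hB : principalBlock M G = {χ : IrrCharacter G | (χ : G → ℂ) = (fun _ => 1) ∨ χ = ζ₂ ∨ χ = ζ₃ ∨ χ = ζ₄})
    (hv2 : (ζ₂ : G → ℂ) t = 1) (hv3 : (ζ₃ : G → ℂ) t = -1) (hv4 : (ζ₄ : G → ℂ) t = -1)
    (hd2 : Odd (charDegree (ζ₂ : G → ℂ))) (hd3 : Odd (charDegree (ζ₃ : G → ℂ)))
    (hd4 : Odd (charDegree (ζ₄ : G → ℂ)))
    (hrel : charDegree (ζ₂ : G → ℂ) + 1 = charDegree (ζ₃ : G → ℂ) + charDegree (ζ₄ : G → ℂ)) :
    charDegree (ζ₃ : G → ℂ) = charDegree (ζ₄ : G → ℂ) := by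
  classical
  by_contra hne
  haveI := h.simple
  haveI : Fact (Nat.Prime 2) := ⟨Nat.prime_two⟩
  have hmem : ∀ χ : IrrCharacter G, χ ∈ principalBlock M G ↔
      (χ : G → ℂ) = (fun _ => 1) ∨ χ = ζ₂ ∨ χ = ζ₃ ∨ χ = ζ₄ := fun χ => by rw [hB]; rfl
  have hdt : ∀ χ : IrrCharacter G, (χ : G → ℂ) = (fun _ => 1) → charDegree (χ : G → ℂ) = 1 ∧ (χ : G → ℂ) t = 1 :=
    fun χ e => by rw [e]; exact ⟨Block.charDeg_trivial, rfl⟩
  have hfix : ∀ (σ : ℂ ≃+* ℂ) (χ : IrrCharacter G), χ ∈ principalBlock M G → Block.PrinCol.galIrr σ χ = χ := by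
    intro σ χ hχ
    have hmem' := (hmem _).1 (Block.PrinCol.galIrr_mem hM σ hχ)
    have hdeg : charDegree ((Block.PrinCol.galIrr σ χ : IrrCharacter G) : G → ℂ) = charDegree (χ : G → ℂ) := by
      have h1 := Block.charDeg_spec' (Block.PrinCol.galIrr σ χ)
      have h2 := Block.charDeg_spec' χ
      change σ ((χ : G → ℂ) 1) = _ at h1
      rw [h2, map_natCast] at h1
      exact_mod_cast h1.symm
    have hval : ((Block.PrinCol.galIrr σ χ : IrrCharacter G) : G → ℂ) t = (χ : G → ℂ) t := by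
      obtain ⟨k, hk⟩ := Block.char_involution_int χ (h.mul_self h.ht)
      show σ ((χ : G → ℂ) t) = _
      rw [hk, map_intCast]
    have p2 := Block.charDeg_pos ζ₂
    have p3 := Block.charDeg_pos ζ₃
    have p4 := Block.charDeg_pos ζ₄
    generalize Block.PrinCol.galIrr σ χ = ξ at hmem' hdeg hval
    rcases (hmem χ).1 hχ with e | rfl | rfl | rfl <;> rcases hmem' with e' | rfl | rfl | rfl
    case inl.inl => exact Subtype.ext (e'.trans e.symm)
    all_goals first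
      | rfl
      | (exfalso
         first
          | (rw [(hdt _ e).1] at hdeg; rw [(hdt _ e).2] at hval)
          | (rw [(hdt _ e').1] at hdeg; rw [(hdt _ e').2] at hval)
          | skip
         simp only [hv2, hv3, hv4] at hval
         first
          | omega
          | norm_num at hval)
  refine rational_block_false hM V h.klein h.one h.ht h.hu h.ht1 h.hu1 h.htu
    (let ⟨n, _, hn⟩ := h.exists_h; ⟨n, hn⟩) (fun χ hχ g => ?_) (fun χ hχ => ?_) (fun χ hχ => ?_)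
    ((hmem ζ₄).2 (Or.inr (Or.inr (Or.inr rfl)))) hv4
  · refine Char.IsChar.exists_int_of_fixed (Block.irr_isChar χ) g fun k hk => ?_
    obtain ⟨σ, hσ⟩ := Char.exists_ringAut_pow (orderOf g) k (orderOf_pos g) hk
    rw [← Char.ringAut_character_eq_pow (Block.irr_isChar χ) σ hσ (dvd_refl (orderOf g))]
    exact congrFun (congrArg Subtype.val (hfix σ χ hχ)) g
  · rcases (hmem χ).1 hχ with e | rfl | rfl | rfl
    · rw [e, Block.charDeg_trivial]; exact odd_one
    exacts [hd2, hd3, hd4]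
  · rcases (hmem χ).1 hχ with e | rfl | rfl | rfl
    · exact ⟨1, Or.inl rfl, by rw [e, Int.cast_one]⟩
    · exact ⟨1, Or.inl rfl, by rw [hv2, Int.cast_one]⟩
    · exact ⟨-1, Or.inr rfl, by rw [hv3]; norm_num⟩
    · exact ⟨-1, Or.inr rfl, by rw [hv4]; norm_num⟩

/-- The data from the principal block. -/
theorem principal_data : ∃ m b q : ℕ, Odd m ∧ Odd b ∧ (q + 1 = 4 * b ∨ q = 4 * b + 1) ∧
    Nat.card ↥(coreCent t) = m * b * Nat.card ↥(fixR t u) ∧
    2 * Nat.card G = m ^ 3 * Nat.card ↥(fixR t u) * q * (q * q - 1) ∧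
    ∃ χ : IrrCharacter G, (χ : G → ℂ) ≠ (fun _ => 1) ∧ charDegree (χ : G → ℂ) ≤ 2 * b + 1 ∧
      ∃ δ : ℤ, (δ = 1 ∨ δ = -1) ∧ ∀ v ∈ (V : Subgroup G), v ≠ 1 → ∀ x ∈ coreCent v, (χ : G → ℂ) (v * x) = δ := by
  classical
  letI := Fintype.ofFinite G
  haveI : Fact (Nat.Prime 2) := ⟨Nat.prime_two⟩
  obtain ⟨M, hM⟩ := Char.exists_isPModular 2 Nat.prime_two
  obtain ⟨ζ₂, ζ₃, ζ₄, ε, hε, n2, n3, d23, d24, d34, hB, hval, h4a, h4b, h4c, horth⟩ :=
    Block.klein_principal hM V h.klein h.one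
  have ht2 : orderOf t = 2 := h.orderOf_eq h.ht h.ht1
  obtain ⟨v2, v3, v4⟩ := hval t ht2
  have hmemB : ∀ χ, χ = ζ₂ ∨ χ = ζ₃ ∨ χ = ζ₄ → χ ∈ principalBlock M G := fun χ e => by
    rw [hB]; exact Or.inr e
  have n4 : (ζ₄ : G → ℂ) ≠ fun _ => 1 := fun e => by
    rw [e] at v4
    norm_num at v4
  set x₂ := charDegree (ζ₂ : G → ℂ) with hx2
  set x₃ := charDegree (ζ₃ : G → ℂ) with hx3
  set x₄ := charDegree (ζ₄ : G → ℂ) with hx4
  have hdrel : (1 : ℤ) + x₂ + ε * x₃ - x₄ = 0 := by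
    have h1 := horth 1 (by rw [orderOf_one]; exact odd_one)
    rw [Block.charDeg_spec', Block.charDeg_spec', Block.charDeg_spec', ← hx2, ← hx3, ← hx4] at h1
    have : (((1 : ℤ) + x₂ + ε * x₃ - x₄ : ℤ) : ℂ) = ((0 : ℤ) : ℂ) := by push_cast; linear_combination h1
    exact_mod_cast this
  set c := Nat.card ↥(centralizer ({t} : Set G)) with hc
  set cP := Nat.card ↥(centralizer ((V : Subgroup G) : Set G)) with hcP
  have hcU := h.card_centralizer
  have hcR := h.card_centralizer_sylow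
  rw [← hc] at hcU
  rw [← hcP] at hcR
  set U := Nat.card ↥(coreCent t) with hU
  set r := Nat.card ↥(fixR t u) with hr
  have hUodd : Odd U := h.odd_coreCent
  -- group of order four times odd without normal complement
  have hG4 : Nat.card G = 4 * (V : Subgroup G).index := by
    rw [← h.card_sylow, Subgroup.card_mul_index]
  have hg0 : Odd (V : Subgroup G).index := by
    rw [← Nat.not_even_iff_odd, even_iff_two_dvd]
    exact Sylow.not_dvd_index V
  have hconst : ∀ χ ∈ principalBlock M G, ∀ δ : ℤ, (∀ z : G, orderOf z = 2 → (χ : G → ℂ) z = δ) →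
      ∀ v ∈ (V : Subgroup G), v ≠ 1 → ∀ x ∈ coreCent v, (χ : G → ℂ) (v * x) = δ := fun χ hχ δ hδ v hv hv1 x hx => by
    rw [h.block_value_const hM hχ hv hv1 hx, hδ v (h.orderOf_eq hv hv1)]
  rcases hε with rfl | rfl
  · -- the first case
    have hnc : ¬ ∃ N : Subgroup G, N.Normal ∧ Nat.card N = (V : Subgroup G).index := by
      rintro ⟨N, hN, hcard⟩
      haveI := h.simple
      rcases hN.eq_bot_or_eq_top with rfl | rfl
      · have hV : (V : Subgroup G) = ⊤ := Subgroup.index_eq_one.1 (by rw [← hcard, Subgroup.card_bot])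
        obtain ⟨g, hg⟩ := isConj_iff.1 (h.one t u ht2 (h.orderOf_eq h.hu h.hu1))
        exact h.htu (by rw [← hg, (h.comm (hV ▸ Subgroup.mem_top g) h.ht).eq, mul_inv_cancel_right])
      · rw [Subgroup.card_top] at hcard
        have := Nat.card_pos (α := G)
        omega
    obtain ⟨m, hm1, hm2⟩ := S4480.result M hM _ hg0 hG4 hnc V t h.ht ht2 ζ₂ ζ₃ ζ₄ 1 1 (-1) hB
      ⟨n2, n3, n4, d23, d24, d34⟩ ⟨Or.inl rfl, Or.inl rfl, Or.inr rfl⟩
      ⟨by rw [v2, Int.cast_one], by rw [v3], by rw [v4]; norm_num⟩ (by norm_num) rfl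
    rw [← hc, ← hcP, ← hx4] at hm1
    rw [← hcP, ← hx4] at hm2
    obtain ⟨b, hb⟩ : 4 ∣ x₄ + 1 := by exact_mod_cast h4c
    rw [hb, hcU, hcR] at hm1
    rw [hcR] at hm2
    have hUeq : U = m * b * r := by linarith
    have hodd := hUeq ▸ hUodd
    rw [Nat.odd_mul, Nat.odd_mul] at hodd
    refine ⟨m, b, x₄, hodd.1.1, hodd.1.2, Or.inl hb, hUeq, ?_, ?_⟩
    · have e : x₄ ^ 3 - x₄ = x₄ * (x₄ * x₄ - 1) := by rw [Nat.mul_sub, mul_one, pow_three]
      rw [e] at hm2
      linarith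
    rcases le_total x₂ x₃ with hle | hle
    · exact ⟨ζ₂, n2, by show x₂ ≤ _; omega, 1, Or.inl rfl,
        hconst _ (hmemB _ (Or.inl rfl)) 1 fun z hz => by rw [(hval z hz).1, Int.cast_one]⟩
    · exact ⟨ζ₃, n3, by show x₃ ≤ _; omega, 1, Or.inl rfl,
        hconst _ (hmemB _ (Or.inr (Or.inl rfl))) 1 fun z hz => (hval z hz).2.1⟩
  · -- the mirror case
    have ho2 : Odd x₂ := by rw [Nat.odd_iff]; omega
    have ho3 : Odd x₃ := by rw [Nat.odd_iff]; omega
    have ho4 : Odd x₄ := by rw [Nat.odd_iff]; omega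
    have v3' : (ζ₃ : G → ℂ) t = -1 := by rw [v3]; norm_num
    have hx34 : x₃ = x₄ := h.degree_eq_of_mirror hM hB v2 v3' v4 ho2 ho3 ho4 (by omega)
    obtain ⟨b, hb⟩ : ∃ b : ℕ, x₃ = 2 * b + 1 := ho3
    have hb0 : 0 < b := by omega
    have hq : x₂ = 4 * b + 1 := by omega
    obtain ⟨J, hJ⟩ : x₃ ∣ (centralizer ({t} : Set G)).index := by
      refine Char.nat_dvd_of_isIntegral_div (by omega) ?_
      have h1 := Char.IsIrr.isIntegral_centralChar ζ₃.2 t
      rw [v3', Block.charDeg_spec', ← hx3, mul_neg, mul_one, neg_div, IsIntegral.neg_iff] at h1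
      exact h1
    have hGJ : Nat.card G = x₃ * J * c := by rw [← hJ, hc, Subgroup.index_mul_card]
    obtain ⟨n, hn⟩ : cP ∣ c :=
      Subgroup.card_dvd_of_le (Subgroup.centralizer_le (Set.singleton_subset_iff.2 h.ht))
    have hcpos : 0 < c := Nat.card_pos
    have hcPpos : 0 < cP := Nat.card_pos
    have hf := Block.KleinOrder.order_formula hM h.klein h.one h.ht ht2
    have hA : Finset.univ.filter (fun χ : IrrCharacter G => χ ∈ principalBlock M G) =
        {Block.trivialIrr G, ζ₂, ζ₃, ζ₄} := by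
      ext χ
      simp only [Finset.mem_filter, Finset.mem_univ, true_and, hB, Set.mem_setOf_eq, Finset.mem_insert,
        Finset.mem_singleton]
      exact or_congr ⟨fun e => Subtype.ext e, fun e => by rw [e]; rfl⟩ Iff.rfl
    have t2 : Block.trivialIrr G ≠ ζ₂ := fun e => n2 (by rw [← e]; rfl)
    have t3 : Block.trivialIrr G ≠ ζ₃ := fun e => n3 (by rw [← e]; rfl)
    have t4 : Block.trivialIrr G ≠ ζ₄ := fun e => n4 (by rw [← e]; rfl)
    rw [show Finset.univ.filter (· ∈ principalBlock M G) = _ from hA, Finset.sum_insert (by simp [t2, t3, t4]),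
      Finset.sum_insert (by simp [d23, d24]), Finset.sum_insert (by simp [d34]), Finset.sum_singleton,
      show ((Block.trivialIrr G : IrrCharacter G) : G → ℂ) t = 1 from rfl,
      show ((Block.trivialIrr G : IrrCharacter G) : G → ℂ) 1 = 1 from rfl, v2, v3', v4, Block.charDeg_spec',
      Block.charDeg_spec', Block.charDeg_spec', ← hx2, ← hx3, ← hx4, ← hx34, ← hc, ← hcP, hGJ, hn, hq, hb] at hf
    push_cast at hf
    have hcP0 : (cP : ℂ) ≠ 0 := Nat.cast_ne_zero.2 hcPpos.ne'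
    have hn0 : (n : ℂ) ≠ 0 := Nat.cast_ne_zero.2 fun e => by rw [e, mul_zero] at hn; omega
    have h4b1 : (4 * (b : ℂ) + 1) ≠ 0 := by
      exact_mod_cast (by omega : 4 * b + 1 ≠ 0)
    have h2b1 : (2 * (b : ℂ) + 1) ≠ 0 := by
      exact_mod_cast (by omega : 2 * b + 1 ≠ 0)
    have hf2 : 8 * ((cP : ℂ) * n) ^ 3 * (4 * (b : ℂ) + 1) = (J : ℂ) * ((cP : ℂ) * n) * (cP : ℂ) ^ 2 * (8 * (b : ℂ) ^ 2) := by
      have hs : ∀ w z : ℂ, w ≠ 0 → z ≠ 0 →
          (1 : ℂ) ^ 3 / 1 + (1 ^ 3 / w + ((-1) ^ 3 / z + (-1) ^ 3 / z)) = (w * z + z - 2 * w) / (w * z) := by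
        intro w z hw hz
        field_simp
        ring
      rw [hf, hs _ _ h4b1 h2b1]
      have hc' : ∀ w z X N : ℂ, w ≠ 0 → z ≠ 0 → z * X * (N / (w * z)) * w = X * N := by
        intro w z X N hw hz
        field_simp
      refine Eq.trans ?_ ((hc' (4 * (b : ℂ) + 1) (2 * (b : ℂ) + 1) ((J : ℂ) * ((cP : ℂ) * n) * (cP : ℂ) ^ 2)
        ((4 * (b : ℂ) + 1) * (2 * (b : ℂ) + 1) + (2 * (b : ℂ) + 1) - 2 * (4 * (b : ℂ) + 1)) h4b1 h2b1).trans (by ring))
      ring
    have hkey : ((n ^ 2 * (4 * b + 1) : ℕ) : ℂ) = ((J * b ^ 2 : ℕ) : ℂ) := by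
      refine mul_left_cancel₀ (mul_ne_zero (mul_ne_zero (by norm_num : (8 : ℂ) ≠ 0) (pow_ne_zero 3 hcP0)) hn0) ?_
      push_cast
      linear_combination hf2
    have hkeyN : n ^ 2 * (4 * b + 1) = J * b ^ 2 := Nat.cast_inj.1 hkey
    have hco : Nat.Coprime (b ^ 2) (4 * b + 1) := by
      refine Nat.Coprime.pow_left 2 ?_
      rw [mul_comm, Nat.add_comm, Nat.coprime_add_mul_left_right]
      exact Nat.coprime_one_right b
    obtain ⟨m, hm⟩ : b ∣ n :=
      (Nat.pow_dvd_pow_iff (by norm_num)).1 (hco.dvd_of_dvd_mul_right ⟨J, by rw [hkeyN, mul_comm]⟩)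
    have hJm : J = m ^ 2 * (4 * b + 1) := by
      refine Nat.eq_of_mul_eq_mul_right (pow_pos hb0 2) ?_
      rw [← hkeyN, hm]
      ring
    rw [hn, hm, hcR] at hcU
    have hUeq : U = m * b * r := by linarith
    have hodd := hUeq ▸ hUodd
    rw [Nat.odd_mul, Nat.odd_mul] at hodd
    refine ⟨m, b, x₂, hodd.1.1, hodd.1.2, Or.inr hq, hUeq, ?_, ζ₃, n3, by show x₃ ≤ _; omega, -1, Or.inr rfl,
      hconst _ (hmemB _ (Or.inr (Or.inl rfl))) (-1) fun z hz => (hval z hz).2.1⟩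
    rw [hGJ, hb, hn, hm, hcR, hJm, hq,
      show (4 * b + 1) * (4 * b + 1) - 1 = 8 * b * (2 * b + 1) by
        rw [show (4 * b + 1) * (4 * b + 1) = 8 * b * (2 * b + 1) + 1 by ring]; omega]
    ring

end Hyp

end Cfsg.Agent.Invol.GW.Klein
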