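import Cfsg.Agent.Lib.Invol.GW.Klein.Linear
import Cfsg.Agent.Lib.Invol.GW.Consumers.Basic
import Cfsg.Agent.S2086

/-!
# Gorenstein–Walter, Klein four: a subgroup of linear kind whose core is centralised by `V`

Such an `H` has a normal subgroup `E ≅ PSL₂(q)` over `V` centralising the core, and
`D = [C_U(H), u] = U ⊓ E` is cyclic of odd order `a₀`, `q = 4 a₀ ± 1`, with `U ⊓ H = (R ⊓ H) D`.
-/

set_option autoImplicit false
set_option linter.unusedSectionVars false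
set_option linter.style.haveILetI false

namespace Cfsg.Agent.Invol.GW.Klein

open Subgroup
open scoped Pointwise commutatorElement

universe u

variable {G : Type u} [Group G]

/-- What a subgroup `H` of linear kind gives when `V` centralises its core: `E` is `PSL₂(F)`, normal in `H`. -/
structure LinearData (F : Type) [Field F] [Fintype F] (V : Subgroup G) (t u : G) (H E : Subgroup G) : Prop where
  odd : Odd (Fintype.card F)
  five : 5 ≤ Fintype.card F
  mod_eight : Fintype.card F % 8 = 3 ∨ Fintype.card F % 8 = 5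
  iso : Nonempty (↥E ≃* Matrix.ProjectiveSpecialLinearGroup (Fin 2) F)
  le : E ≤ H
  normal : H ≤ normalizer (E : Set G)
  sylow_le : V ≤ E
  commute_core : ∀ x ∈ E, ∀ y ∈ oddOf H, Commute x y
  isCyclic : IsCyclic ↥⁅coreCent t ⊓ H, zpowers u⁆
  eq_inf : ⁅coreCent t ⊓ H, zpowers u⁆ = coreCent t ⊓ E
  le_E : ⁅coreCent t ⊓ H, zpowers u⁆ ≤ E
  normalizes : coreCent t ⊓ H ≤ normalizer ((⁅coreCent t ⊓ H, zpowers u⁆ : Subgroup G) : Set G)
  inverted : ∀ d ∈ ⁅coreCent t ⊓ H, zpowers u⁆, u * d * u⁻¹ = d⁻¹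
  inf_fixR : ⁅coreCent t ⊓ H, zpowers u⁆ ⊓ fixR t u = ⊥
  inf_fixR_E : E ⊓ fixR t u = ⊥
  sup_eq : (fixR t u ⊓ H) ⊔ ⁅coreCent t ⊓ H, zpowers u⁆ = coreCent t ⊓ H
  odd_a0 : Odd (Nat.card ↥⁅coreCent t ⊓ H, zpowers u⁆)
  card_eq : Fintype.card F + 1 = 4 * Nat.card ↥⁅coreCent t ⊓ H, zpowers u⁆ ∨
    Fintype.card F = 4 * Nat.card ↥⁅coreCent t ⊓ H, zpowers u⁆ + 1
  dvd : Nat.card ↥E * Nat.card ↥(fixR t u ⊓ H) ∣ Nat.card ↥H

/-- A central extension of `PSL₂(q)`, `q` odd and not `9`, with a perfect source and odd kernel is trivial. -/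
theorem injective_of_odd_perfect_cover {K : Type u} [Group K] [Finite K] (hp : Group.IsPerfect K) {F : Type}
    [Field F] [Fintype F] (hodd : Odd (Fintype.card F)) (h5 : 5 ≤ Fintype.card F) (h9 : Fintype.card F ≠ 9)
    (ρ : K →* Matrix.ProjectiveSpecialLinearGroup (Fin 2) F) (hρ : Function.Surjective ρ)
    (hc : ρ.ker ≤ center K) (hker : Odd (Nat.card ↥ρ.ker)) : Function.Injective ρ := by
  haveI : Small.{0} K := inferInstance
  obtain ⟨k, hk⟩ := hodd
  have hM := S2086.result (F := F) rfl 2 le_rfl (fun _ => by omega) (by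
    simp only [Set.mem_insert_iff, Set.mem_singleton_iff, Prod.mk.injEq]
    omega)
  have h := Block.CpQuot.card_ker_dvd hM ρ hρ hc hp
  rw [Nat.card_congr Multiplicative.toAdd, Nat.card_zmod] at h
  have h2 : Nat.card ↥ρ.ker ∣ 2 := h.trans (Nat.gcd_dvd_left 2 _)
  rcases (Nat.dvd_prime Nat.prime_two).1 h2 with e | e
  · exact (MonoidHom.ker_eq_bot_iff ρ).1 (Subgroup.card_eq_one.1 e)
  · rw [e] at hker
    exact absurd hker (by decide)

namespace Hyp

variable [Finite G] {V : Sylow 2 G} {t u : G} (h : Hyp V t u)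
include h

/-- When `V` centralises the core of `H` of linear kind, `H` has a normal `PSL₂(q)` centralising it. -/
theorem exists_linearE {H : Subgroup G} (hVH : (V : Subgroup G) ≤ H) (hk : LinearKind H)
    (hc : ∀ x ∈ oddOf H, ∀ v ∈ (V : Subgroup G), Commute x v) :
    ∃ (F : Type) (_ : Field F) (_ : Fintype F) (E : Subgroup G),
      Odd (Fintype.card F) ∧ 5 ≤ Fintype.card F ∧ (Fintype.card F % 8 = 3 ∨ Fintype.card F % 8 = 5) ∧
      Nonempty (↥E ≃* Matrix.ProjectiveSpecialLinearGroup (Fin 2) F) ∧ E ≤ H ∧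
      H ≤ normalizer (E : Set G) ∧ (V : Subgroup G) ≤ E ∧ ∀ x ∈ E, ∀ y ∈ oddOf H, Commute x y := by
  obtain ⟨F, _, _, N, π, hodd, h5, hNH, hHN, hmem, hON, hπ, hker⟩ := hk.exists_hom
  have hVN : (V : Subgroup G) ≤ N := fun v hv => hmem v (hVH hv) (h.mul_self hv)
  obtain ⟨hq8, hto, -, -, -⟩ := h.linear_quotient hodd hVN hπ hker
  set C : Subgroup G := N ⊓ centralizer (oddOf H : Set G) with hC
  have hVC : (V : Subgroup G) ≤ C := fun v hv =>
    ⟨hVN hv, mem_centralizer_iff.2 fun x hx => (hc x hx v hv).eq⟩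
  have hconj : ∀ g ∈ H, ∀ x ∈ C, g * x * g⁻¹ ∈ C := by
    intro g hg x hx
    refine ⟨(mem_normalizer_iff.1 (hHN hg) x).1 hx.1, mem_centralizer_iff.2 fun y hy => ?_⟩
    have hy' : g⁻¹ * y * g ∈ oddOf H := by
      simpa using conj_mem_oddOf (inv_mem hg) hy
    have := (show Commute (g⁻¹ * y * g) x from mem_centralizer_iff.1 hx.2 _ hy').conj g
    rw [show g * (g⁻¹ * y * g) * g⁻¹ = y by group] at this
    exact this.eq
  have hHC : H ≤ normalizer (C : Set G) := fun g hg => mem_normalizer_iff.2 fun x =>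
    ⟨hconj g hg x, fun hx => by simpa [mul_assoc] using hconj g⁻¹ (inv_mem hg) _ hx⟩
  have hCN : C ≤ N := inf_le_left
  set f : ↥C →* Matrix.ProjectiveSpecialLinearGroup (Fin 2) F := π.comp (Subgroup.inclusion hCN) with hf
  have hfs : Function.Surjective f := by
    intro y
    obtain ⟨x, hx, rfl⟩ := Subgroup.mem_map.1
      ((h.map_inf_eq_top hHC hVC h5 hNH hVN hπ hker).symm ▸ mem_top y : y ∈ (C.subgroupOf N).map π)
    exact ⟨⟨x, mem_subgroupOf.1 hx⟩, rfl⟩
  have hkerO : ∀ x : ↥C, f x = 1 → (x : G) ∈ oddOf H := fun x hx => (hker _).1 hx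
  have hfc : f.ker ≤ center ↥C := fun x hx => Subgroup.mem_center_iff.2 fun y =>
    Subtype.ext (mem_centralizer_iff.1 y.2.2 x (hkerO x hx)).symm
  have hp := commutator_perfect_of_central f hfs hfc (PSL.perfect h5)
  set ρ : ↥(commutator ↥C) →* Matrix.ProjectiveSpecialLinearGroup (Fin 2) F :=
    f.comp (commutator ↥C).subtype with hρdef
  have hρ : Function.Surjective ρ := by
    rw [← MonoidHom.range_eq_top, hρdef, MonoidHom.range_comp, Subgroup.range_subtype, _root_.commutator_def,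
      Subgroup.map_commutator, Subgroup.map_top_of_surjective f hfs, ← _root_.commutator_def, PSL.perfect h5]
  have hρc : ρ.ker ≤ center ↥(commutator ↥C) := fun x hx =>
    Subgroup.mem_center_iff.2 fun y => Subtype.ext (Subgroup.mem_center_iff.1 (hfc hx) (y : ↥C))
  have hρodd : Odd (Nat.card ↥ρ.ker) := by
    let g : ↥ρ.ker →* ↥(oddOf H) :=
      ((C.subtype.comp (commutator ↥C).subtype).comp ρ.ker.subtype).codRestrict (oddOf H) fun x => hkerO _ x.2
    refine Odd.of_dvd_nat (odd_card_oddOf H) (Subgroup.card_dvd_of_injective g fun a b e => ?_)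
    exact Subtype.ext (Subtype.ext (Subtype.ext (congrArg (fun z : ↥(oddOf H) => (z : G)) e :)))
  have hinj := injective_of_odd_perfect_cover ⟨hp⟩ hodd h5 (by omega) ρ hρ hρc hρodd
  have hmap : (commutator ↥C).map C.subtype = ⁅C, C⁆ := C.map_subtype_commutator
  refine ⟨F, inferInstance, inferInstance, ⁅C, C⁆, hodd, h5, hq8,
    ⟨((MulEquiv.subgroupCongr hmap).symm.trans
      ((commutator ↥C).equivMapOfInjective C.subtype C.subtype_injective).symm).trans
      (MulEquiv.ofBijective ρ ⟨hinj, hρ⟩)⟩, ?_, ?_, ?_, ?_⟩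
  · exact hmap ▸ (map_subtype_le _).trans (hCN.trans hNH)
  · intro g hg
    have key : ∀ g ∈ H, ∀ x ∈ ⁅C, C⁆, g * x * g⁻¹ ∈ ⁅C, C⁆ := fun g hg => by
      have hle : ⁅C, C⁆ ≤ ⁅C, C⁆.comap (MulAut.conj g).toMonoidHom := commutator_le.2 fun a ha b hb => by
        rw [mem_comap, map_commutatorElement]
        exact commutator_mem_commutator (hconj g hg a ha) (hconj g hg b hb)
      exact hle
    exact mem_normalizer_iff.2 fun x =>
      ⟨key g hg x, fun hx => by simpa [mul_assoc] using key g⁻¹ (inv_mem hg) _ hx⟩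
  · intro v hv
    obtain ⟨e, he⟩ := hρ (f ⟨v, hVC hv⟩)
    have hz : (e : ↥C)⁻¹ * ⟨v, hVC hv⟩ ∈ f.ker := by
      rw [MonoidHom.mem_ker, map_mul, map_inv, ← he]
      exact inv_mul_cancel _
    set z := (e : ↥C)⁻¹ * ⟨v, hVC hv⟩ with hzdef
    have hv2 : (⟨v, hVC hv⟩ : ↥C) * ⟨v, hVC hv⟩ = 1 := Subtype.ext (h.mul_self hv)
    have hez : (e : ↥C) * z = ⟨v, hVC hv⟩ := mul_inv_cancel_left _ _
    have he2 : e * e = 1 := hinj (by
      rw [map_mul, map_one, he, ← map_mul, hv2, map_one])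
    have hz2 : z * z = 1 := by
      have hcz : Commute (e : ↥C) z := Subgroup.mem_center_iff.1 (hfc hz) _
      rw [← hez, hcz.symm.mul_mul_mul_comm, show (e : ↥C) * e = 1 from congrArg Subtype.val he2, one_mul] at hv2
      exact hv2
    have hz1 : z = 1 := Subtype.ext
      (eq_one_of_odd (odd_card_oddOf H) (hkerO z hz) (congrArg Subtype.val hz2))
    rw [← hmap]
    exact ⟨e, e.2, by rw [← mul_one (e : ↥C), ← hz1, hez]; rfl⟩
  · intro x hx y hy
    rw [← hmap] at hx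
    exact (mem_centralizer_iff.1 (map_subtype_le _ hx).2 y hy).symm

/-- The data of a subgroup of linear kind with core centralised by `V`. -/
theorem linearData {H : Subgroup G} (hVH : (V : Subgroup G) ≤ H) (hk : LinearKind H)
    (hc : ∀ x ∈ oddOf H, ∀ v ∈ (V : Subgroup G), Commute x v) :
    ∃ (F : Type) (_ : Field F) (_ : Fintype F) (E : Subgroup G),
      LinearData F (V : Subgroup G) t u H E := by
  obtain ⟨F, _, _, E, hodd, h5, hq8, ⟨φ⟩, hEH, hHE, hVE, hEO⟩ := h.exists_linearE hVH hk hc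
  refine ⟨F, inferInstance, inferInstance, E, ?_⟩
  haveI : Fact (Nat.Prime 2) := ⟨Nat.prime_two⟩
  set U := coreCent t with hU
  set D₀ : Subgroup G := U ⊓ E with hD₀
  have huU : u ∈ normalizer (U : Set G) := h.V_le_normalizer_coreCent h.hu
  have huE : u ∈ E := hVE h.hu
  -- the images of `t` and `u`
  have hord : ∀ {v : G} (hv : v ∈ (V : Subgroup G)), v ≠ 1 → orderOf (φ ⟨v, hVE hv⟩) = 2 := fun {v} hv hv1 => by
    rw [MulEquiv.orderOf_eq, Subgroup.orderOf_mk, h.orderOf_eq hv hv1]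
  obtain ⟨T, hT, hTc, hTm, hTi, hT1, hT3⟩ := PSL.exists_torus hodd (hord h.ht h.ht1)
  have hmemT : ∀ (x : G) (hx : x ∈ D₀), φ ⟨x, hx.2⟩ ∈ T := fun x hx => hTm _
    (by rw [MulEquiv.orderOf_eq, Subgroup.orderOf_mk]
        exact Odd.of_dvd_nat h.odd_coreCent (U.orderOf_dvd_natCard hx.1))
    ((show Commute (⟨x, hx.2⟩ : ↥E) ⟨t, hVE h.ht⟩ from Subtype.ext (h.commute_of_mem hx.1).eq).map φ.toMonoidHom)
  have hinv : ∀ d ∈ D₀, u * d * u⁻¹ = d⁻¹ := by
    intro d hd
    have h1 := hTi (φ ⟨u, hVE h.hu⟩) (hord h.hu h.hu1)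
      ((show Commute (⟨u, hVE h.hu⟩ : ↥E) ⟨t, hVE h.ht⟩ from
        Subtype.ext (h.comm h.hu h.ht).eq).map φ.toMonoidHom)
      (fun e => h.htu (congrArg Subtype.val (φ.injective e)).symm) _ (hmemT d hd)
    rw [← map_inv, ← map_inv, ← map_mul, ← map_mul] at h1
    exact congrArg Subtype.val (φ.injective h1)
  have hoddD₀ : Odd (Nat.card ↥D₀) := odd_of_le inf_le_left h.odd_coreCent
  have hsq : ∀ d ∈ D₀, ∃ e ∈ D₀, e * e = d := by
    intro d hd
    obtain ⟨k, hk⟩ := Odd.of_dvd_nat hoddD₀ (D₀.orderOf_dvd_natCard hd)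
    exact ⟨d ^ (k + 1), pow_mem hd _, by
      rw [← pow_add, show k + 1 + (k + 1) = orderOf d + 1 by omega, pow_succ, pow_orderOf_eq_one, one_mul]⟩
  -- `[U ⊓ H, u] = U ⊓ E`
  have hD : ⁅U ⊓ H, zpowers u⁆ = D₀ := by
    refine le_antisymm (commutator_le.2 fun x hx w hw => ?_) fun d hd => ?_
    · have hwE : w ∈ E := zpowers_le.2 huE hw
      have hwU : w ∈ normalizer (U : Set G) := zpowers_le.2 huU hw
      refine Subgroup.mem_inf.2 ⟨?_, ?_⟩
      · rw [commutatorElement_def, show x * w * x⁻¹ * w⁻¹ = x * (w * x⁻¹ * w⁻¹) by group]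
        exact mul_mem hx.1 ((mem_normalizer_iff.1 hwU _).1 (inv_mem hx.1))
      · rw [commutatorElement_def]
        exact mul_mem ((mem_normalizer_iff.1 (hHE hx.2) w).1 hwE) (inv_mem hwE)
    · obtain ⟨e, he, rfl⟩ := hsq d hd
      have h1 : ⁅e, u⁆ = e * e := by
        rw [commutatorElement_def, show e * u * e⁻¹ * u⁻¹ = e * (u * e * u⁻¹)⁻¹ by group, hinv e he, inv_inv]
      exact h1 ▸ commutator_mem_commutator ⟨he.1, hEH he.2⟩ (mem_zpowers u)
  have hUH : U ⊓ H ≤ normalizer (D₀ : Set G) := by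
    intro x hx
    rw [Grp.mem_normalizer_iff_smul, hD₀, Subgroup.smul_inf, Grp.conj_smul_eq_self_of_mem hx.1,
      Grp.mem_normalizer_iff_smul.1 (hHE hx.2)]
  have hER : E ⊓ fixR t u = ⊥ := by
    refine (eq_bot_iff_forall _).2 fun x hx => ?_
    obtain ⟨hxU, hxu⟩ := h.mem_fixR.1 hx.2
    have h1 := hinv x ⟨hxU, hx.1⟩
    rw [hxu.symm.eq, mul_inv_cancel_right] at h1
    exact eq_one_of_odd h.odd_coreCent hxU (mul_eq_one_iff_eq_inv.2 h1)
  have hsup : (fixR t u ⊓ H) ⊔ D₀ = U ⊓ H := by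
    refine le_antisymm (sup_le (inf_le_inf_right _ inf_le_left) (inf_le_inf_left _ hEH)) fun x hx => ?_
    have hy : x * u * x⁻¹ * u⁻¹ ∈ D₀ := hD ▸ commutator_mem_commutator hx (mem_zpowers u)
    obtain ⟨d, hd, hdy⟩ := hsq _ hy
    have hyinv := hinv _ hy
    have hdinv := hinv d hd
    have hr : u * (d⁻¹ * x) * u⁻¹ = d⁻¹ * x := by
      have h1 : u * x * u⁻¹ = (x * u * x⁻¹ * u⁻¹)⁻¹ * x := by group
      rw [show u * (d⁻¹ * x) * u⁻¹ = (u * d * u⁻¹)⁻¹ * (u * x * u⁻¹) by group, h1, hdinv, ← hdy]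
      group
    have hrH : d⁻¹ * x ∈ U ⊓ H := mul_mem (inv_mem ⟨hd.1, hEH hd.2⟩) hx
    rw [show x = d * (d⁻¹ * x) by group]
    exact mul_mem (mem_sup_right hd)
      (mem_sup_left ⟨h.mem_fixR.2 ⟨hrH.1, (mul_inv_eq_iff_eq_mul.1 hr).symm⟩, hrH.2⟩)
  -- `D` maps onto the odd part of the torus
  let ψ : ↥D₀ →* ↥T := ((φ.toMonoidHom).comp (Subgroup.inclusion (inf_le_right : D₀ ≤ E))).codRestrict T
    fun x => hmemT x x.2
  have hψ : Function.Injective ψ := fun a b e => Subtype.ext (congrArg Subtype.val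
    (φ.injective (congrArg (fun z : ↥T => (z : Matrix.ProjectiveSpecialLinearGroup (Fin 2) F)) e :)) :)
  have hcycD : IsCyclic ↥D₀ := isCyclic_of_injective ψ hψ
  obtain ⟨m, hm, hTcard, hmq⟩ : ∃ m : ℕ, Odd m ∧ Nat.card ↥T = 2 * m ∧
      (Fintype.card F + 1 = 4 * m ∨ Fintype.card F = 4 * m + 1) := by
    rcases hq8 with e | e
    · have h3 := hT3 (by omega)
      exact ⟨(Fintype.card F + 1) / 4, Nat.odd_iff.2 (by omega), by omega, Or.inl (by omega)⟩
    · have h1 := hT1 (by omega)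
      exact ⟨(Fintype.card F - 1) / 4, Nat.odd_iff.2 (by omega), by omega, Or.inr (by omega)⟩
  have hcard : Nat.card ↥D₀ = m := by
    letI : CommGroup ↥T := IsCyclic.commGroup
    have hrange : ψ.range = (powMonoidHom m : ↥T →* ↥T).ker := by
      ext x
      rw [MonoidHom.mem_ker, powMonoidHom_apply, MonoidHom.mem_range]
      constructor
      · rintro ⟨d, rfl⟩
        have ho : Odd (orderOf (ψ d)) :=
          Odd.of_dvd_nat (Odd.of_dvd_nat hoddD₀ (orderOf_dvd_natCard d)) (orderOf_map_dvd ψ d)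
        refine orderOf_dvd_iff_pow_eq_one.1 ((Nat.coprime_two_right.2 ho).dvd_of_dvd_mul_left ?_)
        exact hTcard ▸ orderOf_dvd_natCard _
      · intro hx
        have ho : Odd (orderOf (φ.symm (x : Matrix.ProjectiveSpecialLinearGroup (Fin 2) F))) := by
          rw [MulEquiv.orderOf_eq, Subgroup.orderOf_coe]
          exact Odd.of_dvd_nat hm (orderOf_dvd_of_pow_eq_one hx)
        have hcomm := (hTc _ x.2).map φ.symm.toMonoidHom
        simp only [MulEquiv.toMonoidHom_eq_coe, MonoidHom.coe_coe, MulEquiv.symm_apply_apply] at hcomm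
        refine ⟨⟨φ.symm (x : Matrix.ProjectiveSpecialLinearGroup (Fin 2) F),
          h.mem_coreCent_of_odd (congrArg Subtype.val hcomm.eq) (by rwa [Subgroup.orderOf_coe]),
          SetLike.coe_mem _⟩, Subtype.ext ?_⟩
        exact φ.apply_symm_apply _
    rw [Nat.card_congr (MonoidHom.ofInjective hψ).toEquiv, hrange, IsCyclic.card_powMonoidHom_ker, hTcard,
      Nat.gcd_eq_right (dvd_mul_left m 2)]
  refine ⟨hodd, h5, hq8, ⟨φ⟩, hEH, hHE, hVE, hEO, hD ▸ hcycD, hD, hD ▸ inf_le_right, hD ▸ hUH, hD ▸ hinv,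
    ?_, hER, hD ▸ hsup, hD ▸ hoddD₀, by rw [hD, hcard]; exact hmq, ?_⟩
  · rw [hD, eq_bot_iff, ← hER]
    exact inf_le_inf_right _ inf_le_right
  · haveI : (E.subgroupOf H).Normal := normal_subgroupOf_of_le_normalizer hHE
    let g : ↥(fixR t u ⊓ H) →* ↥H ⧸ E.subgroupOf H :=
      (QuotientGroup.mk' _).comp (Subgroup.inclusion inf_le_right)
    have hg : Function.Injective g := (injective_iff_map_eq_one g).2 fun x hx => Subtype.ext (by
      have h1 : (x : G) ∈ E := mem_subgroupOf.1 ((QuotientGroup.eq_one_iff (⟨(x : G), x.2.2⟩ : ↥H)).1 hx)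
      exact mem_bot.1 (hER ▸ Subgroup.mem_inf.2 ⟨h1, x.2.1⟩))
    rw [(E.subgroupOf H).card_eq_card_quotient_mul_card_subgroup, mul_comm (Nat.card (↥H ⧸ E.subgroupOf H)),
      Nat.card_congr (subgroupOfEquivOfLe hEH).toEquiv]
    exact Nat.mul_dvd_mul_left _ (Subgroup.card_dvd_of_injective g hg)

/-- The numerical form of `linearData`. -/
theorem linear_data {H : Subgroup G} (hVH : (V : Subgroup G) ≤ H) (hk : LinearKind H)
    (hO : oddOf H ≤ fixR t u) :
    ∃ (F : Type) (_ : Field F) (_ : Fintype F) (E : Subgroup G) (a0 : ℕ), 5 ≤ Fintype.card F ∧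
      (Fintype.card F + 1 = 4 * a0 ∨ Fintype.card F = 4 * a0 + 1) ∧
      Nonempty (↥E ≃* Matrix.ProjectiveSpecialLinearGroup (Fin 2) F) ∧ E ≤ H ∧
      ⁅coreCent t ⊓ H, zpowers u⁆ ≤ E ∧ IsCyclic ↥⁅coreCent t ⊓ H, zpowers u⁆ ∧
      Nat.card ↥⁅coreCent t ⊓ H, zpowers u⁆ = a0 ∧
      Nat.card ↥(coreCent t ⊓ H) = a0 * Nat.card ↥(fixR t u ⊓ H) ∧
      Fintype.card F * Nat.card ↥(fixR t u ⊓ H) ∣ Nat.card ↥H := by
  obtain ⟨F, _, _, E, d⟩ := h.linearData hVH hk fun x hx v hv => h.commute_of_mem_fixR (hO hx) hv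
  refine ⟨F, inferInstance, inferInstance, E, _, d.five, d.card_eq, d.iso, d.le, d.le_E, d.isCyclic, rfl, ?_, ?_⟩
  · set D := ⁅coreCent t ⊓ H, zpowers u⁆ with hD
    set B := fixR t u ⊓ H with hB
    have hBD : B ≤ normalizer (D : Set G) := (inf_le_inf_right _ inf_le_left).trans d.normalizes
    have hdis : D ⊓ B = ⊥ := le_bot_iff.1 (le_trans (inf_le_inf_left _ inf_le_left) d.inf_fixR.le)
    rw [← d.sup_eq, sup_comm, ← Nat.card_prod]
    refine (Nat.card_congr (Equiv.ofBijective (fun p : ↥D × ↥B => (⟨(p.1 : G) * p.2,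
      mul_mem (mem_sup_left p.1.2) (mem_sup_right p.2.2)⟩ : ↥(D ⊔ B))) ⟨fun p p' hp => ?_, ?_⟩)).symm
    · exact Subgroup.mul_injective_of_disjoint (disjoint_iff.2 hdis) (congrArg Subtype.val hp)
    · rintro ⟨x, hx⟩
      obtain ⟨a, ha, b, hb, rfl⟩ := exists_mul_of_sup hBD hx
      exact ⟨(⟨a, ha⟩, ⟨b, hb⟩), rfl⟩
  · refine dvd_trans (Nat.mul_dvd_mul_right ?_ _) d.dvd
    obtain ⟨φ⟩ := d.iso
    rw [Nat.card_congr φ.toEquiv]
    exact (Nat.coprime_two_right.2 d.odd).dvd_of_dvd_mul_left ⟨_, PSL.card_mul d.odd⟩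

end Hyp

end Cfsg.Agent.Invol.GW.Klein
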