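import Cfsg.Agent.Lib.Invol.GW.Klein.CaseTwo
import Cfsg.Agent.Lib.Invol.GW.Klein.LinearData

/-!
# Gorenstein–Walter, Klein four, maximal centraliser: `O_l(U) ⊓ R` is trivial
-/

set_option autoImplicit false
set_option linter.unusedSectionVars false

namespace Cfsg.Agent.Invol.GW.Klein

open Subgroup

universe u

variable {G : Type u} [Group G] [Finite G]

/-- The centralisers of elements of order `l` of `O_l(U) ⊓ R` have the linear data, so there are none. -/
theorem Hyp.opOf_inf_fixR {V : Sylow 2 G} {t u : G} (h : Hyp V t u)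
    (hC : IsCoatom (centralizer ({t} : Set G))) (hA : NoLinear V t u) (hB : BlockData V t u)
    (l : ℕ) (hl : l.Prime) : opOf l (coreCent t) ⊓ fixR t u = ⊥ := by
  by_contra hne
  haveI : Fact l.Prime := ⟨hl⟩
  refine Ctx.false (l := l) ⟨h, hC, hA, hB, hl, hne, fun z hzR hzY ho => ?_⟩
  have hY : opOf l (coreCent t) ≠ ⊥ := fun e => hne (by rw [e, bot_inf_eq])
  exact h.linear_data (h.V_le_centralizer hzR) (h.centralizer_linearKind hC hA hY hzR ho).1
    (h.oddOf_le_fixR hC hA hzY hzR ho)

end Cfsg.Agent.Invol.GW.Klein
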