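import Cfsg.Agent.Lib.Invol.GW.Klein.Cores

/-!
# An involution acting on a subgroup of odd order

`invPart A u` is the inverted part of an abelian subgroup; commutators with `u` centralise what `u` fixes or
inverts.
-/

set_option autoImplicit false
set_option linter.unusedSectionVars false

namespace Cfsg.Agent.Invol.GW.Klein

open Subgroup
open scoped Pointwise commutatorElement

universe u

variable {G : Type u} [Group G]

/-- The elements of an abelian subgroup `A` inverted by `u`. -/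
def invPart (A : Subgroup G) [IsMulCommutative A] (u : G) : Subgroup G where
  carrier := {x | x ∈ A ∧ u * x * u⁻¹ = x⁻¹}
  one_mem' := ⟨one_mem _, by group⟩
  mul_mem' := fun {a b} ha hb => ⟨mul_mem ha.1 hb.1, by
    rw [show u * (a * b) * u⁻¹ = (u * a * u⁻¹) * (u * b * u⁻¹) by group, ha.2, hb.2]
    have h := congrArg Subtype.val (mul_comm' (⟨a⁻¹, inv_mem ha.1⟩ : A) ⟨b⁻¹, inv_mem hb.1⟩)
    rw [mul_inv_rev]
    exact h⟩
  inv_mem' := fun {a} ha => ⟨inv_mem ha.1, by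
    rw [show u * a⁻¹ * u⁻¹ = (u * a * u⁻¹)⁻¹ by group, ha.2]⟩

theorem mem_invPart {A : Subgroup G} [IsMulCommutative A] {u x : G} :
    x ∈ invPart A u ↔ x ∈ A ∧ u * x * u⁻¹ = x⁻¹ := Iff.rfl

theorem invPart_le (A : Subgroup G) [IsMulCommutative A] (u : G) : invPart A u ≤ A := fun _ hx => hx.1

/-- An element of a subgroup of odd order is an inverted element times a fixed one. -/
theorem exists_inverted_mul [Finite G] {K : Subgroup G} (hK : Odd (Nat.card ↥K)) {u : G} (hu : u * u = 1)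
    (hn : u ∈ normalizer (K : Set G)) {k : G} (hk : k ∈ K) :
    ∃ a ∈ K, ∃ e ∈ K, u * a * u⁻¹ = a⁻¹ ∧ Commute e u ∧ k = a * e ∧
      a ∈ zpowers (k * u * k⁻¹ * u) := by
  have hui : u⁻¹ = u := inv_eq_of_mul_eq_one_right hu
  set d := k * u * k⁻¹ * u with hd
  have hdK : d ∈ K := by
    have h1 : u * k⁻¹ * u⁻¹ ∈ K := (mem_normalizer_iff.1 hn _).1 (inv_mem hk)
    rw [hui] at h1
    rw [hd, show k * u * k⁻¹ * u = k * (u * k⁻¹ * u) by group]
    exact mul_mem hk h1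
  have hinv : u * d * u⁻¹ = d⁻¹ := by
    rw [hd, hui, mul_inv_rev, mul_inv_rev, mul_inv_rev, inv_inv, hui]
    calc u * (k * u * k⁻¹ * u) * u = u * (k * u * k⁻¹) * (u * u) := by group
      _ = u * (k * (u * k⁻¹)) := by rw [hu, mul_one]; group
  obtain ⟨j, hj⟩ : Odd (orderOf d) := Odd.of_dvd_nat hK (K.orderOf_dvd_natCard hdK)
  set a := d ^ (j + 1) with ha
  have haa : a * a = d := by
    rw [ha, ← pow_add, show j + 1 + (j + 1) = orderOf d + 1 by omega, pow_succ, pow_orderOf_eq_one, one_mul]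
  have hua : u * a * u⁻¹ = a⁻¹ := by rw [ha, ← conj_pow, hinv, inv_pow]
  refine ⟨a, pow_mem hdK _, a⁻¹ * k, mul_mem (inv_mem (pow_mem hdK _)) hk, hua, ?_, by group,
    pow_mem (mem_zpowers d) _⟩
  have hau : u * a⁻¹ = a * u := by
    rw [hui] at hua
    rw [← hua, mul_assoc u a u, ← mul_assoc u u, hu, one_mul]
  calc a⁻¹ * k * u = a⁻¹ * (k * u * k⁻¹ * u) * (u⁻¹ * k) := by group
    _ = a⁻¹ * (a * a) * (u⁻¹ * k) := by rw [haa]
    _ = a * u * k := by rw [hui]; group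
    _ = u * (a⁻¹ * k) := by rw [← hau, mul_assoc]

/-- If `u` fixes every element of `A`, its commutators with the normaliser centralise `A`. -/
theorem commute_commutator_of_fixed {A : Subgroup G} {u k x : G} (hk : k ∈ normalizer (A : Set G))
    (hf : ∀ y ∈ A, u * y * u⁻¹ = y) (hx : x ∈ A) : Commute ⁅k, u⁆ x := by
  have hk' : k⁻¹ * x * k⁻¹⁻¹ ∈ A := (mem_normalizer_iff.1 (inv_mem hk) x).1 hx
  have h1 := hf _ hk'
  have h2 : u⁻¹ * x * u = x := by
    calc u⁻¹ * x * u = u⁻¹ * (u * x * u⁻¹) * u := by rw [hf x hx]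
      _ = x := by group
  show ⁅k, u⁆ * x = x * ⁅k, u⁆
  rw [commutatorElement_def]
  calc k * u * k⁻¹ * u⁻¹ * x = k * (u * (k⁻¹ * (u⁻¹ * x * u) * k⁻¹⁻¹) * u⁻¹) * k⁻¹ * (k * u * k⁻¹ * u⁻¹) := by
        group
    _ = x * (k * u * k⁻¹ * u⁻¹) := by rw [h2, h1]; group

/-- If `u` inverts every element of `A`, its commutators with the normaliser centralise `A`. -/
theorem commute_commutator_of_inverted {A : Subgroup G} {u k x : G} (hk : k ∈ normalizer (A : Set G))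
    (hf : ∀ y ∈ A, u * y * u⁻¹ = y⁻¹) (hx : x ∈ A) : Commute ⁅k, u⁆ x := by
  have hk' : k⁻¹ * x⁻¹ * k⁻¹⁻¹ ∈ A := (mem_normalizer_iff.1 (inv_mem hk) _).1 (inv_mem hx)
  have h1 := hf _ hk'
  have h2 : u⁻¹ * x * u = x⁻¹ := by
    calc u⁻¹ * x * u = u⁻¹ * (u * x⁻¹ * u⁻¹) * u := by rw [hf _ (inv_mem hx), inv_inv]
      _ = x⁻¹ := by group
  show ⁅k, u⁆ * x = x * ⁅k, u⁆
  rw [commutatorElement_def]
  calc k * u * k⁻¹ * u⁻¹ * x = k * (u * (k⁻¹ * (u⁻¹ * x * u) * k⁻¹⁻¹) * u⁻¹) * k⁻¹ * (k * u * k⁻¹ * u⁻¹) := by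
        group
    _ = x * (k * u * k⁻¹ * u⁻¹) := by rw [h2, h1]; group

/-- If `u` acts trivially on `A` modulo `B`, so do its commutators. -/
theorem commutator_mem_of_fixed {A B : Subgroup G} {u k x : G} (hkA : k ∈ normalizer (A : Set G))
    (hkB : k ∈ normalizer (B : Set G)) (huA : u ∈ normalizer (A : Set G)) (huB : u ∈ normalizer (B : Set G))
    (hf : ∀ y ∈ A, u * y * u⁻¹ * y⁻¹ ∈ B) (hx : x ∈ A) :
    ⁅k, u⁆ * x * ⁅k, u⁆⁻¹ * x⁻¹ ∈ B := by
  -- the elements acting trivially modulo `B` form a subgroup normalised by `k`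
  have hk' : k⁻¹ * x * k ∈ A := by simpa using (mem_normalizer_iff.1 (inv_mem hkA) x).1 hx
  set y := k⁻¹ * (u⁻¹ * x * u) * k with hy
  have huA' : u⁻¹ * x * u ∈ A := by simpa using (mem_normalizer_iff.1 (inv_mem huA) x).1 hx
  have hyA : y ∈ A := by simpa [hy] using (mem_normalizer_iff.1 (inv_mem hkA) _).1 huA'
  have h1 : k * (u * y * u⁻¹ * y⁻¹) * k⁻¹ ∈ B := (mem_normalizer_iff.1 hkB _).1 (hf y hyA)
  have h2 : u⁻¹ * (u * x * u⁻¹ * x⁻¹)⁻¹ * u ∈ B := by
    simpa [mul_assoc] using (mem_normalizer_iff.1 (inv_mem huB) _).1 (inv_mem (hf x hx))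
  have h3 := mul_mem h1 h2
  rw [commutatorElement_def]
  convert h3 using 1
  rw [hy]
  group

variable [Finite G]

/-- An abelian subgroup of odd order is the product of its fixed and its inverted part. -/
theorem exists_fixed_mul_invPart {A : Subgroup G} [IsMulCommutative A] (hA : Odd (Nat.card ↥A)) {u : G}
    (hu : u * u = 1) (hn : u ∈ normalizer (A : Set G)) {x : G} (hx : x ∈ A) :
    ∃ e ∈ A ⊓ centralizer ({u} : Set G), ∃ a ∈ invPart A u, e * a = x := by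
  obtain ⟨a, ha, e, he, hinv, hcomm, rfl, -⟩ := exists_inverted_mul hA hu hn hx
  exact ⟨e, ⟨he, mem_centralizer_singleton_iff.2 hcomm.eq⟩, a, ⟨ha, hinv⟩,
    congrArg Subtype.val (mul_comm' (⟨e, he⟩ : A) ⟨a, ha⟩)⟩

theorem invPart_inf_fixed {A : Subgroup G} [IsMulCommutative A] (hA : Odd (Nat.card ↥A)) {u : G} :
    invPart A u ⊓ centralizer ({u} : Set G) = ⊥ := by
  refine (eq_bot_iff_forall _).2 fun x hx => ?_
  have hcomm : Commute x u := mem_centralizer_singleton_iff.1 hx.2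
  have h1 := hx.1.2
  rw [← hcomm.eq, mul_inv_cancel_right] at h1
  exact eq_one_of_odd hA hx.1.1 (mul_eq_one_iff_eq_inv.2 h1)

end Cfsg.Agent.Invol.GW.Klein
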