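import Cfsg.Agent.Lib.Invol.GW.Klein.CoreCentral
import Cfsg.Agent.Lib.Invol.GW.Klein.Invert
import Cfsg.Agent.Lib.Invol.GW.Endgame

/-!
# Gorenstein–Walter, Klein four: the end

When no `O_l(U)` meets `R`, the involution `u` inverts the Fitting subgroup of `U`, which then contains `[U, u]`;
so `R = 1` and `U` is inverted, and the maximal centraliser gives `PSL₂(q)`.
-/

set_option autoImplicit false
set_option linter.unusedSectionVars false
set_option linter.style.haveILetI false

namespace Cfsg.Agent.Invol.GW.Klein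

open Subgroup
open scoped Pointwise commutatorElement

universe u

variable {G : Type u} [Group G]

/-- An inverting conjugation makes a subgroup abelian. -/
theorem commute_of_inverted {K : Subgroup G} {u : G} (hinv : ∀ x ∈ K, u * x * u⁻¹ = x⁻¹) {x y : G}
    (hx : x ∈ K) (hy : y ∈ K) : Commute x y := by
  have h1 := hinv _ (mul_mem hx hy)
  rw [show u * (x * y) * u⁻¹ = u * x * u⁻¹ * (u * y * u⁻¹) by group, hinv x hx, hinv y hy, ← mul_inv_rev] at h1
  exact (inv_injective h1).symm

namespace Hyp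

variable [Finite G] {V : Sylow 2 G} {t u : G} (h : Hyp V t u)
include h

/-- A subgroup of `U` meeting `R` trivially and normalised by `u` is inverted by it. -/
theorem inverted_of_inf_fixR {K : Subgroup G} (hK : K ≤ coreCent t) (hn : u ∈ normalizer (K : Set G))
    (hR : K ⊓ fixR t u = ⊥) {x : G} (hx : x ∈ K) : u * x * u⁻¹ = x⁻¹ := by
  obtain ⟨a, -, e, he, hinv, hcomm, rfl, -⟩ :=
    exists_inverted_mul (odd_of_le hK h.odd_coreCent) (h.mul_self h.hu) hn hx
  have he1 : e = 1 := mem_bot.1 (hR ▸ Subgroup.mem_inf.2 ⟨he, h.mem_fixR.2 ⟨hK he, hcomm⟩⟩)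
  rw [he1, mul_one]
  exact hinv

/-- Under `NoLinear`, if no `O_l(U)` meets `R` then `R` is trivial. -/
theorem fixR_eq_bot (hA : NoLinear V t u)
    (hZ : ∀ l : ℕ, l.Prime → opOf l (coreCent t) ⊓ fixR t u = ⊥) : fixR t u = ⊥ := by
  set U := coreCent t with hUdef
  haveI : Group.IsSolvable ↥U := h.isSolvable_coreCent
  have huY : ∀ l : ℕ, u ∈ normalizer (opOf l U : Set G) := fun l =>
    normalizer_le_normalizer_opOf l U (h.V_le_normalizer_coreCent h.hu)
  have hYinv : ∀ l : ℕ, l.Prime → ∀ x ∈ opOf l U, u * x * u⁻¹ = x⁻¹ := fun l hl x hx =>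
    h.inverted_of_inf_fixR (opOf_le l U) (huY l) (hZ l hl) hx
  set F := (Cfsg.fittingSubgroup ↥U).map U.subtype with hFdef
  have hpair : ∀ p q : ℕ, p.Prime → q.Prime → ∀ x ∈ opOf p U, ∀ y ∈ opOf q U, Commute x y := by
    intro p q hp hq x hx y hy
    by_cases hpq : p = q
    · subst hpq
      exact commute_of_inverted (hYinv p hp) hx hy
    · haveI : Fact p.Prime := ⟨hp⟩
      haveI : Fact q.Prime := ⟨hq⟩
      exact commute_of_disjoint (inf_eq_bot_of_primes hpq (isPGroup_opOf p U) (isPGroup_opOf q U)) hx hy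
        (le_normalizer_opOf q U (opOf_le p U hx)) (le_normalizer_opOf p U (opOf_le q U hy))
  have hFcomm : ∀ q : ℕ, q.Prime → ∀ y ∈ opOf q U, ∀ x ∈ F, Commute x y := by
    intro q hq y hy x hx
    have hle : F ≤ centralizer ({y} : Set G) := by
      rw [hFdef, fittingSubgroup_map_eq_iSup]
      exact iSup_le fun p z hz => mem_centralizer_singleton_iff.2 (hpair p q p.2 hq z hz y hy).eq
    exact mem_centralizer_singleton_iff.1 (hle hx)
  haveI hFab : IsMulCommutative ↥F := by
    refine ⟨⟨fun a b => Subtype.ext ?_⟩⟩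
    have hle : F ≤ centralizer ({(a : G)} : Set G) := by
      conv_lhs => rw [hFdef, fittingSubgroup_map_eq_iSup]
      exact iSup_le fun p z hz => mem_centralizer_singleton_iff.2 (hFcomm p p.2 z hz a a.2).symm.eq
    exact (mem_centralizer_singleton_iff.1 (hle b.2)).symm
  have hYF : ∀ p : Nat.Primes, opOf (p : ℕ) U ≤ F := fun p => by
    rw [hFdef, fittingSubgroup_map_eq_iSup]
    exact le_iSup (fun p : Nat.Primes => opOf (p : ℕ) U) p
  have hFinv : F ≤ invPart F u := by
    conv_lhs => rw [hFdef, fittingSubgroup_map_eq_iSup]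
    exact iSup_le fun p x hx => mem_invPart.2 ⟨hYF p hx, hYinv p p.2 x hx⟩
  -- `[U, u]` is in the Fitting subgroup
  have hN : ⁅U, zpowers u⁆ ≤ F := by
    refine commutator_le.2 fun k hk w hw => ?_
    have hw' : w = 1 ∨ w = u := by
      obtain ⟨i, rfl⟩ := Subgroup.mem_zpowers_iff.1 hw
      rcases Int.even_or_odd i with ⟨j, rfl⟩ | ⟨j, rfl⟩
      · left
        rw [zpow_add, ← (Commute.refl u).mul_zpow, h.mul_self h.hu, one_zpow]
      · right
        rw [zpow_add_one, two_mul, zpow_add, ← (Commute.refl u).mul_zpow, h.mul_self h.hu, one_zpow, one_mul]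
    rcases hw' with rfl | rfl
    · rw [commutatorElement_one_right]
      exact one_mem _
    · refine mem_fitting_of_commute ?_ fun p hp y hy =>
        commute_commutator_of_inverted (le_normalizer_opOf p U hk) (hYinv p hp) hy
      rw [commutatorElement_def, show k * w * k⁻¹ * w⁻¹ = k * (w * k⁻¹ * w⁻¹) by group]
      exact mul_mem hk ((mem_normalizer_iff.1 (h.V_le_normalizer_coreCent h.hu) _).1 (inv_mem hk))
  by_contra hne
  haveI : Nontrivial ↥(fixR t u) := (Subgroup.nontrivial_iff_ne_bot _).2 hne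
  haveI : Group.IsSolvable ↥(fixR t u) := isSolvable_of_odd h.odd_fixR
  refine hA ⁅fixR t u, fixR t u⁆ ?_ ?_ le_rfl (fun n hn => ?_) fun x hx => ?_
  · exact commutator_le.2 fun a ha b hb => by
      rw [commutatorElement_def]
      exact mul_mem (mul_mem (mul_mem ha hb) (inv_mem ha)) (inv_mem hb)
  · intro e
    refine (Group.IsSolvable.commutator_lt_top_of_nontrivial ↥(fixR t u)).ne ?_
    refine Subgroup.map_injective (fixR t u).subtype_injective ?_
    rw [_root_.commutator_def, Subgroup.map_commutator, ← MonoidHom.range_eq_map, Subgroup.range_subtype, e]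
  · rw [Grp.mem_normalizer_iff_smul, ← Grp.map_conj_eq_smul, Subgroup.map_commutator, Grp.map_conj_eq_smul,
      Grp.mem_normalizer_iff_smul.1 (h.normalizer_le_normalizer_fixR hn)]
  · have h1 := (mem_invPart.1 (hFinv (hN hx.1))).2
    rw [(h.mem_fixR.1 hx.2).2.symm.eq, mul_inv_cancel_right] at h1
    exact eq_one_of_odd h.odd_fixR hx.2 (mul_eq_one_iff_eq_inv.2 h1) ▸ one_mem _

/-- With `R` trivial and a maximal centraliser the group is `PSL₂(q)`. -/
theorem psl_of_fixR_eq_bot (hC : IsCoatom (centralizer ({t} : Set G))) (hR : fixR t u = ⊥) :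
    ∃ (F : Type) (_ : Field F) (_ : Fintype F), Odd (Fintype.card F) ∧
      Nonempty (G ≃* Matrix.ProjectiveSpecialLinearGroup (Fin 2) F) := by
  haveI := h.simple
  have hinv : ∀ x ∈ coreCent t, u * x * u⁻¹ = x⁻¹ := fun x hx =>
    h.inverted_of_inf_fixR le_rfl (h.V_le_normalizer_coreCent h.hu) (by rw [hR, inf_bot_eq]) hx
  have hiso : Nonempty (↥(V : Subgroup G) ≃* DihedralGroup 2) := by
    haveI := h.klein
    exact IsKleinFour.nonempty_mulEquiv
  refine psl_of_inverted V 2 le_rfl hiso t (h.orderOf_eq h.ht h.ht1) h.ht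
    (fun s hs => (h.comm hs h.ht).eq) (coreCent t) rfl (fun v hv hv2 hvt x hx hxv => ?_) fun Y hY hY1 => ?_
  · have hxR : x ∈ fixR t u := by
      rcases h.mem_iff.1 hv with rfl | rfl | rfl | rfl
      · rw [orderOf_one] at hv2
        omega
      · exact absurd rfl hvt
      · exact h.mem_fixR.2 ⟨hx, hxv.symm⟩
      · exact h.fixR_swap ▸ h.swap.mem_fixR.2 ⟨hx, hxv.symm⟩
    rwa [hR, mem_bot] at hxR
  · refine (h.normalizer_eq hC (hY.trans h.coreCent_le) hY1 ?_).le
    rw [h.centralizer_eq_sup]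
    refine sup_le (fun g hg => mem_normalizer_iff.2 fun x => ?_) fun v hv => ?_
    · constructor
      · intro hx
        rwa [(commute_of_inverted hinv hg (hY hx)).eq, mul_inv_cancel_right]
      · intro hx
        have h1 := commute_of_inverted hinv (inv_mem hg) (hY hx)
        have h2 : g⁻¹ * (g * x * g⁻¹) * g = g * x * g⁻¹ := by rw [h1.eq]; group
        rw [← h2] at hx
        simpa [mul_assoc] using hx
    · have hu' : u ∈ normalizer (Y : Set G) := mem_normalizer_fintype fun x hx => by
        rw [hinv x (hY hx)]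
        exact inv_mem hx
      have ht' : t ∈ normalizer (Y : Set G) := mem_normalizer_fintype fun x hx => by
        rwa [(h.commute_of_mem (hY hx)).symm.eq, mul_inv_cancel_right]
      rcases h.mem_iff.1 hv with rfl | rfl | rfl | rfl
      exacts [one_mem _, ht', hu', mul_mem ht' hu']

/-- The end of the Klein four case: when no `O_l(U)` meets `R` the group is `PSL₂(q)`. -/
theorem psl_of_inf_eq_bot (hC : IsCoatom (centralizer ({t} : Set G))) (hA : NoLinear V t u)
    (hZ : ∀ l : ℕ, l.Prime → opOf l (coreCent t) ⊓ fixR t u = ⊥) :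
    ∃ (F : Type) (_ : Field F) (_ : Fintype F), Odd (Fintype.card F) ∧
      Nonempty (G ≃* Matrix.ProjectiveSpecialLinearGroup (Fin 2) F) :=
  h.psl_of_fixR_eq_bot hC (h.fixR_eq_bot hA hZ)

end Hyp

end Cfsg.Agent.Invol.GW.Klein
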