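import Cfsg.Agent.Lib.Invol.GW.Klein.Sylow
import Cfsg.Agent.Lib.Invol.StronglyEmbedded
import Cfsg.Agent.Lib.Invol.RegularInversionFamilies
import Cfsg.Agent.Lib.Recog.SU3Sylow
import Cfsg.Agent.Lib.Classical.PSLBinary
import Cfsg.Agent.Lib.Fus.SmallSimple
import Cfsg.Agent.S0222

/-!
# Gorenstein–Walter, Klein: a proper subgroup over `C(t)` with one class of involutions

Such a subgroup is strongly embedded, so the group is `PSL₂(4) ≅ PSL₂(5)`.
-/

set_option autoImplicit false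
set_option linter.unusedSectionVars false

namespace Cfsg.Agent.Invol.GW.Klein

open Subgroup

universe u

variable {G : Type u} [Group G] [Finite G] {V : Sylow 2 G} {t u : G}

/-- Each involution of a subgroup over `V` fusing `V` is conjugate to `t` there. -/
theorem exists_conj_of_fuse (h : Hyp V t u) {M : Subgroup G} (hVM : (V : Subgroup G) ≤ M) {n : G} (hnM : n ∈ M)
    (hnt : n * t * n⁻¹ = u) (hnu : n * u * n⁻¹ = t * u) {s : G} (hs : s ∈ M) (hs2 : orderOf s = 2) :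
    ∃ g ∈ M, g * t * g⁻¹ = s := by
  haveI : Fact (Nat.Prime 2) := ⟨Nat.prime_two⟩
  have hP : IsPGroup 2 (zpowers (⟨s, hs⟩ : M)) := IsPGroup.of_card (n := 1) (by
    rw [Nat.card_zpowers, ← Subgroup.orderOf_coe, pow_one]; exact hs2)
  obtain ⟨Q, hQ⟩ := hP.exists_le_sylow
  obtain ⟨g, hg⟩ := MulAction.exists_smul_eq M Q (V.subtype hVM)
  have hmem : (g : G) * s * (g : G)⁻¹ ∈ (V : Subgroup G) := by
    have h1 : g * (⟨s, hs⟩ : M) * g⁻¹ ∈ ((g • Q : Sylow 2 M) : Subgroup M) :=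
      Grp.mem_smul_conj.2 (by simpa [mul_assoc] using hQ (mem_zpowers _))
    rw [hg] at h1
    exact h1
  have key : ∀ a ∈ M, a * t * a⁻¹ = (g : G) * s * (g : G)⁻¹ → ∃ b ∈ M, b * t * b⁻¹ = s := fun a ha e =>
    ⟨(g : G)⁻¹ * a, mul_mem (inv_mem g.2) ha, by
      calc (g : G)⁻¹ * a * t * ((g : G)⁻¹ * a)⁻¹ = (g : G)⁻¹ * (a * t * a⁻¹) * (g : G) := by group
        _ = s := by rw [e]; group⟩
  rcases h.mem_iff.1 hmem with e | e | e | e
  · rw [conj_eq_one_iff] at e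
    rw [e, orderOf_one] at hs2
    omega
  · exact key 1 (one_mem _) (by rw [e]; group)
  · exact key n hnM (by rw [e, hnt])
  · exact key (n * n) (mul_mem hnM hnM) (by
      rw [e, show n * n * t * (n * n)⁻¹ = n * (n * t * n⁻¹) * n⁻¹ by group, hnt, hnu])

theorem isStronglyEmbedded_of_fuse (h : Hyp V t u) {M : Subgroup G} (hM : M ≠ ⊤)
    (hCM : centralizer ({t} : Set G) ≤ M) (hn : ¬ ThreeClass (V : Subgroup G) M) :
    Cfsg.IsStronglyEmbedded M := by
  have hVM : (V : Subgroup G) ≤ M := h.le_centralizer.trans hCM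
  obtain ⟨n, ⟨hnM, -⟩, hnt, hnu⟩ := h.exists_fuse hVM hn
  refine (Invol.isStronglyEmbedded_iff hM
    (even_card_of_mem (h.orderOf_eq h.ht h.ht1) (hVM h.ht))).2 ?_
  intro s hs hs2 x hx
  obtain ⟨a, ha, rfl⟩ := exists_conj_of_fuse h hVM hnM hnt hnu hs hs2
  obtain ⟨b, hb, hbs⟩ := exists_conj_of_fuse h hVM hnM hnt hnu hx (by
    rw [show x⁻¹ * (a * t * a⁻¹) * x = MulAut.conj x⁻¹ (a * t * a⁻¹) by simp,
      MulEquiv.orderOf_eq]; exact hs2)
  have hc : a⁻¹ * x * b ∈ centralizer ({t} : Set G) := by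
    refine mem_centralizer_singleton_iff.2 ?_
    calc a⁻¹ * x * b * t = a⁻¹ * x * (b * t * b⁻¹) * b := by group
      _ = _ := by rw [hbs]; group
  have h1 := mul_mem (mul_mem ha (hCM hc)) (inv_mem hb)
  rwa [show a * (a⁻¹ * x * b) * b⁻¹ = x by group] at h1

theorem not_four_dvd_succ (h : Hyp V t u) {k : ℕ} (hk : 3 ≤ k) : ¬ 2 ^ k ∣ Nat.card G := fun hd => by
  haveI : Fact (Nat.Prime 2) := ⟨Nat.prime_two⟩
  have h1 := V.pow_dvd_card_of_pow_dvd_card hd
  haveI := h.klein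
  rw [IsKleinFour.card_four] at h1
  have h2 : 2 ^ 3 ≤ 2 ^ k := Nat.pow_le_pow_right two_pos hk
  have := Nat.le_of_dvd (by norm_num) h1
  omega

/-- A proper subgroup over `C(t)` with one class of involutions occurs only in `PSL₂(5)`. -/
theorem Hyp.psl_of_oneClass (h : Hyp V t u) {M : Subgroup G} (hM : M ≠ ⊤)
    (hCM : centralizer ({t} : Set G) ≤ M) (hn : ¬ ThreeClass (V : Subgroup G) M) :
    ∃ (F : Type) (_ : Field F) (_ : Fintype F), Odd (Fintype.card F) ∧ 3 < Fintype.card F ∧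
      Nonempty (G ≃* Matrix.ProjectiveSpecialLinearGroup (Fin 2) F) := by
  haveI := h.simple
  haveI : Fact (Nat.Prime 2) := ⟨Nat.prime_two⟩
  have hna : ∃ a b : G, a * b ≠ b * a := by
    obtain ⟨n, -, hnt, -⟩ := h.exists_h
    refine ⟨n, t, fun e => h.htu ?_⟩
    rw [← hnt, e, mul_inv_cancel_right]
  rcases Cfsg.Agent.S0222.result hna M (isStronglyEmbedded_of_fuse h hM hCM hn) with
    ⟨F, iF, iFt, hchar, h4, ⟨e⟩⟩ | ⟨-, m, hm, hcard⟩ | ⟨F, iF, iFt, q, hF, hev, h4, ⟨e⟩⟩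
  · haveI := hchar
    obtain ⟨k, -, hk⟩ := FiniteField.card F 2
    have hcard : Nat.card G = Fintype.card F * ((Fintype.card F - 1) * (Fintype.card F + 1)) := by
      rw [Nat.card_congr e.toEquiv, Invol.RegInv.card_PSL2]
    have hk2 : (k : ℕ) = 2 := by
      have h1 : ¬ 3 ≤ (k : ℕ) := fun h3 => not_four_dvd_succ h h3 (hcard ▸ hk ▸ dvd_mul_right _ _)
      have h2 : 2 ≤ (k : ℕ) := by
        by_contra hlt
        have := Nat.pow_le_pow_right two_pos (show (k : ℕ) ≤ 1 by omega)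
        omega
      omega
    rw [hk2] at hk
    rw [hk] at hcard
    obtain ⟨e'⟩ := Fus.alternating_five_of_card (G := G) (by rw [hcard]; norm_num)
    haveI : Fact (Nat.Prime 5) := ⟨Nat.prime_five⟩
    obtain ⟨e''⟩ := PSLBin.psl_five_iso (E := ZMod 5) (ZMod.card 5)
    exact ⟨ZMod 5, inferInstance, inferInstance, by rw [ZMod.card]; decide, by rw [ZMod.card]; norm_num,
      ⟨e'.trans e''.symm⟩⟩
  · refine absurd ?_ (not_four_dvd_succ h (k := 2 * (2 * m + 1)) (by omega))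
    rw [hcard, ← pow_mul, mul_comm (2 * m + 1) 2, mul_assoc]
    exact dvd_mul_right _ _
  · obtain ⟨p, hp⟩ := CharP.exists F
    obtain ⟨N, hpp, hN⟩ := FiniteField.card F p
    have hqd : q ∣ p ^ (N : ℕ) := ⟨q, by rw [← hN, hF, pow_two]⟩
    obtain ⟨k, -, hk⟩ := (Nat.dvd_prime_pow hpp).1 hqd
    obtain rfl : p = 2 := by
      have h2 : Even (p ^ k) := hk ▸ hev
      exact (hpp.eq_one_or_self_of_dvd 2 (Nat.prime_two.dvd_of_dvd_pow h2.two_dvd)).resolve_left (by norm_num) |>.symm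
    haveI := hp
    haveI : Fact (Fintype.card F = q ^ 2) := ⟨hF⟩
    have hk1 : 1 ≤ k := Nat.pos_of_ne_zero fun e0 => by rw [hk, e0, pow_zero] at h4; omega
    obtain ⟨e'⟩ := Recog.SU3Two.sylow_psu (F := F) hk hk1 (V.mapSurjective (f := e.toMonoidHom) e.surjective)
    refine absurd ?_ (not_four_dvd_succ h (k := k * 3) (by omega))
    rw [Nat.card_congr e.toEquiv, pow_mul, ← hk, ← Recog.SU3Two.UT.card (F := F) (q := q), Nat.card_congr e'.toEquiv]
    exact card_subgroup_dvd_card _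

end Cfsg.Agent.Invol.GW.Klein
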