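import Cfsg.Agent.Lib.Invol.GW.Klein.ThreeClassMain
import Cfsg.Agent.Lib.Invol.GW.Klein.Disjoint
import Cfsg.Agent.Lib.Invol.GW.Klein.BlocksPrincipal
import Cfsg.Agent.Lib.Invol.GW.Klein.End
import Cfsg.Agent.Lib.Invol.GW.Klein.BlocksNoLinear
import Cfsg.Agent.Lib.Invol.GW.Klein.OneClassMax
import Cfsg.Agent.Lib.Invol.GW.Induction.Main
import Cfsg.Agent.Lib.Invol.GW.Endgame
import Cfsg.Agent.S0144

/-!
# Gorenstein–Walter, Klein four: the maximal subgroups over `C(t)`

A maximal subgroup over `C(t)` either has one class of involutions or is `C(t)` itself, and then `O_l(U)` meets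
`R` trivially for every prime `l`.
-/

set_option autoImplicit false
set_option linter.unusedSectionVars false

namespace Cfsg.Agent.Invol.GW.Klein

open Subgroup

universe u

variable {G : Type u} [Group G] [Finite G]

namespace Hyp

variable {V : Sylow 2 G} {t u : G} (h : Hyp V t u)
include h

/-- A maximal subgroup over `C(t)`: one class, or the centraliser itself. -/
theorem exists_oneClass_or_isCoatom :
    (∃ M : Subgroup G, M ≠ ⊤ ∧ centralizer ({t} : Set G) ≤ M ∧ ¬ ThreeClass (V : Subgroup G) M) ∨
      IsCoatom (centralizer ({t} : Set G)) := by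
  obtain ⟨M, hM, hCM⟩ : ∃ M, IsCoatom M ∧ centralizer ({t} : Set G) ≤ M := by
    rcases eq_top_or_exists_le_coatom (centralizer ({t} : Set G)) with e | ⟨M, hM, hle⟩
    · exact absurd e h.centralizer_ne_top
    · exact ⟨M, hM, hle⟩
  by_cases hth : ThreeClass (V : Subgroup G) M
  · exact Or.inr (ThreeClass.no_threeClass_over h hM hCM hth ▸ hM)
  · exact Or.inl ⟨M, hM.1, hCM, hth⟩

/-- When `C(t)` is maximal and the blocks exclude linear characters, `O_l(U)` meets `R` trivially. -/
theorem opOf_inf_fixR_of_maximal (hC : IsCoatom (centralizer ({t} : Set G))) (hA : NoLinear V t u) (l : ℕ)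
    (hl : l.Prime) : opOf l (coreCent t) ⊓ fixR t u = ⊥ :=
  h.opOf_inf_fixR hC hA h.principal_data l hl

/-- The field of a linear group isomorphic to a simple group of even order has more than three elements. -/
theorem three_lt_card {F : Type} [Field F] [Fintype F] (hodd : Odd (Fintype.card F))
    (e : G ≃* Matrix.ProjectiveSpecialLinearGroup (Fin 2) F) : 3 < Fintype.card F := by
  haveI := h.simple
  have h1 := Fintype.one_lt_card (α := F)
  by_contra h3
  obtain ⟨k, hk⟩ := hodd
  have h3' : Fintype.card F = 3 := by omega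
  have hc := PSL.card_mul (F := F) ⟨k, hk⟩
  rw [h3', ← Nat.card_congr e.toEquiv] at hc
  have h12 : Nat.card G = 2 ^ 2 * 3 ^ 1 := by omega
  haveI : Group.IsSolvable G := Cfsg.Agent.S0144.result 2 3 2 1 Nat.prime_two Nat.prime_three h12
  letI : CommGroup G :=
    { (inferInstance : Group G) with mul_comm := IsSimpleGroup.comm_iff_isSolvable.2 inferInstance }
  have hp := IsSimpleGroup.prime_card (α := G)
  rw [h12] at hp
  exact absurd hp (by norm_num)

/-- With maximal centraliser the group is linear. -/
theorem psl_of_maximal (hC : IsCoatom (centralizer ({t} : Set G))) (hA : NoLinear V t u) :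
    IsPSLTwoOrSeven G := by
  obtain ⟨F, hF, hFf, hodd, ⟨e⟩⟩ := h.psl_of_inf_eq_bot hC hA (h.opOf_inf_fixR_of_maximal hC hA)
  exact Or.inl ⟨F, hF, hFf, hodd, h.three_lt_card hodd e, ⟨e⟩⟩

/-- With maximal centraliser the group is linear, without further hypotheses. -/
theorem psl_of_isCoatom (hC : IsCoatom (centralizer ({t} : Set G))) : IsPSLTwoOrSeven G :=
  h.psl_of_maximal hC fun K hK hne hder hNK hcap => h.no_linear K hK hne hder hNK hcap

/-- **Gorenstein–Walter, Klein four:** the group is linear. -/
theorem psl_or_seven : IsPSLTwoOrSeven G := by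
  rcases h.exists_oneClass_or_isCoatom with ⟨M, hM, hCM, hn⟩ | hC
  · exact Or.inl (h.psl_of_oneClass hM hCM hn)
  · exact h.psl_of_isCoatom hC

end Hyp

/-- The Klein four half of the Gorenstein–Walter theorem. -/
theorem kleinDone : Induction.KleinDone.{u} := fun _ _ _ h => h.psl_or_seven

end Cfsg.Agent.Invol.GW.Klein
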