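import Cfsg.Agent.Lib.Invol.GW.Klein.Sylow
import Mathlib.Algebra.IsPrimePow

/-!
# Gorenstein–Walter, Klein four: congruences and divisibility

A Sylow `l`-subgroup fixes one conjugate of `t`; the arithmetic of the order formula.
-/

set_option autoImplicit false
set_option linter.unusedSectionVars false

namespace Cfsg.Agent.Invol.GW.Klein

open Subgroup
open scoped Pointwise

universe u

variable {G : Type u} [Group G] [Finite G]

/-- A `p`-group centralised by no conjugate of `t` but `t` itself fixes one coset of the centraliser of `t`. -/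
theorem index_centralizer_modEq {l : ℕ} [Fact l.Prime] {Q : Subgroup G} (hQ : IsPGroup l Q) {t : G}
    (hQt : ∀ y ∈ Q, Commute t y)
    (huniq : ∀ g : G, (∀ y ∈ Q, Commute (g * t * g⁻¹) y) → g * t * g⁻¹ = t) :
    (centralizer ({t} : Set G)).index ≡ 1 [MOD l] := by
  set C := centralizer ({t} : Set G) with hC
  have hfix : MulAction.fixedPoints ↥Q (G ⧸ C) = {((1 : G) : G ⧸ C)} := by
    ext x
    induction x using QuotientGroup.induction_on with
    | H g =>
      simp only [MulAction.mem_fixedPoints, Set.mem_singleton_iff]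
      constructor
      · intro hx
        refine QuotientGroup.eq.2 ?_
        have hgt : g * t * g⁻¹ = t := huniq g fun y hy => by
          have h1 : ((y * g : G) : G ⧸ C) = (g : G ⧸ C) := hx ⟨y, hy⟩
          have h2 : Commute ((y * g)⁻¹ * g) t := mem_centralizer_singleton_iff.1 (QuotientGroup.eq.1 h1)
          have h3 := h2.inv_left.conj g
          rwa [show g * ((y * g)⁻¹ * g)⁻¹ * g⁻¹ = y by group, Commute, SemiconjBy, eq_comm] at h3
        rw [mul_one]
        refine inv_mem (mem_centralizer_singleton_iff.2 ?_)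
        exact mul_inv_eq_iff_eq_mul.1 hgt
      · intro hx y
        rw [hx]
        refine QuotientGroup.eq.2 ?_
        show ((y : G) * 1)⁻¹ * 1 ∈ C
        rw [mul_one, mul_one]
        exact inv_mem (mem_centralizer_singleton_iff.2 (hQt y y.2).symm.eq)
  have h1 := hQ.card_modEq_card_fixedPoints (G ⧸ C)
  rw [hfix, Nat.card_eq_fintype_card (α := ({((1 : G) : G ⧸ C)} : Set (G ⧸ C))), Set.card_singleton] at h1
  rwa [Subgroup.index]

/-- The conjugates of an element by a subgroup, counted. -/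
theorem card_conjugates_mul (K : Subgroup G) (z : G) :
    {x : G | ∃ k ∈ K, k * z * k⁻¹ = x}.ncard * Nat.card ↥(K ⊓ centralizer ({z} : Set G)) = Nat.card ↥K := by
  set N := (centralizer ({z} : Set G)).subgroupOf K with hN
  have hinj : ∀ a b : ↥K, (a : G) * z * (a : G)⁻¹ = (b : G) * z * (b : G)⁻¹ ↔ a⁻¹ * b ∈ N := fun a b => by
    rw [hN, mem_subgroupOf, mem_centralizer_singleton_iff, Subgroup.coe_mul, Subgroup.coe_inv]
    constructor
    · intro e
      calc (a : G)⁻¹ * b * z = (a : G)⁻¹ * ((b : G) * z * (b : G)⁻¹) * b := by group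
        _ = z * ((a : G)⁻¹ * b) := by rw [← e]; group
    · intro e
      calc (a : G) * z * (a : G)⁻¹ = (a : G) * (z * ((a : G)⁻¹ * b)) * (b : G)⁻¹ := by group
        _ = (b : G) * z * (b : G)⁻¹ := by rw [← e]; group
  let f : ↥K ⧸ N → {x : G | ∃ k ∈ K, k * z * k⁻¹ = x} := Quotient.lift
    (fun a => ⟨(a : G) * z * (a : G)⁻¹, a, a.2, rfl⟩)
    (fun a b hab => Subtype.ext ((hinj a b).2 (QuotientGroup.leftRel_apply.1 hab)))
  have hf : Function.Bijective f := by
    constructor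
    · intro p q e
      induction p using QuotientGroup.induction_on with
      | H a =>
        induction q using QuotientGroup.induction_on with
        | H b => exact QuotientGroup.eq.2 ((hinj a b).1 (congrArg Subtype.val e))
    · rintro ⟨x, k, hk, rfl⟩
      exact ⟨((⟨k, hk⟩ : ↥K) : ↥K ⧸ N), rfl⟩
  rw [← Nat.card_coe_set_eq, ← Nat.card_eq_of_bijective f hf, mul_comm,
    ← Nat.card_congr (subgroupOfEquivOfLe (inf_le_left : K ⊓ centralizer ({z} : Set G) ≤ K)).toEquiv,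
    inf_subgroupOf_left]
  rw [mul_comm, ← hN]
  exact (N.card_eq_card_quotient_mul_card_subgroup).symm

/-! ## Arithmetic -/

/-- The index of the centraliser of an involution from the order formula. -/
theorem index_formula {a b c m r q : ℕ} (hq : q + 1 = 4 * b ∨ q = 4 * b + 1) (hr : 0 < r) (hb : 0 < b) (hm : 0 < m)
    (hc : c = 4 * (m * b * r)) (h : 2 * (c * a) = m ^ 3 * r * q * (q * q - 1)) :
    (q + 1 = 4 * b ∧ 2 * a = m ^ 2 * q * (q - 1)) ∨ (q = 4 * b + 1 ∧ 2 * a = m ^ 2 * q * (q + 1)) := by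
  subst hc
  rcases hq with e | e
  · refine Or.inl ⟨e, ?_⟩
    have h1 : q * q - 1 = 4 * b * (q - 1) := by
      rw [← e, ← Nat.mul_self_sub_mul_self_eq, mul_one]
    rw [h1] at h
    refine Nat.eq_of_mul_eq_mul_left (show 0 < 4 * (m * b * r) by positivity) ?_
    calc 4 * (m * b * r) * (2 * a) = 2 * (4 * (m * b * r) * a) := by ring
      _ = _ := by rw [h]; ring
  · refine Or.inr ⟨e, ?_⟩
    have h1 : q * q - 1 = (q + 1) * (4 * b) := by
      rw [← mul_one 1, Nat.mul_self_sub_mul_self_eq, mul_one, show q - 1 = 4 * b by omega]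
    rw [h1] at h
    refine Nat.eq_of_mul_eq_mul_left (show 0 < 4 * (m * b * r) by positivity) ?_
    calc 4 * (m * b * r) * (2 * a) = 2 * (4 * (m * b * r) * a) := by ring
      _ = _ := by rw [h]; ring

/-- A prime dividing `b` but not `m`: the congruence forces `m * m ≡ 1`. -/
theorem sq_modEq_one {l a b m q : ℕ} (hl : l.Prime) (hl2 : l ≠ 2)
    (h : (q + 1 = 4 * b ∧ 2 * a = m ^ 2 * q * (q - 1)) ∨ (q = 4 * b + 1 ∧ 2 * a = m ^ 2 * q * (q + 1)))
    (hb : l ∣ b) (ha : a ≡ 1 [MOD l]) : m ^ 2 ≡ 1 [MOD l] := by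
  have hcast : ∀ x y : ℕ, (x : ZMod l) = (y : ZMod l) ↔ x ≡ y [MOD l] := fun x y => ZMod.natCast_eq_natCast_iff x y l
  rw [← hcast] at ha ⊢
  have hb' : ((b : ℕ) : ZMod l) = 0 := (ZMod.natCast_eq_zero_iff b l).2 hb
  haveI : Fact l.Prime := ⟨hl⟩
  have h2 : (2 : ZMod l) ≠ 0 := fun e => hl2 (by
    have h2' : l ∣ 2 := (ZMod.natCast_eq_zero_iff 2 l).1 (by simpa using e)
    exact (Nat.prime_dvd_prime_iff_eq hl Nat.prime_two).1 h2')
  rcases h with ⟨e, e'⟩ | ⟨e, e'⟩
  · have hq1 : (q : ZMod l) + 1 = 0 := by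
      have := congrArg (Nat.cast : ℕ → ZMod l) e
      push_cast at this
      rw [hb', mul_zero] at this
      exact this
    have hq : 1 ≤ q := by
      by_contra h0
      have : q = 0 := by omega
      omega
    have := congrArg (Nat.cast : ℕ → ZMod l) e'
    push_cast [Nat.cast_sub hq] at this
    rw [ha, eq_neg_of_add_eq_zero_left hq1] at this
    push_cast at this ⊢
    exact mul_left_cancel₀ h2 (by linear_combination -this)
  · have hq1 : (q : ZMod l) = 1 := by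
      have := congrArg (Nat.cast : ℕ → ZMod l) e
      push_cast at this
      rw [hb', mul_zero, zero_add] at this
      exact this
    have := congrArg (Nat.cast : ℕ → ZMod l) e'
    push_cast at this
    rw [ha, hq1] at this
    push_cast at this ⊢
    exact mul_left_cancel₀ h2 (by linear_combination -this)

/-- An odd number less than `l` whose square is one modulo the odd prime `l` is one. -/
theorem eq_one_of_sq {l m : ℕ} (hl : l.Prime) (hm : Odd m) (hml : m + 1 < l)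
    (h : m ^ 2 ≡ 1 [MOD l]) : m = 1 := by
  obtain ⟨j, rfl⟩ := hm
  have h1 : l ∣ (2 * j + 1) ^ 2 - 1 :=
    (Nat.modEq_iff_dvd' (Nat.one_le_pow _ _ (by omega))).1 h.symm
  rw [show (2 * j + 1) ^ 2 - 1 = (2 * j) * (2 * j + 2) by
    rw [show (2 * j + 1) ^ 2 = 2 * j * (2 * j + 2) + 1 by ring]; omega] at h1
  rcases (Nat.Prime.dvd_mul hl).1 h1 with h2 | h2
  · have : 2 * j = 0 := Nat.eq_zero_of_dvd_of_lt h2 (by omega)
    omega
  · have := Nat.le_of_dvd (by omega) h2
    omega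

/-- A prime power `q₀ = 4 a₀ ± 1` dividing `b q (q ± 1)` with `b = c a₀` and `q = 4 b ± 1`. -/
theorem singer_cases {q₀ a₀ c q : ℕ} (hpow : IsPrimePow q₀) (he : q₀ + 1 = 4 * a₀ ∨ q₀ = 4 * a₀ + 1)
    (hdvd : (q + 1 = 4 * (c * a₀) ∧ q₀ ∣ c * a₀ * q * (q - 1)) ∨
      (q = 4 * (c * a₀) + 1 ∧ q₀ ∣ c * a₀ * q * (q + 1))) :
    q₀ ∣ c ∨ ∃ e ε k : ℤ, (e = 1 ∨ e = -1) ∧ (ε = 1 ∨ ε = -1) ∧ (k = 1 ∨ k = 2) ∧
      4 * (a₀ : ℤ) = q₀ + e ∧ (q₀ : ℤ) ∣ c * e - k * ε := by
  obtain ⟨p, n, hp, hn, rfl⟩ := hpow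
  have hp' : p.Prime := Nat.prime_iff.2 hp
  have hpi : Prime (p : ℤ) := Nat.prime_iff_prime_int.1 hp'
  obtain ⟨e, he1, hq₀⟩ : ∃ e : ℤ, (e = 1 ∨ e = -1) ∧ 4 * (a₀ : ℤ) = ((p ^ n : ℕ) : ℤ) + e := by
    rcases he with e' | e'
    · exact ⟨1, Or.inl rfl, by omega⟩
    · exact ⟨-1, Or.inr rfl, by omega⟩
  obtain ⟨ε, hε, hq, hd⟩ : ∃ ε : ℤ, (ε = 1 ∨ ε = -1) ∧ (q : ℤ) = 4 * (c * a₀) - ε ∧
      ((p ^ n : ℕ) : ℤ) ∣ c * a₀ * q * ((q : ℤ) - ε) := by
    rcases hdvd with ⟨e', hd⟩ | ⟨e', hd⟩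
    · refine ⟨1, Or.inl rfl, by
        have := congrArg (Nat.cast : ℕ → ℤ) e'
        push_cast at this
        linarith, ?_⟩
      rcases Nat.eq_zero_or_pos q with rfl | hq
      · simp
      · have := Int.natCast_dvd_natCast.2 hd
        push_cast [Nat.cast_sub (show 1 ≤ q from hq)] at this
        simpa using this
    · refine ⟨-1, Or.inr rfl, by rw [e']; push_cast; ring, ?_⟩
      have := Int.natCast_dvd_natCast.2 hd
      push_cast at this
      simpa using this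
  set Q : ℤ := ((p ^ n : ℕ) : ℤ) with hQ
  have hQp : Q = (p : ℤ) ^ n := by rw [hQ]; push_cast; rfl
  have hpQ : (p : ℤ) ∣ Q := hQp ▸ dvd_pow_self _ hn.ne'
  have hp2 : ¬ (p : ℤ) ∣ 2 := fun h2 => by
    have h2' : p ∣ 2 := by exact_mod_cast h2
    obtain ⟨j, hj⟩ := (dvd_pow_self p hn.ne' : p ∣ p ^ n)
    rw [(Nat.prime_dvd_prime_iff_eq hp' Nat.prime_two).1 h2'] at hj
    have : (p ^ n) % 2 = 0 := by rw [(Nat.prime_dvd_prime_iff_eq hp' Nat.prime_two).1 h2', hj]; simp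
    rcases he with e' | e' <;> omega
  have hp1 : ¬ (p : ℤ) ∣ 1 := hpi.not_dvd_one
  have hpa : ¬ (p : ℤ) ∣ (a₀ : ℤ) := fun h => hp1 (by
    rcases he1 with rfl | rfl
    · simpa [hq₀] using dvd_sub (Dvd.dvd.mul_left h 4) hpQ
    · simpa [hq₀] using (dvd_sub (Dvd.dvd.mul_left h 4) hpQ).neg_right)
  -- the values of `q` and `q - ε` modulo `q₀`
  have hq1 : Q ∣ (q : ℤ) - (c * e - ε) := ⟨c, by rw [hq]; linear_combination (c : ℤ) * hq₀⟩
  have hq2 : Q ∣ ((q : ℤ) - ε) - (c * e - 2 * ε) := ⟨c, by rw [hq]; linear_combination (c : ℤ) * hq₀⟩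
  rw [hQp] at hd
  by_cases hpc : (p : ℤ) ∣ (c : ℤ)
  · left
    have hpe : ∀ k : ℤ, (k = 1 ∨ k = 2) → ∀ v : ℤ, Q ∣ v - (c * e - k * ε) → ¬ (p : ℤ) ∣ v := by
      intro k hk v hv hpv
      have h1 : (p : ℤ) ∣ k * ε := by
        have := dvd_add (dvd_sub (hpQ.trans hv) hpv) (Dvd.dvd.mul_right hpc e)
        simpa using this
      rcases hk with rfl | rfl <;> rcases hε with rfl | rfl <;> first | exact hp1 (by simpa using h1) |
        exact hp2 (by simpa using h1)
    have h1 := hpi.pow_dvd_of_dvd_mul_right n (hpe 2 (Or.inr rfl) _ hq2) hd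
    have h2 := hpi.pow_dvd_of_dvd_mul_right n (hpe 1 (Or.inl rfl) _ (by simpa using hq1)) h1
    have h3 := hpi.pow_dvd_of_dvd_mul_right n hpa h2
    exact Int.natCast_dvd_natCast.1 (by rw [← hQ, hQp]; exact h3)
  · right
    have hd' : (p : ℤ) ^ n ∣ (q : ℤ) * ((q : ℤ) - ε) := by
      refine hpi.pow_dvd_of_dvd_mul_left n hpa (hpi.pow_dvd_of_dvd_mul_left n hpc ?_)
      rwa [mul_assoc, mul_assoc] at hd
    by_cases hpq : (p : ℤ) ∣ (q : ℤ)
    · refine ⟨e, ε, 1, he1, hε, Or.inl rfl, hq₀, ?_⟩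
      have hnd : ¬ (p : ℤ) ∣ (q : ℤ) - ε := fun h => hp1 (by
        rcases hε with rfl | rfl
        · simpa using dvd_sub hpq h
        · simpa using dvd_sub h hpq)
      have h1 : Q ∣ (q : ℤ) := hQp ▸ hpi.pow_dvd_of_dvd_mul_right n hnd hd'
      simpa using dvd_sub h1 hq1
    · refine ⟨e, ε, 2, he1, hε, Or.inr rfl, hq₀, ?_⟩
      have h1 : Q ∣ (q : ℤ) - ε := hQp ▸ hpi.pow_dvd_of_dvd_mul_left n hpq hd'
      simpa using dvd_sub h1 hq2

/-- The first Singer case has no room. -/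
theorem singer_bound {q₀ a₀ d q : ℕ} (hpow : IsPrimePow q₀) (he : q₀ + 1 = 4 * a₀ ∨ q₀ = 4 * a₀ + 1)
    (hd : 3 ≤ d) (hda : d + 3 < 4 * a₀)
    (hdvd : (q + 1 = 4 * (d * a₀) ∧ q₀ ∣ d * a₀ * q * (q - 1)) ∨
      (q = 4 * (d * a₀) + 1 ∧ q₀ ∣ d * a₀ * q * (q + 1))) : False := by
  rcases singer_cases hpow he hdvd with h | ⟨e, ε, k, he1, hε, hk, hq₀, h⟩
  · have := Nat.le_of_dvd (by omega) h
    rcases he with e' | e' <;> omega
  · have hne : (d : ℤ) * e - k * ε ≠ 0 := by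
      rcases he1 with rfl | rfl <;> rcases hk with rfl | rfl <;> rcases hε with rfl | rfl <;> omega
    have hle : |(d : ℤ) * e - k * ε| ≤ d + 2 := abs_le.2 (by
      rcases he1 with rfl | rfl <;> rcases hk with rfl | rfl <;> rcases hε with rfl | rfl <;> omega)
    have h1 := (Int.le_of_dvd (abs_pos.2 hne) ((dvd_abs _ _).2 h)).trans hle
    rcases he with e' | e' <;> omega

/-- The second Singer case has no room. -/
theorem singer_bound_two {q₀ a₀ j l d q : ℕ} (hpow : IsPrimePow q₀) (he : q₀ + 1 = 4 * a₀ ∨ q₀ = 4 * a₀ + 1)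
    (ha : a₀ = j * l) (hj : 0 < j) (hl : l.Prime) (hl5 : 5 ≤ l) (hd : Odd d) (hdl : d + 2 ≤ l)
    (hdvd : (q + 1 = 4 * (d * l * a₀) ∧ q₀ ∣ d * l * a₀ * q * (q - 1)) ∨
      (q = 4 * (d * l * a₀) + 1 ∧ q₀ ∣ d * l * a₀ * q * (q + 1))) : False := by
  have hbig : l + 8 * j + 1 < 4 * (j * l) := by nlinarith
  obtain ⟨i, hi⟩ := hd
  rcases singer_cases hpow he hdvd with h | ⟨e, ε, k, he1, hε, hk, hq₀, h⟩
  · -- then the prime power is coprime to `l`
    have hcop : q₀.Coprime l := by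
      refine Nat.Coprime.symm (hl.coprime_iff_not_dvd.2 fun hlq => ?_)
      obtain ⟨w, hw⟩ := hlq
      have h1 : l ∣ 1 := by
        rcases he with e' | e'
        · exact (Nat.dvd_add_right (Dvd.intro w hw.symm)).1 ⟨4 * j, by rw [e', ha]; ring⟩
        · exact (Nat.dvd_add_right (Dvd.intro (4 * j) (by rw [ha]; ring))).1 (e' ▸ Dvd.intro w hw.symm)
      exact hl.one_lt.ne' (Nat.dvd_one.1 h1)
    have := Nat.le_of_dvd (by omega) (hcop.dvd_of_dvd_mul_right h)
    rcases he with e' | e' <;> omega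
  · have hk' : (q₀ : ℤ) ∣ (d : ℤ) - 4 * j * k * ε * 1 := by
      have h1 : (q₀ : ℤ) ∣ (4 * j) * (((d * l : ℕ) : ℤ) * e - k * ε) := Dvd.dvd.mul_left h _
      have e1 : (4 * j : ℤ) * (((d * l : ℕ) : ℤ) * e - k * ε) - ((d : ℤ) * e * q₀) =
          (d : ℤ) - 4 * j * k * ε * 1 := by
        have e2 : (4 : ℤ) * j * l = q₀ + e := by rw [← hq₀, ha]; push_cast; ring
        have e3 : e * e = 1 := by rcases he1 with rfl | rfl <;> norm_num
        push_cast
        linear_combination (d : ℤ) * e * e2 + (d : ℤ) * e3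
      exact e1 ▸ dvd_sub h1 (Dvd.intro_left _ rfl)
    have hne : (d : ℤ) - 4 * j * k * ε * 1 ≠ 0 := by
      rcases hk with rfl | rfl <;> rcases hε with rfl | rfl <;> omega
    have hle : |(d : ℤ) - 4 * j * k * ε * 1| ≤ d + 8 * j := abs_le.2 (by
      rcases hk with rfl | rfl <;> rcases hε with rfl | rfl <;> omega)
    have h1 := (Int.le_of_dvd (abs_pos.2 hne) ((dvd_abs _ _).2 hk')).trans hle
    rcases he with e' | e' <;> omega

end Cfsg.Agent.Invol.GW.Klein
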