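import Cfsg.Agent.Lib.Invol.GW.Klein.LinearPSL
import Cfsg.Agent.Lib.Char.Constituent

/-!
# Representations of `PSL₂(q)` in which an element acts nontrivially
-/

set_option autoImplicit false
set_option linter.unusedSectionVars false

namespace Cfsg.Agent.Invol.GW.Klein.PSL

open Module Representation

universe u

/-- A representation of a group isomorphic to `PSL₂(q)` moving one element has dimension at least `(q - 1) / 2`. -/
theorem finrank_ge {F : Type} [Field F] [Fintype F] (h5 : 5 ≤ Fintype.card F) {E : Type u} [Group E]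
    (e : E ≃* Matrix.ProjectiveSpecialLinearGroup (Fin 2) F) {M : Type*} [AddCommGroup M] [Module ℂ M]
    [FiniteDimensional ℂ M] (σ : Representation ℂ E M) {y : E} (hy : σ y ≠ 1) :
    Fintype.card F ≤ 2 * Module.finrank ℂ M + 1 := by
  classical
  haveI : Finite E := Finite.of_equiv _ e.symm.toEquiv
  letI : Fintype E := Fintype.ofFinite E
  have hχ : IsCharacter E σ.character := Char.isCharacter_character σ
  obtain ⟨a, ha, hdec⟩ := Char.IsChar.exists_decomp_inner hχ
  obtain ⟨ψ, hψa, hψ1⟩ : ∃ ψ : Cfsg.IrrCharacter E, a ψ ≠ 0 ∧ (ψ : E → ℂ) ≠ fun _ => 1 := by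
    by_contra hne
    push Not at hne
    refine hy ?_
    have hc : σ.character y = σ.character 1 := by
      rw [hdec, Char.sum_irr_apply, Char.sum_irr_apply]
      refine Finset.sum_congr rfl fun φ _ => ?_
      by_cases h0 : a φ = 0
      · simp [h0]
      · rw [hne φ h0]
    rw [Representation.char_one, Char.character_eq_finrank_iff] at hc
    rw [hc, Module.End.one_eq_id]
  obtain ⟨n, hn, hq⟩ := degree_ge_of_equiv h5 e ψ.2 hψ1
  have := Char.degree_le_of_constituent hχ ψ.2 (by rw [ha]; exact_mod_cast hψa)
    (Representation.char_one σ) hn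
  omega

end Cfsg.Agent.Invol.GW.Klein.PSL
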