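import Mathlib.RepresentationTheory.Basic
import Mathlib.LinearAlgebra.Trace
import Mathlib.LinearAlgebra.Eigenspace.Triangularizable
import Mathlib.RingTheory.RootsOfUnity.Complex
import Mathlib.Analysis.Complex.Polynomial.Basic

/-!
# Weights of a commuting pair shifted by a third element

If `g` fixes `y` and maps `z` to `z * y` (elements of prime order `l`) and `y` acts nontrivially, all `l` eigenspaces
of `z` carry a nontrivial action of `y`; where the traces of a four group times `⟨z⟩` do not depend on the power of `z`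
the eigenspaces other than the fixed one have dimension divisible by four.
-/

set_option autoImplicit false
set_option linter.unusedSectionVars false

namespace Cfsg.Agent.Invol.GW.Klein

open Finset Module

universe u

variable {W : Type*} [AddCommGroup W] [Module ℂ W]

/-- The eigenprojection of an operator of order dividing `l`. -/
noncomputable def eigProj (T : Module.End ℂ W) (l : ℕ) (s : ℂ) : Module.End ℂ W :=
  (l : ℂ)⁻¹ • ∑ i ∈ Finset.range l, (s⁻¹) ^ i • T ^ i

variable {T : Module.End ℂ W} {l : ℕ} {s : ℂ}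

theorem mul_eigProj (hl : 0 < l) (hT : T ^ l = 1) (hs : s ^ l = 1) :
    T * eigProj T l s = s • eigProj T l s := by
  have hs0 : s ≠ 0 := fun e => by simp [e, zero_pow hl.ne'] at hs
  have key : ∑ i ∈ Finset.range l, (s⁻¹) ^ i • T ^ (i + 1) = s • ∑ i ∈ Finset.range l, (s⁻¹) ^ i • T ^ i := by
    have h1 := Finset.sum_range_succ' (fun i => (s⁻¹) ^ i • T ^ i) l
    have h2 := Finset.sum_range_succ (fun i => (s⁻¹) ^ i • T ^ i) l
    have h3 : (s⁻¹) ^ l • T ^ l = (s⁻¹) ^ 0 • T ^ 0 := by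
      rw [hT, inv_pow, hs, inv_one, pow_zero, pow_zero]
    rw [h2, h3] at h1
    have h4 := (add_right_cancel h1)
    rw [h4, Finset.smul_sum]
    refine Finset.sum_congr rfl fun i _ => ?_
    rw [smul_smul, pow_succ (s⁻¹) i, mul_left_comm, mul_inv_cancel₀ hs0, mul_one]
  rw [eigProj, Algebra.mul_smul_comm, Finset.mul_sum, smul_comm s, ← key]
  exact congrArg _ (Finset.sum_congr rfl fun i _ => by rw [Algebra.mul_smul_comm, ← pow_succ'])

theorem pow_mul_eigProj (hl : 0 < l) (hT : T ^ l = 1) (hs : s ^ l = 1) (i : ℕ) :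
    T ^ i * eigProj T l s = s ^ i • eigProj T l s := by
  induction i with
  | zero => simp
  | succ i ih =>
    rw [pow_succ', mul_assoc, ih, Algebra.mul_smul_comm, mul_eigProj hl hT hs, smul_smul, ← pow_succ]

theorem eigProj_mul_self (hl : 0 < l) (hT : T ^ l = 1) (hs : s ^ l = 1) :
    eigProj T l s * eigProj T l s = eigProj T l s := by
  have hs0 : s ≠ 0 := fun e => by simp [e, zero_pow hl.ne'] at hs
  nth_rewrite 1 [eigProj]
  rw [Algebra.smul_mul_assoc, Finset.sum_mul, Finset.sum_congr rfl fun i _ => show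
    (s⁻¹) ^ i • T ^ i * eigProj T l s = eigProj T l s by
      rw [Algebra.smul_mul_assoc, pow_mul_eigProj hl hT hs, smul_smul, ← mul_pow, inv_mul_cancel₀ hs0,
        one_pow, one_smul],
    Finset.sum_const, Finset.card_range, ← Nat.cast_smul_eq_nsmul ℂ, smul_smul,
    inv_mul_cancel₀ (Nat.cast_ne_zero.2 hl.ne'), one_smul]

theorem eigProj_apply_of_eigen (hl : 0 < l) (hs : s ^ l = 1) {w : W} (hw : T w = s • w) :
    eigProj T l s w = w := by
  have hs0 : s ≠ 0 := fun e => by simp [e, zero_pow hl.ne'] at hs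
  have hpow : ∀ i : ℕ, (T ^ i) w = s ^ i • w := fun i => by
    induction i with
    | zero => simp
    | succ i ih => rw [pow_succ', Module.End.mul_apply, ih, map_smul, hw, smul_smul, ← pow_succ]
  simp only [eigProj, LinearMap.smul_apply, LinearMap.sum_apply, hpow, smul_smul, ← mul_pow,
    inv_mul_cancel₀ hs0, one_pow, one_smul, Finset.sum_const, Finset.card_range,
    ← Nat.cast_smul_eq_nsmul ℂ]
  rw [inv_mul_cancel₀ (Nat.cast_ne_zero.2 hl.ne'), one_smul]

theorem commute_eigProj {A : Module.End ℂ W} (h : Commute A T) (l : ℕ) (s : ℂ) : Commute A (eigProj T l s) :=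
  (Commute.sum_right _ _ _ fun i _ => (h.pow_right i).smul_right _).smul_right _

theorem sum_eigProj {ζ : ℂ} (hζ : IsPrimitiveRoot ζ l) (hl : 1 < l) :
    ∑ j ∈ Finset.range l, eigProj T l (ζ ^ j) = 1 := by
  simp only [eigProj, ← Finset.smul_sum]
  rw [Finset.sum_comm]
  simp only [← Finset.sum_smul]
  rw [Finset.sum_eq_single 0]
  · simp only [pow_zero, Finset.sum_const, Finset.card_range, nsmul_eq_mul, mul_one, smul_smul]
    rw [inv_mul_cancel₀ (Nat.cast_ne_zero.2 (by omega)), one_smul]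
  · intro i hi hi0
    have h1 : ∑ j ∈ Finset.range l, ((ζ ^ j)⁻¹) ^ i = 0 := by
      have hne : (ζ⁻¹) ^ i ≠ 1 := fun e => by
        rw [inv_pow, inv_eq_one] at e
        exact hi0 (Nat.eq_zero_of_dvd_of_lt ((hζ.pow_eq_one_iff_dvd i).1 e) (Finset.mem_range.1 hi))
      have hxl : ((ζ⁻¹) ^ i) ^ l = 1 := by
        rw [← pow_mul, mul_comm, pow_mul, inv_pow, hζ.pow_eq_one, inv_one, one_pow]
      have h2 := mul_geom_sum ((ζ⁻¹) ^ i) l
      rw [hxl, sub_self] at h2
      rw [← (mul_eq_zero.1 h2).resolve_left (sub_ne_zero.2 hne)]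
      exact Finset.sum_congr rfl fun j _ => by rw [← inv_pow, ← pow_mul, ← pow_mul, mul_comm]
    rw [h1, zero_smul]
  · intro h
    exact absurd (Finset.mem_range.2 (by omega)) h

/-- The weights bound: all eigenspaces of `z` are nontrivial for `y`, and all but one have dimension divisible by
four. -/
theorem weights_bound [FiniteDimensional ℂ W] {G : Type u} [Group G] {E : Subgroup G}
    (ρ : Representation ℂ G W) {z y g a b : G} (hl : l.Prime) (hzl : z ^ l = 1) (hyl : y ^ l = 1)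
    (hzy : Commute z y) (hgy : Commute g y) (hgz : g * z * g⁻¹ = z * y) (hy1 : ρ y ≠ 1)
    (hEz : ∀ e ∈ E, Commute e z) (hyE : y ∈ E)
    (haz : Commute a z) (hbz : Commute b z) (hab : Commute a b) (ha : a * a = 1) (hb : b * b = 1)
    {δ : G → ℂ} (htra : ∀ i : ℕ, LinearMap.trace ℂ W (ρ (a * z ^ i)) = δ a)
    (htrb : ∀ i : ℕ, LinearMap.trace ℂ W (ρ (b * z ^ i)) = δ b)
    (htrab : ∀ i : ℕ, LinearMap.trace ℂ W (ρ (a * b * z ^ i)) = δ (a * b))
    {k k' : ℕ}
    (hmin : ∀ (M : Submodule ℂ W) (σ : Representation ℂ ↥E M), σ ⟨y, hyE⟩ ≠ 1 → k ≤ Module.finrank ℂ M)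
    (hk' : ∀ n, k ≤ n → 4 ∣ n → k' ≤ n) :
    (l - 1) * k' + k ≤ Module.finrank ℂ W := by
  classical
  have hl0 : 0 < l := hl.pos
  haveI : Fact l.Prime := ⟨hl⟩
  obtain ⟨ζ, hζ⟩ : ∃ ζ : ℂ, IsPrimitiveRoot ζ l := ⟨_, Complex.isPrimitiveRoot_exp l hl0.ne'⟩
  have hζl : ∀ j : ℕ, (ζ ^ j) ^ l = 1 := fun j => by rw [← pow_mul, mul_comm, pow_mul, hζ.pow_eq_one, one_pow]
  have hT : (ρ z) ^ l = 1 := by rw [← map_pow, hzl, map_one]
  have hY : (ρ y) ^ l = 1 := by rw [← map_pow, hyl, map_one]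
  set P : ℕ → Module.End ℂ W := fun j => eigProj (ρ z) l (ζ ^ j) with hP
  have hPidem : ∀ j, P j * P j = P j := fun j => eigProj_mul_self hl0 hT (hζl j)
  have hPproj : ∀ j, LinearMap.IsProj (LinearMap.range (P j)) (P j) := fun j =>
    ⟨fun x => ⟨x, rfl⟩, fun x ⟨w, hw⟩ => by rw [← hw, ← Module.End.mul_apply, hPidem]⟩
  have htrP : ∀ j, LinearMap.trace ℂ W (P j) = (Module.finrank ℂ (LinearMap.range (P j)) : ℂ) := fun j =>
    (hPproj j).trace
  have hsum : ∑ j ∈ Finset.range l, Module.finrank ℂ (LinearMap.range (P j)) = Module.finrank ℂ W := by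
    have h1 := congrArg (LinearMap.trace ℂ W) (sum_eigProj (T := ρ z) hζ hl.one_lt)
    rw [map_sum, LinearMap.trace_one, Finset.sum_congr rfl fun j _ => htrP j] at h1
    exact_mod_cast h1
  -- an eigenvector of `y` with eigenvalue not one
  obtain ⟨i₀, hi₀, w₁, hw₁⟩ : ∃ i ∈ Finset.range l, ∃ w : W, eigProj (ρ y) l (ζ ^ i) w ≠ 0 ∧ ζ ^ i ≠ 1 := by
    by_contra hne
    push Not at hne
    refine hy1 ?_
    have hone := sum_eigProj (T := ρ y) hζ hl.one_lt
    have hmul : ρ y * 1 = ρ y * ∑ j ∈ Finset.range l, eigProj (ρ y) l (ζ ^ j) := by rw [hone]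
    rw [mul_one, Finset.mul_sum] at hmul
    rw [hmul]
    conv_rhs => rw [← hone]
    refine Finset.sum_congr rfl fun j hj => ?_
    rw [mul_eigProj hl0 hY (hζl j)]
    refine LinearMap.ext fun w => ?_
    by_cases h0 : eigProj (ρ y) l (ζ ^ j) w = 0
    · simp [h0]
    · rw [LinearMap.smul_apply, hne j hj w h0, one_smul]
  set ω := ζ ^ i₀ with hω
  set w₂ := eigProj (ρ y) l ω w₁
  have hw₂ : ρ y w₂ = ω • w₂ := by
    rw [← Module.End.mul_apply, mul_eigProj hl0 hY (hζl i₀), LinearMap.smul_apply]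
  -- project to an eigenspace of `z`
  obtain ⟨j₀, hj₀, hne₀⟩ : ∃ j ∈ Finset.range l, P j w₂ ≠ 0 := by
    by_contra hne
    push Not at hne
    have h1 := congrArg (fun A : Module.End ℂ W => A w₂) (sum_eigProj (T := ρ z) hζ hl.one_lt)
    simp only [LinearMap.sum_apply, Module.End.one_apply] at h1
    rw [Finset.sum_eq_zero hne] at h1
    exact hw₁.1 h1.symm
  set w := P j₀ w₂
  have hyz : Commute (ρ y) (ρ z) := hzy.symm.map ρ
  have hwy : ρ y w = ω • w := by
    rw [← Module.End.mul_apply, (commute_eigProj hyz l _).eq, Module.End.mul_apply, hw₂, map_smul]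
  have hwz : ρ z w = ζ ^ j₀ • w := by
    rw [← Module.End.mul_apply, mul_eigProj hl0 hT (hζl j₀), LinearMap.smul_apply]
  -- shifting by `g`
  have hgz' : z * g = g * (z * y⁻¹) := by
    have h1 : g * z = z * y * g := by rw [← hgz]; group
    have h2 : z * y * g = z * g * y := by rw [mul_assoc, ← hgy.eq, ← mul_assoc]
    calc z * g = z * g * y * y⁻¹ := by group
      _ = g * (z * y⁻¹) := by rw [← h2, ← h1]; group
  have hω0 : ω ≠ 0 := pow_ne_zero _ (hζ.ne_zero hl0.ne')
  have hyinv : ∀ v : W, ρ y v = ω • v → ρ y⁻¹ v = ω⁻¹ • v := fun v hv => by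
    have h1 : ρ y⁻¹ (ρ y v) = v := by
      rw [← Module.End.mul_apply, ← map_mul, inv_mul_cancel, map_one, Module.End.one_apply]
    rw [hv, map_smul] at h1
    rw [eq_inv_smul_iff₀ hω0, h1]
  have hshift : ∀ i : ℕ, ρ y ((ρ g ^ i) w) = ω • (ρ g ^ i) w ∧
      ρ z ((ρ g ^ i) w) = (ζ ^ j₀ * (ω⁻¹) ^ i) • (ρ g ^ i) w ∧ (ρ g ^ i) w ≠ 0 := by
    intro i
    induction i with
    | zero => exact ⟨by simpa using hwy, by simpa using hwz, by simpa using hne₀⟩
    | succ i ih =>
      obtain ⟨h1, h2, h3⟩ := ih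
      rw [pow_succ', Module.End.mul_apply]
      refine ⟨?_, ?_, fun e => h3 ?_⟩
      · rw [← Module.End.mul_apply, ← map_mul, hgy.symm.eq, map_mul, Module.End.mul_apply, h1, map_smul]
      · rw [← Module.End.mul_apply, ← map_mul, hgz', map_mul, map_mul, Module.End.mul_apply,
          Module.End.mul_apply, hyinv _ h1, map_smul, h2, smul_smul, map_smul, pow_succ]
        congr 1
        ring
      · have h4 := congrArg (ρ g⁻¹) e
        rwa [← Module.End.mul_apply, ← map_mul, inv_mul_cancel, map_one, Module.End.one_apply, map_zero] at h4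
  have hω1 : IsPrimitiveRoot (ω⁻¹) l :=
    (hζ.pow_of_coprime i₀ ((hl.coprime_iff_not_dvd.2 fun hd =>
      hw₁.2 ((hζ.pow_eq_one_iff_dvd i₀).2 hd)).symm)).inv
  have hnontriv : ∀ j, ∃ v : W, P j v = v ∧ ρ y v ≠ v := by
    intro j
    haveI : NeZero l := ⟨hl0.ne'⟩
    obtain ⟨i, -, hi⟩ := hω1.eq_pow_of_pow_eq_one (ξ := ζ ^ j * (ζ ^ j₀)⁻¹) (by
      rw [mul_pow, inv_pow, hζl, hζl, inv_one, mul_one])
    obtain ⟨h1, h2, h3⟩ := hshift i
    refine ⟨(ρ g ^ i) w, eigProj_apply_of_eigen hl0 (hζl j) ?_, fun e => ?_⟩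
    · rw [h2, hi, mul_comm, mul_assoc, inv_mul_cancel₀ (pow_ne_zero _ (hζ.ne_zero hl0.ne')), mul_one]
    · rw [h1] at e
      exact h3 ((smul_eq_zero.1 (show (ω - 1) • (ρ g ^ i) w = 0 by
        rw [sub_smul, one_smul, e, sub_self])).resolve_left (sub_ne_zero.2 hw₁.2))
  -- the lower bound on each eigenspace
  have hk : ∀ j, k ≤ Module.finrank ℂ (LinearMap.range (P j)) := by
    intro j
    have hinv : ∀ (e : ↥E) (x : W), x ∈ LinearMap.range (P j) → ρ e x ∈ LinearMap.range (P j) := by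
      rintro e x ⟨v, rfl⟩
      refine ⟨ρ e v, ?_⟩
      rw [← Module.End.mul_apply, ← Module.End.mul_apply,
        (commute_eigProj ((hEz e e.2).map ρ) l _).eq]
    let σ : Representation ℂ ↥E ↥(LinearMap.range (P j)) :=
      { toFun := fun e => (ρ e).restrict (hinv e)
        map_one' := LinearMap.ext fun x => Subtype.ext (by simp)
        map_mul' := fun e e' => LinearMap.ext fun x => Subtype.ext (by simp) }
    refine hmin _ σ fun e => ?_
    obtain ⟨v, hv1, hv2⟩ := hnontriv j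
    have := congrArg Subtype.val (LinearMap.congr_fun e ⟨v, v, hv1⟩)
    exact hv2 this
  -- divisibility by four away from the fixed space
  have hfour : ∀ j ∈ Finset.range l, j ≠ 0 → 4 ∣ Module.finrank ℂ (LinearMap.range (P j)) := by
    intro j hj hj0
    set Q : Module.End ℂ W := (4 : ℂ)⁻¹ • (1 + ρ a + ρ b + ρ (a * b)) with hQ
    have hQQ : Q * Q = Q := by
      have e1 : ρ a * ρ a = 1 := by rw [← map_mul, ha, map_one]
      have e2 : ρ b * ρ b = 1 := by rw [← map_mul, hb, map_one]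
      have e3 : ρ b * ρ a = ρ a * ρ b := (hab.symm.map ρ).eq
      have hfac : 1 + ρ a + ρ b + ρ (a * b) = (1 + ρ a) * (1 + ρ b) := by
        rw [map_mul, add_mul, one_mul, mul_add, mul_one]
        abel
      have hsq : ∀ A : Module.End ℂ W, A * A = 1 → (1 + A) * (1 + A) = (2 : ℂ) • (1 + A) := fun A hA => by
        rw [add_mul, one_mul, mul_add, mul_one, hA, two_smul]
        abel
      have hS : (1 + ρ a + ρ b + ρ (a * b)) * (1 + ρ a + ρ b + ρ (a * b)) =
          (4 : ℂ) • (1 + ρ a + ρ b + ρ (a * b)) := by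
        have hc : Commute (1 + ρ b) (1 + ρ a) :=
          ((Commute.one_right _).add_right ((Commute.one_left _).add_left (hab.symm.map ρ)))
        rw [hfac, mul_assoc, ← mul_assoc (1 + ρ b), hc.eq, mul_assoc, hsq _ e2, ← mul_assoc, hsq _ e1,
          Algebra.smul_mul_assoc, Algebra.mul_smul_comm, smul_smul]
        norm_num
      rw [hQ, Algebra.smul_mul_assoc, Algebra.mul_smul_comm, hS, smul_smul, smul_smul,
        inv_mul_cancel_right₀ (by norm_num : (4 : ℂ) ≠ 0)]
    have hQP : Commute Q (P j) := by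
      have hab' : Commute (ρ (a * b)) (ρ z) := (haz.mul_left hbz).map ρ
      exact ((((Commute.one_left _).add_left (commute_eigProj (haz.map ρ) l _)).add_left
        (commute_eigProj (hbz.map ρ) l _)).add_left (commute_eigProj hab' l _)).smul_left _
    have hproj : LinearMap.IsProj (LinearMap.range (Q * P j)) (Q * P j) := by
      refine ⟨fun x => ⟨x, rfl⟩, fun x ⟨v, hv⟩ => ?_⟩
      rw [← hv, ← Module.End.mul_apply]
      congr 1
      calc Q * P j * (Q * P j) = Q * (P j * Q) * P j := by simp only [mul_assoc]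
        _ = Q * (Q * P j) * P j := by rw [hQP.eq]
        _ = Q * Q * (P j * P j) := by simp only [mul_assoc]
        _ = Q * P j := by rw [hQQ, hPidem]
    have h0 : ∀ x : G, (∀ i : ℕ, LinearMap.trace ℂ W (ρ (x * z ^ i)) = δ x) →
        LinearMap.trace ℂ W (ρ x * P j) = 0 := by
      intro x hx
      have hne : (ζ ^ j)⁻¹ ≠ 1 := fun e => hj0 (Nat.eq_zero_of_dvd_of_lt
        ((hζ.pow_eq_one_iff_dvd j).1 (inv_eq_one.1 e)) (Finset.mem_range.1 hj))
      have hgeom : ∑ i ∈ Finset.range l, ((ζ ^ j)⁻¹) ^ i = 0 := by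
        have h2 := mul_geom_sum ((ζ ^ j)⁻¹) l
        rw [inv_pow, hζl, inv_one, sub_self] at h2
        exact (mul_eq_zero.1 h2).resolve_left (sub_ne_zero.2 hne)
      have hexp : ρ x * P j = (l : ℂ)⁻¹ • ∑ i ∈ Finset.range l, ((ζ ^ j)⁻¹) ^ i • ρ (x * z ^ i) := by
        simp only [hP, eigProj, Algebra.mul_smul_comm, Finset.mul_sum]
        exact congrArg _ (Finset.sum_congr rfl fun i _ => by rw [map_mul, map_pow])
      rw [hexp, map_smul, map_sum]
      simp only [map_smul, hx, smul_eq_mul]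
      rw [← Finset.sum_mul, hgeom, zero_mul, mul_zero]
    have hQPtr : LinearMap.trace ℂ W (Q * P j) = (4 : ℂ)⁻¹ * LinearMap.trace ℂ W (P j) := by
      rw [hQ, Algebra.smul_mul_assoc, map_smul, add_mul, add_mul, add_mul, one_mul, map_add, map_add,
        map_add, h0 a htra, h0 b htrb, h0 (a * b) htrab, add_zero, add_zero, add_zero, smul_eq_mul]
    rw [hproj.trace, htrP] at hQPtr
    refine ⟨Module.finrank ℂ (LinearMap.range (Q * P j)), ?_⟩
    have h4 : ((Module.finrank ℂ (LinearMap.range (P j)) : ℕ) : ℂ) =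
        ((4 * Module.finrank ℂ (LinearMap.range (Q * P j)) : ℕ) : ℂ) := by
      push_cast
      rw [hQPtr, mul_inv_cancel_left₀ (by norm_num : (4 : ℂ) ≠ 0)]
    exact_mod_cast h4
  rw [← hsum, Finset.range_eq_Ico, Finset.sum_eq_sum_Ico_succ_bot hl0, add_comm]
  refine add_le_add (hk 0) ?_
  refine le_of_eq_of_le ?_ (Finset.card_nsmul_le_sum (Finset.Ico (0 + 1) l) _ k' fun j hj => ?_)
  · rw [Nat.card_Ico, smul_eq_mul]
  · have hj' := Finset.mem_Ico.1 hj
    exact hk' _ (hk j) (hfour j (Finset.mem_range.2 hj'.2) (by omega))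

end Cfsg.Agent.Invol.GW.Klein
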