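import Cfsg.Agent.Lib.Invol.GW.Klein.Central
import Cfsg.Agent.Lib.Invol.GW.Klein.Invert
import Cfsg.Agent.Lib.Invol.GW.Klein.Count
import Cfsg.Agent.Lib.Invol.GW.Klein.Weights
import Cfsg.Agent.Lib.Invol.GW.Klein.LinearRep
import Cfsg.Prelude.Def_Blocks

/-!
# Gorenstein–Walter, Klein four: a prime `l` with `O_l(U) ⊓ R` nontrivial

`Ctx` gathers what is known: the block data, the data of the centralisers of elements of order `l`.  Here are the
arithmetic consequences, the lemma that `[U, u]` centralises no such element, and the weight argument.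
-/

set_option autoImplicit false
set_option linter.unusedSectionVars false

namespace Cfsg.Agent.Invol.GW.Klein

open Subgroup
open scoped Pointwise commutatorElement

universe u

variable {G : Type u} [Group G] [Finite G]

/-- The principal block data: the order formula and a character of small degree constant on each `v O(C(v))`. -/
def BlockData (V : Sylow 2 G) (t u : G) : Prop :=
  ∃ m b q : ℕ, Odd m ∧ Odd b ∧ (q + 1 = 4 * b ∨ q = 4 * b + 1) ∧
    Nat.card ↥(coreCent t) = m * b * Nat.card ↥(fixR t u) ∧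
    2 * Nat.card G = m ^ 3 * Nat.card ↥(fixR t u) * q * (q * q - 1) ∧
    ∃ χ : Cfsg.IrrCharacter G, (χ : G → ℂ) ≠ (fun _ => 1) ∧ Cfsg.charDegree (χ : G → ℂ) ≤ 2 * b + 1 ∧
      ∃ δ : ℤ, (δ = 1 ∨ δ = -1) ∧ ∀ v ∈ (V : Subgroup G), v ≠ 1 → ∀ x ∈ coreCent v, (χ : G → ℂ) (v * x) = δ

/-- What a centraliser `H` of linear kind with core in `R` gives: a subgroup `PSL₂(q₀)` containing the inverted
part `D` of `U ⊓ H`, cyclic of order `a₀`. -/
def CentralData (t u : G) (H : Subgroup G) : Prop :=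
  ∃ (F : Type) (_ : Field F) (_ : Fintype F) (E : Subgroup G) (a₀ : ℕ),
    5 ≤ Fintype.card F ∧ (Fintype.card F + 1 = 4 * a₀ ∨ Fintype.card F = 4 * a₀ + 1) ∧
    Nonempty (↥E ≃* Matrix.ProjectiveSpecialLinearGroup (Fin 2) F) ∧ E ≤ H ∧
    ⁅coreCent t ⊓ H, zpowers u⁆ ≤ E ∧ IsCyclic ↥⁅coreCent t ⊓ H, zpowers u⁆ ∧
    Nat.card ↥⁅coreCent t ⊓ H, zpowers u⁆ = a₀ ∧
    Nat.card ↥(coreCent t ⊓ H) = a₀ * Nat.card ↥(fixR t u ⊓ H) ∧
    Fintype.card F * Nat.card ↥(fixR t u ⊓ H) ∣ Nat.card ↥H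

/-- The situation at a prime `l` with `O_l(U) ⊓ R` nontrivial. -/
structure Ctx (V : Sylow 2 G) (t u : G) (l : ℕ) : Prop where
  hyp : Hyp V t u
  hC : IsCoatom (centralizer ({t} : Set G))
  hA : NoLinear V t u
  block : BlockData V t u
  prime : l.Prime
  hZ : opOf l (coreCent t) ⊓ fixR t u ≠ ⊥
  data : ∀ z ∈ fixR t u, z ∈ opOf l (coreCent t) → orderOf z = l →
    CentralData t u (centralizer ({z} : Set G))

/-- A cyclic group has at most one subgroup of prime order. -/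
theorem mem_zpowers_of_isCyclic {D : Subgroup G} [IsCyclic ↥D] {l : ℕ} [Fact l.Prime] {x y : G} (hx : x ∈ D)
    (hy : y ∈ D) (hxl : x ^ l = 1) (hx1 : x ≠ 1) (hyl : y ^ l = 1) : y ∈ zpowers x := by
  classical
  haveI : Fintype ↥D := Fintype.ofFinite _
  set S : Finset ↥D := Finset.univ.filter fun a => a ^ l = 1 with hS
  have hle : S.card ≤ l := IsCyclic.card_pow_eq_one_le (Fact.out : l.Prime).pos
  set T : Finset ↥D := (Finset.range l).image fun i => (⟨x, hx⟩ : ↥D) ^ i with hT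
  have hox : orderOf (⟨x, hx⟩ : ↥D) = l := by rw [Subgroup.orderOf_mk]; exact orderOf_eq_prime hxl hx1
  have hTc : T.card = l := by
    rw [hT, Finset.card_image_of_injOn, Finset.card_range]
    intro i hi j hj hij
    rw [← hox] at hi hj
    exact pow_injOn_Iio_orderOf (by simpa using hi) (by simpa using hj) hij
  have hTS : T ⊆ S := fun a ha => by
    obtain ⟨i, -, rfl⟩ := Finset.mem_image.1 ha
    refine Finset.mem_filter.2 ⟨Finset.mem_univ _, Subtype.ext ?_⟩
    show (x ^ i) ^ l = 1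
    rw [← pow_mul, mul_comm, pow_mul, hxl, one_pow]
  have hST := Finset.eq_of_subset_of_card_le hTS (by rw [hTc]; exact hle)
  have hmem : (⟨y, hy⟩ : ↥D) ∈ T := hST ▸ Finset.mem_filter.2 ⟨Finset.mem_univ _, Subtype.ext hyl⟩
  obtain ⟨i, -, hi⟩ := Finset.mem_image.1 hmem
  exact ⟨i, by simpa using congrArg Subtype.val hi⟩

namespace Hyp

variable {V : Sylow 2 G} {t u : G} (h : Hyp V t u)
include h

theorem zpowers_le_normalizer_inf {H : Subgroup G} (hVH : (V : Subgroup G) ≤ H) :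
    zpowers u ≤ normalizer ((coreCent t ⊓ H : Subgroup G) : Set G) := zpowers_le.2 <| by
  rw [Grp.mem_normalizer_iff_smul, Subgroup.smul_inf,
    Grp.mem_normalizer_iff_smul.1 (h.V_le_normalizer_coreCent h.hu), Grp.conj_smul_eq_self_of_mem (hVH h.hu)]

theorem coprime_zpowers {K : Subgroup G} (hK : Odd (Nat.card ↥K)) :
    (Nat.card ↥(zpowers u)).Coprime (Nat.card ↥K) := by
  rw [Nat.card_zpowers, h.orderOf_eq h.hu h.hu1]
  exact Nat.coprime_two_left.2 hK

/-- An element of odd order inverted by `u` is a commutator with `u`. -/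
theorem mem_commutator_of_inverted {K : Subgroup G} {x : G} (hx : x ∈ K) (ho : Odd (orderOf x))
    (hinv : u * x * u⁻¹ = x⁻¹) : x ∈ ⁅K, zpowers u⁆ := by
  have h1 : x * x ∈ ⁅K, zpowers u⁆ := by
    have := commutator_mem_commutator hx (mem_zpowers u)
    rwa [commutatorElement_def, show x * u * x⁻¹ * u⁻¹ = x * (u * x * u⁻¹)⁻¹ by group, hinv, inv_inv] at this
  obtain ⟨k, hk⟩ := ho
  have h3 : (x * x) ^ (k + 1) = x := by
    rw [← pow_two, ← pow_mul, show 2 * (k + 1) = orderOf x + 1 by omega, pow_succ, pow_orderOf_eq_one, one_mul]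
  exact h3 ▸ pow_mem h1 _

/-- An abelian commutator with `u` has no nontrivial fixed point of `u`. -/
theorem commutator_inf_fixed {K : Subgroup G} (hK : Odd (Nat.card ↥K))
    (hn : zpowers u ≤ normalizer (K : Set G)) [IsMulCommutative ↥⁅K, zpowers u⁆] {x : G}
    (hx : x ∈ ⁅K, zpowers u⁆) (hxu : Commute x u) : x = 1 := by
  have hle := Grp.commutator_le_left_of_le_normalizer hn
  have hodd : Odd (Nat.card ↥⁅K, zpowers u⁆) := odd_of_le hle hK
  have h1 := Grp.abelian_commutator_inf_fixed (zpowers u) ⁅K, zpowers u⁆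
    (Grp.right_le_normalizer_commutator _ _) (h.coprime_zpowers hodd)
  rw [Grp.commutator_commutator_eq (zpowers u) K hn (h.coprime_zpowers hK)
    (Or.inr (isSolvable_of_odd hK))] at h1
  refine mem_bot.1 (h1 ▸ Subgroup.mem_inf.2 ⟨Subgroup.mem_inf.2 ⟨hx, ?_⟩, hx⟩)
  rw [← Grp.centralizer_singleton_eq_zpowers]
  exact mem_centralizer_singleton_iff.2 hxu.eq

end Hyp

namespace Ctx

variable {V : Sylow 2 G} {t u : G} {l : ℕ} (c : Ctx V t u l)
include c

theorem fact_prime : Fact l.Prime := ⟨c.prime⟩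

theorem card_centralizer :
    Nat.card ↥(centralizer ({t} : Set G)) = 4 * Nat.card ↥(coreCent t) := by
  rw [c.hyp.centralizer_eq_sup, sup_comm, Grp.card_sup_coprime c.hyp.V_le_normalizer_coreCent
    (c.hyp.coprime_V c.hyp.odd_coreCent), c.hyp.card_V]

theorem opOf_ne_bot : opOf l (coreCent t) ≠ ⊥ := fun e => c.hZ (by rw [e, bot_inf_eq])

theorem dvd_fixR : l ∣ Nat.card ↥(fixR t u) := by
  haveI := c.fact_prime
  obtain ⟨k, hk⟩ := IsPGroup.iff_card.1 ((isPGroup_opOf l (coreCent t)).to_le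
    (inf_le_left : opOf l (coreCent t) ⊓ fixR t u ≤ _))
  rcases Nat.eq_zero_or_pos k with rfl | hk0
  · exact absurd (Subgroup.card_eq_one.1 (by rw [hk, pow_zero])) c.hZ
  · exact (dvd_pow_self l hk0.ne').trans (hk ▸ card_dvd_of_le inf_le_right)

theorem odd_prime : Odd l := Odd.of_dvd_nat c.hyp.odd_fixR c.dvd_fixR

theorem three_le : 3 ≤ l := by
  have h1 := c.prime.two_le
  obtain ⟨k, hk⟩ := c.odd_prime
  omega

theorem exists_mem_Z : ∃ z ∈ fixR t u, z ∈ opOf l (coreCent t) ∧ orderOf z = l := by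
  haveI := c.fact_prime
  haveI : Nontrivial ↥(opOf l (coreCent t) ⊓ fixR t u) := (Subgroup.nontrivial_iff_ne_bot _).2 c.hZ
  obtain ⟨k, hk⟩ := IsPGroup.iff_card.1 ((isPGroup_opOf l (coreCent t)).to_le
    (inf_le_left : opOf l (coreCent t) ⊓ fixR t u ≤ _))
  have hk0 : k ≠ 0 := fun e => c.hZ (Subgroup.card_eq_one.1 (by rw [hk, e, pow_zero]))
  obtain ⟨z, hz⟩ := exists_prime_orderOf_dvd_card' (G := ↥(opOf l (coreCent t) ⊓ fixR t u)) l
    (hk ▸ dvd_pow_self l hk0)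
  exact ⟨z, z.2.2, z.2.1, by rw [Subgroup.orderOf_coe, hz]⟩

/-- An invariant Sylow subgroup of `U`, outside `R`. -/
theorem exists_sylow_U : ∃ Q : Subgroup G, Grp.IsSylowIn l Q (coreCent t) ∧
    (V : Subgroup G) ≤ normalizer (Q : Set G) ∧ ¬ Q ≤ fixR t u := by
  haveI := c.fact_prime
  obtain ⟨Q, hQ, hQV⟩ := Grp.exists_invariant_sylow (V : Subgroup G) (coreCent t)
    c.hyp.V_le_normalizer_coreCent (c.hyp.coprime_V c.hyp.odd_coreCent) (Or.inr c.hyp.isSolvable_coreCent) l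
  exact ⟨Q, hQ, hQV, c.hyp.not_le_fixR c.hA c.dvd_fixR hQ⟩

theorem index_modEq : (centralizer ({t} : Set G)).index ≡ 1 [MOD l] := by
  haveI := c.fact_prime
  obtain ⟨Q, hQ, hQV, hQR⟩ := c.exists_sylow_U
  refine index_centralizer_modEq hQ.2.1 (fun y hy => (c.hyp.commute_of_mem (hQ.1 hy)).symm) fun g hg => ?_
  refine c.hyp.eq_of_centralizes c.hC c.opOf_ne_bot hQ hQV hQR ?_ hg
  rw [show orderOf (g * t * g⁻¹) = orderOf t from MulEquiv.orderOf_eq (MulAut.conj g) t,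
    c.hyp.orderOf_eq c.hyp.ht c.hyp.ht1]

/-- The order formula at `l`: `l ∣ b`, `l` prime to `m`, `m² ≡ 1`. -/
theorem arith {m b q : ℕ} (hm : Odd m) (hb : Odd b) (hq : q + 1 = 4 * b ∨ q = 4 * b + 1)
    (hU : Nat.card ↥(coreCent t) = m * b * Nat.card ↥(fixR t u))
    (hG : 2 * Nat.card G = m ^ 3 * Nat.card ↥(fixR t u) * q * (q * q - 1)) :
    l ∣ b ∧ m ^ 2 ≡ 1 [MOD l] := by
  haveI := c.fact_prime
  set a := (centralizer ({t} : Set G)).index with ha
  have hidx : Nat.card ↥(centralizer ({t} : Set G)) * a = Nat.card G := Subgroup.card_mul_index _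
  have hform := index_formula (a := a) (m := m) (b := b) (r := Nat.card ↥(fixR t u)) hq Nat.card_pos (by obtain ⟨j, rfl⟩ := hb; omega)
    (by obtain ⟨j, rfl⟩ := hm; omega) (c.card_centralizer.trans (by rw [hU])) (by rw [hidx, hG])
  have hla : ¬ l ∣ a := fun hd => by
    have h1 : l ∣ 1 := ((c.index_modEq).dvd_iff dvd_rfl).1 hd
    exact c.prime.one_lt.ne' (Nat.dvd_one.1 h1)
  have h2 : ¬ l ∣ 2 := fun hd => by
    have := Nat.le_of_dvd two_pos hd
    have := c.three_le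
    omega
  have hlm : ¬ l ∣ m := fun hd => by
    have h1 : l ∣ 2 * a := by
      rcases hform with ⟨-, e⟩ | ⟨-, e⟩ <;> rw [e] <;>
        exact Dvd.dvd.mul_right (Dvd.dvd.mul_right (Dvd.dvd.pow hd two_ne_zero) _) _
    exact ((c.prime.dvd_mul).1 h1).elim h2 hla
  have hlmb : l ∣ m * b := by
    by_contra hnd
    -- otherwise a Sylow subgroup of `R` is one of `U`
    obtain ⟨P, hP⟩ := Grp.exists_isSylowIn l (fixR t u)
    refine c.hyp.not_le_fixR c.hA c.dvd_fixR (Q := P) ⟨hP.1.trans inf_le_left, hP.2.1, fun hd => ?_⟩ hP.1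
    have h3 : P.relIndex (coreCent t) = P.relIndex (fixR t u) * (fixR t u).relIndex (coreCent t) :=
      (Subgroup.relIndex_mul_relIndex _ _ _ hP.1 inf_le_left).symm
    have h4 : (fixR t u).relIndex (coreCent t) = m * b := by
      refine Nat.eq_of_mul_eq_mul_left (Nat.card_pos (α := ↥(fixR t u))) ?_
      have h5 := Subgroup.relIndex_mul_relIndex _ _ _ bot_le (inf_le_left : fixR t u ≤ coreCent t)
      rw [Subgroup.relIndex_bot_left, Subgroup.relIndex_bot_left] at h5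
      exact h5.trans (hU.trans (mul_comm _ _))
    rw [h3, h4] at hd
    exact ((c.prime.dvd_mul).1 hd).elim hP.2.2 hnd
  have hlb : l ∣ b := ((c.prime.dvd_mul).1 hlmb).resolve_left hlm
  exact ⟨hlb, sq_modEq_one c.prime (fun e => h2 (e ▸ dvd_rfl)) hform hlb c.index_modEq⟩

/-- `[U, u]` centralises no element of order `l` of `O_l(U) ⊓ R`. -/
theorem not_commutator_le {z : G} (hzY : z ∈ opOf l (coreCent t)) (hz : z ∈ fixR t u) (ho : orderOf z = l) :
    ¬ ⁅coreCent t, zpowers u⁆ ≤ centralizer ({z} : Set G) := by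
  intro hle
  haveI := c.fact_prime
  obtain ⟨F, _, _, E, a₀, -, -, -, -, -, hcyc, -, -, -⟩ := c.data z hz hzY ho
  set H := centralizer ({z} : Set G)
  have hVH := c.hyp.V_le_centralizer hz
  have hnU : zpowers u ≤ normalizer (coreCent t : Set G) :=
    zpowers_le.2 (c.hyp.V_le_normalizer_coreCent c.hyp.hu)
  have hN : ⁅coreCent t, zpowers u⁆ ≤ ⁅coreCent t ⊓ H, zpowers u⁆ := by
    rw [← Grp.commutator_commutator_eq (zpowers u) (coreCent t) hnU (c.hyp.coprime_zpowers c.hyp.odd_coreCent)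
      (Or.inr c.hyp.isSolvable_coreCent)]
    exact Subgroup.commutator_mono (le_inf (Grp.commutator_le_left_of_le_normalizer hnU) hle) le_rfl
  haveI : IsMulCommutative ↥⁅coreCent t ⊓ H, zpowers u⁆ :=
    IsCyclic.commutative
  haveI : Group.IsSolvable ↥(fixR t u) := isSolvable_of_odd c.hyp.odd_fixR
  haveI : Nontrivial ↥(fixR t u) := by
    refine (Subgroup.nontrivial_iff_ne_bot _).2 fun e => c.hZ ?_
    rw [e, inf_bot_eq]
  refine c.hA ⁅fixR t u, fixR t u⁆ ?_ ?_ le_rfl (fun n hn => ?_) fun x hx => ?_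
  · exact Subgroup.commutator_le.2 fun a ha b hb => by
      rw [commutatorElement_def]
      exact mul_mem (mul_mem (mul_mem ha hb) (inv_mem ha)) (inv_mem hb)
  · intro e
    refine (Group.IsSolvable.commutator_lt_top_of_nontrivial ↥(fixR t u)).ne ?_
    refine Subgroup.map_injective (fixR t u).subtype_injective ?_
    rw [_root_.commutator_def, Subgroup.map_commutator, ← MonoidHom.range_eq_map, Subgroup.range_subtype, e]
  · rw [Grp.mem_normalizer_iff_smul, ← Grp.map_conj_eq_smul, Subgroup.map_commutator, Grp.map_conj_eq_smul,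
      Grp.mem_normalizer_iff_smul.1 (c.hyp.normalizer_le_normalizer_fixR hn)]
  · have h1 : x = 1 := c.hyp.commutator_inf_fixed (odd_of_le inf_le_left c.hyp.odd_coreCent)
      (c.hyp.zpowers_le_normalizer_inf hVH) (hN hx.1) (c.hyp.mem_fixR.1 hx.2).2
    exact h1 ▸ one_mem _

/-- The weight bound: `g` fixes the inverted `y` and maps `z` to `z * y`. -/
theorem weights_le {z y g : G} (hzY : z ∈ opOf l (coreCent t)) (hz : z ∈ fixR t u) (ho : orderOf z = l)
    (hy : y ∈ coreCent t) (hzy : Commute z y) (hyu : u * y * u⁻¹ = y⁻¹) (hyl : y ^ l = 1) (hy1 : y ≠ 1)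
    (hgy : Commute g y) (hgz : g * z * g⁻¹ = z * y) {b : ℕ} {χ : Cfsg.IrrCharacter G}
    (hne : (χ : G → ℂ) ≠ fun _ => 1) (hdeg : Cfsg.charDegree (χ : G → ℂ) ≤ 2 * b + 1) {δ : ℤ}
    (hδ : ∀ v ∈ (V : Subgroup G), v ≠ 1 → ∀ x ∈ coreCent v, (χ : G → ℂ) (v * x) = δ) :
    2 * l * Nat.card ↥⁅coreCent t ⊓ centralizer ({z} : Set G), zpowers u⁆ + 2 * l ≤ 2 * b + 4 := by
  haveI := c.fact_prime
  haveI := c.hyp.simple
  obtain ⟨F, _, _, E, a₀, h5, hq₀, ⟨e⟩, hEH, hDE, hcyc, hDcard, -, -⟩ := c.data z hz hzY ho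
  rw [hDcard]
  set H := centralizer ({z} : Set G)
  have hyo : Odd (orderOf y) := Odd.of_dvd_nat c.hyp.odd_coreCent ((coreCent t).orderOf_dvd_natCard hy)
  have hyD : y ∈ ⁅coreCent t ⊓ H, zpowers u⁆ :=
    c.hyp.mem_commutator_of_inverted ⟨hy, mem_centralizer_singleton_iff.2 hzy.symm.eq⟩ hyo hyu
  have ha₀ : Odd a₀ := hDcard ▸ odd_of_le
    (Grp.commutator_le_left_of_le_normalizer (c.hyp.zpowers_le_normalizer_inf (c.hyp.V_le_centralizer hz)))
    (odd_of_le inf_le_left c.hyp.odd_coreCent)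
  obtain ⟨n, ρ, hρ, hχ⟩ := χ.2
  have hn : Cfsg.charDegree (χ : G → ℂ) = n := by
    rw [Cfsg.charDegree, ← hχ, Representation.char_one, Module.finrank_pi, Fintype.card_fin,
      Complex.natCast_re, Nat.floor_natCast]
  have hy' : ρ y ≠ 1 := by
    intro e1
    rcases (MonoidHom.normal_ker ρ).eq_bot_or_eq_top with h | h
    · exact hy1 (mem_bot.1 (h ▸ MonoidHom.mem_ker.2 e1))
    · refine hne ?_
      letI : Fintype G := Fintype.ofFinite G
      refine Char.irr_const_eq_one χ.2 fun x => ?_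
      have hx : ρ x = 1 := MonoidHom.mem_ker.1 (h ▸ mem_top x)
      rw [← hχ, Representation.character, Representation.character, hx, map_one ρ]
  have htr : ∀ v ∈ (V : Subgroup G), v ≠ 1 → z ∈ coreCent v →
      ∀ i : ℕ, LinearMap.trace ℂ _ (ρ (v * z ^ i)) = (δ : ℂ) := by
    intro v hv hv1 hzv i
    rw [← hδ v hv hv1 (z ^ i) (pow_mem hzv i), ← hχ]
    rfl
  have hzu : z ∈ coreCent u := ((c.hyp.fixR_symm ▸ hz : z ∈ fixR u t)).1
  have hztu : z ∈ coreCent (t * u) := by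
    have h1 : z ∈ fixR (t * u) u := by rw [← c.hyp.shift.fixR_symm, c.hyp.fixR_shift]; exact hz
    exact h1.1
  have hk' : ∀ k : ℕ, ((Fintype.card F + 1 = 4 * a₀ ∧ k + 1 = 2 * a₀) ∨
      (Fintype.card F = 4 * a₀ + 1 ∧ k = 2 * a₀)) → 2 * l * a₀ + 2 * l ≤ 2 * b + 4 := by
    intro k hk
    have hb := weights_bound (W := Fin n → ℂ) (E := E) ρ c.prime (by rw [← ho, pow_orderOf_eq_one]) hyl hzy hgy
      hgz hy' (fun x hx => mem_centralizer_singleton_iff.1 (hEH hx)) (hDE hyD) (a := t) (b := u)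
      (c.hyp.commute_of_mem_fixR hz c.hyp.ht).symm (c.hyp.commute_of_mem_fixR hz c.hyp.hu).symm
      (c.hyp.comm c.hyp.ht c.hyp.hu) (c.hyp.mul_self c.hyp.ht) (c.hyp.mul_self c.hyp.hu) (δ := fun _ => (δ : ℂ))
      (htr t c.hyp.ht c.hyp.ht1 hz.1) (htr u c.hyp.hu c.hyp.hu1 hzu)
      (htr (t * u) c.hyp.tu_mem c.hyp.tu_ne_one hztu) (k := k) (k' := 2 * a₀ + 2)
      (fun M σ hσ => by
        have := PSL.finrank_ge h5 e σ hσ
        rcases hk with ⟨h1, h2⟩ | ⟨h1, h2⟩ <;> omega)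
      (fun x hx h4 => by
        obtain ⟨j, hj⟩ := ha₀
        obtain ⟨i, rfl⟩ := h4
        rcases hk with ⟨h1, h2⟩ | ⟨h1, h2⟩ <;> omega)
    rw [Module.finrank_pi, Fintype.card_fin, ← hn] at hb
    obtain ⟨j, hj⟩ : ∃ j, l = j + 1 := ⟨l - 1, by have := c.prime.one_lt; omega⟩
    rw [hj, Nat.add_sub_cancel] at hb
    rw [hj]
    rcases hk with ⟨h1, h2⟩ | ⟨h1, h2⟩ <;> nlinarith
  rcases hq₀ with h1 | h1
  · exact hk' (2 * a₀ - 1) (Or.inl ⟨h1, by obtain ⟨j, hj⟩ := ha₀; omega⟩)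
  · exact hk' (2 * a₀) (Or.inr ⟨h1, rfl⟩)

end Ctx

end Cfsg.Agent.Invol.GW.Klein
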