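import Cfsg.Agent.Lib.Invol.GW.Klein.Translations

/-!
# Gorenstein–Walter, Klein four, case I: `Ω₁Z(O_l(U))` meets `R`

Its inverted part is a line; either `U` normalises it (translations) or the lines form a short orbit and the order
formula leaves no room.
-/

set_option autoImplicit false
set_option linter.unusedSectionVars false

namespace Cfsg.Agent.Invol.GW.Klein

open Subgroup
open scoped Pointwise commutatorElement

universe u

variable {G : Type u} [Group G] [Finite G]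

/-- A subgroup that is a product of two disjoint parts. -/
theorem card_eq_mul_of_parts {A P Q : Subgroup G} (hP : P ≤ A) (hQ : Q ≤ A) (hd : P ⊓ Q = ⊥)
    (hs : ∀ x ∈ A, ∃ p ∈ P, ∃ q ∈ Q, p * q = x) : Nat.card ↥A = Nat.card ↥P * Nat.card ↥Q := by
  rw [← Nat.card_prod]
  refine (Nat.card_eq_of_bijective (fun p : ↥P × ↥Q => (⟨(p.1 : G) * p.2,
    mul_mem (hP p.1.2) (hQ p.2.2)⟩ : ↥A)) ⟨fun p p' hp => ?_, ?_⟩).symm
  · exact Subgroup.mul_injective_of_disjoint (disjoint_iff.2 hd) (congrArg Subtype.val hp)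
  · rintro ⟨x, hx⟩
    obtain ⟨p, hp, q, hq, rfl⟩ := hs x hx
    exact ⟨⟨⟨p, hp⟩, ⟨q, hq⟩⟩, rfl⟩

namespace Ctx

variable {V : Sylow 2 G} {t u : G} {l : ℕ} (c : Ctx V t u l)
include c

theorem isMulCommutative_omZ : IsMulCommutative ↥(omZ l (opOf l (coreCent t))) :=
  ⟨⟨fun a b => Subtype.ext ((mem_omZ.1 a.2).2.1 b (mem_omZ.1 b.2).1).eq⟩⟩

theorem le_normalizer_omZ : centralizer ({t} : Set G) ≤ normalizer (omZ l (opOf l (coreCent t)) : Set G) :=
  (c.hyp.le_normalizer_coreCent.trans (normalizer_le_normalizer_opOf l _)).trans (normalizer_le_omZ l _)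

/-- The character of small degree bounds `a₀` by `b`. -/
theorem le_of_degree {z y : G} (hzY : z ∈ opOf l (coreCent t)) (hz : z ∈ fixR t u) (ho : orderOf z = l)
    (hy : y ∈ coreCent t) (hyz : Commute y z) (hyu : u * y * u⁻¹ = y⁻¹) (hy1 : y ≠ 1) {b : ℕ} (hb : Odd b)
    {χ : Cfsg.IrrCharacter G} (hne : (χ : G → ℂ) ≠ fun _ => 1)
    (hdeg : Cfsg.charDegree (χ : G → ℂ) ≤ 2 * b + 1) :
    Nat.card ↥⁅coreCent t ⊓ centralizer ({z} : Set G), zpowers u⁆ ≤ b := by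
  haveI := c.hyp.simple
  obtain ⟨F, _, _, E, a₀, h5, hq₀, ⟨e⟩, hEH, hDE, hcyc, hDcard, -, -⟩ := c.data z hz hzY ho
  rw [hDcard]
  have hyD : y ∈ ⁅coreCent t ⊓ centralizer ({z} : Set G), zpowers u⁆ :=
    c.hyp.mem_commutator_of_inverted (K := coreCent t ⊓ centralizer ({z} : Set G))
      ⟨hy, mem_centralizer_singleton_iff.2 hyz.eq⟩
      (Odd.of_dvd_nat c.hyp.odd_coreCent ((coreCent t).orderOf_dvd_natCard hy)) hyu
  have ha₀ : Odd a₀ := hDcard ▸ odd_of_le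
    (Grp.commutator_le_left_of_le_normalizer (c.hyp.zpowers_le_normalizer_inf (c.hyp.V_le_centralizer hz)))
    (odd_of_le inf_le_left c.hyp.odd_coreCent)
  obtain ⟨n, ρ, hρ, hχ⟩ := χ.2
  have hn : Cfsg.charDegree (χ : G → ℂ) = n := by
    rw [Cfsg.charDegree, ← hχ, Representation.char_one, Module.finrank_pi, Fintype.card_fin,
      Complex.natCast_re, Nat.floor_natCast]
  have hy' : ρ y ≠ 1 := by
    intro e1
    rcases (MonoidHom.normal_ker ρ).eq_bot_or_eq_top with h | h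
    · exact hy1 (mem_bot.1 (h ▸ MonoidHom.mem_ker.2 e1))
    · refine hne ?_
      letI : Fintype G := Fintype.ofFinite G
      refine Char.irr_const_eq_one χ.2 fun x => ?_
      have hx : ρ x = 1 := MonoidHom.mem_ker.1 (h ▸ mem_top x)
      rw [← hχ, Representation.character, Representation.character, hx, map_one ρ]
  have h := PSL.finrank_ge h5 e (M := Fin n → ℂ) (ρ.comp E.subtype) (y := ⟨y, hDE hyD⟩) hy'
  rw [Module.finrank_pi, Fintype.card_fin] at h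
  obtain ⟨i, hi⟩ := ha₀
  obtain ⟨j, hj⟩ := hb
  rcases hq₀ with h1 | h1 <;> omega

/-- The order formula with `m = 1` bounds `q₀`. -/
theorem dvd_of_normalizes {z : G} (hzY : z ∈ opOf l (coreCent t)) (hz : z ∈ fixR t u) (ho : orderOf z = l)
    (hR : fixR t u ≤ normalizer (zpowers z : Set G)) {b q : ℕ} (hq : q + 1 = 4 * b ∨ q = 4 * b + 1)
    (hG : 2 * Nat.card G = Nat.card ↥(fixR t u) * q * (q * q - 1)) :
    ∃ q₀ : ℕ, IsPrimePow q₀ ∧
      (q₀ + 1 = 4 * Nat.card ↥⁅coreCent t ⊓ centralizer ({z} : Set G), zpowers u⁆ ∨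
        q₀ = 4 * Nat.card ↥⁅coreCent t ⊓ centralizer ({z} : Set G), zpowers u⁆ + 1) ∧
      ((q + 1 = 4 * b ∧ q₀ ∣ b * q * (q - 1)) ∨ (q = 4 * b + 1 ∧ q₀ ∣ b * q * (q + 1))) := by
  obtain ⟨F, _, _, E, a₀, h5, hq₀, -, -, -, -, hDcard, -, hdvd⟩ := c.data z hz hzY ho
  rw [hDcard]
  refine ⟨Fintype.card F, FiniteField.isPrimePow_card F, hq₀, ?_⟩
  set R := fixR t u with hRdef
  set H := centralizer ({z} : Set G) with hH
  have hRH : R ≤ normalizer (H : Set G) := by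
    intro g hg
    have key : ∀ g ∈ R, ∀ x ∈ H, g * x * g⁻¹ ∈ H := by
      intro g hg x hx
      obtain ⟨i, hi⟩ : ∃ i : ℤ, z ^ i = g⁻¹ * z * g⁻¹⁻¹ :=
        Subgroup.mem_zpowers_iff.1 ((mem_normalizer_iff.1 (hR (inv_mem hg)) z).1 (mem_zpowers z))
      have h1 := ((show Commute x z from mem_centralizer_singleton_iff.1 hx).zpow_right i).conj g
      rw [hi, show g * (g⁻¹ * z * g⁻¹⁻¹) * g⁻¹ = z by group] at h1
      exact mem_centralizer_singleton_iff.2 h1.eq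
    exact mem_normalizer_iff.2 fun x => ⟨key g hg x, fun hx => by
      simpa [mul_assoc] using key g⁻¹ (inv_mem hg) _ hx⟩
  have h1 : Fintype.card F * Nat.card ↥R ∣ Nat.card G := by
    refine dvd_trans ?_ (Subgroup.card_subgroup_dvd_card (R ⊔ H))
    refine Nat.dvd_of_mul_dvd_mul_right (Nat.card_pos (α := ↥(R ⊓ H))) ?_
    rw [Grp.card_sup_mul_card_inf hRH,
      show Fintype.card F * Nat.card ↥R * Nat.card ↥(R ⊓ H) =
        Nat.card ↥R * (Fintype.card F * Nat.card ↥(R ⊓ H)) by ring]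
    exact mul_dvd_mul_left _ hdvd
  have h2 : Fintype.card F ∣ q * (q * q - 1) := by
    refine Nat.dvd_of_mul_dvd_mul_left (Nat.card_pos (α := ↥R)) ?_
    rw [← mul_assoc, ← hG, mul_comm]
    exact dvd_mul_of_dvd_right h1 2
  have hcop : (Fintype.card F).Coprime 4 := by
    rw [show (4 : ℕ) = 2 ^ 2 from rfl]
    refine (Nat.coprime_two_right.2 ?_).pow_right 2
    rcases hq₀ with e | e
    · exact ⟨2 * a₀ - 1, by omega⟩
    · exact ⟨2 * a₀, by omega⟩
  rcases hq with e | e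
  · refine Or.inl ⟨e, hcop.dvd_of_dvd_mul_left ?_⟩
    rwa [show q * q - 1 = 4 * b * (q - 1) by rw [← e, ← Nat.mul_self_sub_mul_self_eq, mul_one],
      show q * (4 * b * (q - 1)) = 4 * (b * q * (q - 1)) by ring] at h2
  · refine Or.inr ⟨e, hcop.dvd_of_dvd_mul_left ?_⟩
    rwa [show q * q - 1 = (q + 1) * (4 * b) by
        rw [← mul_one 1, Nat.mul_self_sub_mul_self_eq, mul_one, show q - 1 = 4 * b by omega],
      show q * ((q + 1) * (4 * b)) = 4 * (b * q * (q + 1)) by ring] at h2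

/-- `Ω₁Z(O_l(U))` does not meet `R`. -/
theorem omZ_inf_fixR : omZ l (opOf l (coreCent t)) ⊓ fixR t u = ⊥ := by
  by_contra hne
  haveI := c.fact_prime
  haveI := c.isMulCommutative_omZ
  set U := coreCent t with hUdef
  set B := omZ l (opOf l U) with hB
  have hBU : B ≤ U := (omZ_le _ _).trans (opOf_le _ _)
  have hBl : ∀ x ∈ B, x ^ l = 1 := fun x hx => (mem_omZ.1 hx).2.2
  have hUB : U ≤ normalizer (B : Set G) := c.hyp.coreCent_le.trans c.le_normalizer_omZ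
  have huB : u ∈ normalizer (B : Set G) := c.le_normalizer_omZ (c.hyp.le_centralizer c.hyp.hu)
  have hcomm : ∀ a ∈ B, ∀ b ∈ B, Commute a b := fun a ha b hb => (mem_omZ.1 ha).2.1 b (omZ_le _ _ hb)
  have hord : ∀ x ∈ B, x ≠ 1 → orderOf x = l := fun x hx hx1 => orderOf_eq_prime (hBl x hx) hx1
  haveI : Nontrivial ↥(B ⊓ fixR t u) := (Subgroup.nontrivial_iff_ne_bot _).2 hne
  obtain ⟨⟨z, hzB, hzR⟩, hz1'⟩ := exists_ne (1 : ↥(B ⊓ fixR t u))
  have hz1 : z ≠ 1 := fun e => hz1' (Subtype.ext e)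
  have hzY : z ∈ opOf l U := omZ_le _ _ hzB
  have hoz := hord z hzB hz1
  have hnU : zpowers u ≤ normalizer (U : Set G) := zpowers_le.2 (c.hyp.V_le_normalizer_coreCent c.hyp.hu)
  -- an inverted element
  obtain ⟨y, hyB, hy1, hyu⟩ : ∃ y ∈ B, y ≠ 1 ∧ u * y * u⁻¹ = y⁻¹ := by
    by_contra hno
    push Not at hno
    have hfix : ∀ x ∈ B, u * x * u⁻¹ = x := fun x hx => by
      obtain ⟨e, he, a, ha, rfl⟩ := exists_fixed_mul_invPart (odd_of_le hBU c.hyp.odd_coreCent)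
        (c.hyp.mul_self c.hyp.hu) huB hx
      have ha1 : a = 1 := by
        by_contra h1
        exact hno a ha.1 h1 ha.2
      rw [ha1, mul_one, (show Commute u e from (mem_centralizer_singleton_iff.1 he.2).symm).eq,
        mul_inv_cancel_right]
    exact c.not_commutator_le hzY hzR hoz (c.hyp.commutator_zpowers_le fun k hk =>
      mem_centralizer_singleton_iff.2 (commute_commutator_of_fixed (hUB hk) hfix hzB).eq)
  have hline : ∀ w ∈ B, u * w * u⁻¹ = w⁻¹ → w ∈ zpowers y := fun w hw hwu =>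
    c.inverted_mem_zpowers hzY hzR hoz (hBU hyB) (hcomm y hyB z hzB) hyu (hBl y hyB) hy1 (hBU hw)
      (hcomm w hw z hzB) hwu (hBl w hw)
  by_cases hUy : U ≤ normalizer (zpowers y : Set G)
  · exact c.translations B hBU hBl hUB huB hzB hzY hzR hoz hyB hyu hy1 hUy
  set Bp := B ⊓ fixR t u with hBp
  have hkeep : ∀ g ∈ U, ∀ w ∈ Bp, w ≠ 1 → g * w * g⁻¹ ∈ Bp → g ∈ normalizer (zpowers y : Set G) := by
    intro g hg w hw hw1 hw'
    set z' := g * w * g⁻¹ with hz'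
    have hz'1 : z' ≠ 1 := fun e => hw1 (conj_eq_one_iff.1 e)
    have hgy : g * y * g⁻¹ ∈ zpowers y := c.conj_line hg (omZ_le _ _ hw'.1) hw'.2 (hord z' hw'.1 hz'1)
      (by rw [hz', show g⁻¹ * (g * w * g⁻¹) * g = w by group]; exact (c.hyp.mem_fixR.1 hw.2).2)
      (hBU hyB) (hcomm y hyB z' hw'.1) hyu (hBl y hyB) hy1
      (fun e he => hcomm _ ((mem_normalizer_iff.1 (hUB he.1) y).1 hyB) z' hw'.1)
    refine mem_normalizer_fintype fun x hx => ?_
    obtain ⟨i, rfl⟩ := Subgroup.mem_zpowers_iff.1 hx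
    rw [SetLike.mem_coe, ← conj_zpow]
    exact zpow_mem hgy i
  have hzpB : zpowers y ≤ B := zpowers_le.2 hyB
  have hQc : Nat.card ↥(zpowers y) = l := by rw [Nat.card_zpowers, hord y hyB hy1]
  have hBcard : Nat.card ↥B = Nat.card ↥Bp * l := by
    rw [← hQc]
    refine card_eq_mul_of_parts inf_le_left hzpB ?_ fun x hx => ?_
    · refine (eq_bot_iff_forall _).2 fun x hx => ?_
      obtain ⟨i, rfl⟩ := Subgroup.mem_zpowers_iff.1 hx.2
      have h2 : u * y ^ i * u⁻¹ = (y ^ i)⁻¹ := by rw [← conj_zpow, hyu, inv_zpow]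
      rw [(c.hyp.mem_fixR.1 hx.1.2).2.symm.eq, mul_inv_cancel_right] at h2
      exact eq_one_of_odd c.hyp.odd_fixR hx.1.2 (mul_eq_one_iff_eq_inv.2 h2)
    · obtain ⟨e, he, a, ha, rfl⟩ := exists_fixed_mul_invPart (odd_of_le hBU c.hyp.odd_coreCent)
        (c.hyp.mul_self c.hyp.hu) huB hx
      exact ⟨e, ⟨he.1, c.hyp.mem_fixR.2 ⟨hBU he.1, mem_centralizer_singleton_iff.1 he.2⟩⟩, a,
        hline a ha.1 ha.2, rfl⟩
  -- the fixed part is a line
  obtain ⟨g₀, hg₀, hg₀y⟩ := SetLike.not_le_iff_exists.1 hUy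
  have hBpl : Nat.card ↥Bp ≤ l := by
    refine Nat.le_of_mul_le_mul_left (a := Nat.card ↥Bp) ?_ (Nat.card_pos (α := ↥Bp))
    rw [← hBcard, ← Nat.card_prod]
    refine Nat.card_le_card_of_injective (fun p : ↥Bp × ↥Bp => (⟨(p.1 : G) * (g₀ * p.2 * g₀⁻¹),
      mul_mem p.1.2.1 ((mem_normalizer_iff.1 (hUB hg₀) _).1 p.2.2.1)⟩ : ↥B)) ?_
    rintro ⟨p, q⟩ ⟨p', q'⟩ e
    have e1 : (p : G) * (g₀ * q * g₀⁻¹) = p' * (g₀ * q' * g₀⁻¹) := congrArg Subtype.val e
    have e2 : g₀ * ((q' : G) * (q : G)⁻¹) * g₀⁻¹ = (p' : G)⁻¹ * p := by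
      calc g₀ * ((q' : G) * (q : G)⁻¹) * g₀⁻¹ = (g₀ * q' * g₀⁻¹) * (g₀ * q * g₀⁻¹)⁻¹ := by group
        _ = (p' : G)⁻¹ * ((p' : G) * (g₀ * q' * g₀⁻¹)) * (g₀ * q * g₀⁻¹)⁻¹ := by group
        _ = (p' : G)⁻¹ * p := by rw [← e1]; group
    by_cases h0 : (q' : G) * (q : G)⁻¹ = 1
    · rw [h0, mul_one, mul_inv_cancel] at e2
      exact Prod.ext (Subtype.ext (inv_mul_eq_one.1 e2.symm).symm) (Subtype.ext (mul_inv_eq_one.1 h0).symm)
    · exact absurd (hkeep g₀ hg₀ _ (mul_mem q'.2 (inv_mem q.2)) h0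
        (e2 ▸ mul_mem (inv_mem p'.2) p.2)) hg₀y
  have hPeq : zpowers z = Bp := Subgroup.eq_of_le_of_card_ge (zpowers_le.2 ⟨hzB, hzR⟩)
    (by rw [Nat.card_zpowers, hoz]; exact hBpl)
  set P := zpowers z with hP
  have hPc : Nat.card ↥P = l := by rw [hP, Nat.card_zpowers, hoz]
  have hBc : Nat.card ↥B = l * l := by rw [hBcard, ← hPeq, hPc]
  have hRP : fixR t u ≤ normalizer (P : Set G) := fun g hg => by
    rw [hPeq]
    exact mem_normalizer_fintype fun x hx =>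
      Subgroup.mem_inf.2 ⟨(mem_normalizer_iff.1 (hUB hg.1) x).1 hx.1, mul_mem (mul_mem hg hx.2) (inv_mem hg)⟩
  have hgen : ∀ k ∈ U, ∀ x ∈ P, x ∉ (⊥ : Subgroup G) → k * x * k⁻¹ ∈ P → k ∈ normalizer (P : Set G) := by
    intro k _ x hx hx1 hkx
    rw [mem_bot] at hx1
    refine mem_normalizer_fintype fun w hw => ?_
    obtain ⟨i, rfl⟩ := Subgroup.mem_zpowers_iff.1 (mem_zpowers_of_isCyclic (D := P) hx hw
      (hBl x (hPeq ▸ hx : x ∈ Bp).1) hx1 (hBl w (hPeq ▸ hw : w ∈ Bp).1))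
    rw [SetLike.mem_coe, ← conj_zpow]
    exact zpow_mem hkx i
  have hsep : ∀ k ∈ U, ∀ x ∈ P, x ∉ (⊥ : Subgroup G) → k * x * k⁻¹ ∉ zpowers y := by
    intro k hk x hx hx1 hkx
    obtain ⟨i, hi⟩ := Subgroup.mem_zpowers_iff.1 hkx
    refine hx1 (c.hyp.not_inverted_conj (N := ⊥) (fun g _ => ?_) ?_ hk (hPeq ▸ hx : x ∈ Bp).2 ?_)
    · rw [normalizer_eq_top_iff.2 inferInstance]; exact mem_top g
    · rw [normalizer_eq_top_iff.2 inferInstance]; exact mem_top u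
    · rw [mem_bot, ← hi, ← conj_zpow, hyu, inv_zpow, inv_mul_cancel]
  obtain ⟨hdl, hdl'⟩ := orbit_bound (d := (U ⊓ normalizer (P : Set G)).relIndex U) (N₀ := ⊥) c.prime.one_lt hUB
    (fun g _ => by rw [normalizer_eq_top_iff.2 inferInstance]; exact mem_top g) (hPeq ▸ inf_le_left) hzpB bot_le
    (by rw [hPc, Subgroup.card_bot, mul_one]) (by rw [hQc, Subgroup.card_bot, mul_one])
    (by rw [hBc, Subgroup.card_bot, mul_one]) hgen hsep rfl
  set S := U ⊓ normalizer (P : Set G) with hS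
  set d := S.relIndex U with hd
  have hdU : d ∣ Nat.card ↥U := Subgroup.relIndex_dvd_card S U
  obtain ⟨di, hdi⟩ := Odd.of_dvd_nat c.hyp.odd_coreCent hdU
  have hd1 : d ≠ 1 := fun e => hUy fun g hg => by
    have hgS : g ∈ normalizer (P : Set G) := (Subgroup.relIndex_eq_one.1 e hg).2
    exact hkeep g hg z ⟨hzB, hzR⟩ hz1 (hPeq ▸ (mem_normalizer_iff.1 hgS z).1 (mem_zpowers z))
  have hdne : d ≠ l := fun e => hUy (hdl' e)
  -- the stabiliser of the line
  have hUzS : U ⊓ centralizer ({z} : Set G) ≤ S := le_inf inf_le_left fun g hg => by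
    refine mem_normalizer_fintype fun x hx => ?_
    obtain ⟨i, rfl⟩ := Subgroup.mem_zpowers_iff.1 hx
    rw [SetLike.mem_coe, ← conj_zpow, mem_centralizer_singleton_iff.1 hg.2, mul_inv_cancel_right]
    exact zpow_mem (mem_zpowers z) i
  have horb : {x : G | ∃ k ∈ S, k * z * k⁻¹ = x}.ncard =
      1 * {x : G | ∃ k ∈ fixR t u, k * z * k⁻¹ = x}.ncard := by
    rw [one_mul]
    congr 1
    ext x
    refine ⟨?_, fun ⟨k, hk, hkx⟩ => ⟨k, ⟨hk.1, hRP hk⟩, hkx⟩⟩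
    rintro ⟨k, hk, rfl⟩
    have hk' : Commute (k⁻¹ * z * k) u := by
      have h1 : k⁻¹ * z * k ∈ P := by
        simpa using (mem_normalizer_iff.1 (inv_mem hk.2) z).1 (mem_zpowers z)
      exact (c.hyp.mem_fixR.1 (hPeq ▸ h1 : k⁻¹ * z * k ∈ Bp).2).2
    obtain ⟨a, -, e, he, -, haz, rfl⟩ := c.hyp.exists_factor hk.1 hzR hk'
    refine ⟨e, he, ?_⟩
    obtain ⟨i, hi⟩ := Subgroup.mem_zpowers_iff.1 ((mem_normalizer_iff.1 (hRP he) z).1 (mem_zpowers z))
    calc e * z * e⁻¹ = a * z ^ i * a⁻¹ := by rw [(haz.zpow_right i).eq, mul_inv_cancel_right, hi]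
      _ = a * e * z * (a * e)⁻¹ := by rw [hi]; group
  have hScard := c.card_eq_of_orbit hzY hzR hoz hUzS inf_le_left horb
  rw [one_mul] at hScard
  obtain ⟨m, b, q, hm, hb, hq, hU', hG, χ, hχ, hdeg, -⟩ := c.block
  set a₀ := Nat.card ↥⁅U ⊓ centralizer ({z} : Set G), zpowers u⁆ with ha₀
  have hmb : m * b = d * a₀ := by
    refine Nat.eq_of_mul_eq_mul_right (Nat.card_pos (α := ↥(fixR t u))) ?_
    have h3 := Subgroup.relIndex_mul_relIndex _ _ _ bot_le (inf_le_left : S ≤ U)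
    rw [Subgroup.relIndex_bot_left, Subgroup.relIndex_bot_left, ← hd, hScard] at h3
    rw [← hU', ← h3]
    ring
  have hab : a₀ ≤ b := c.le_of_degree hzY hzR hoz (hBU hyB) (hcomm y hyB z hzB) hyu hy1 hb hχ hdeg
  have hla : l ≤ a₀ := by
    have hyD : y ∈ ⁅U ⊓ centralizer ({z} : Set G), zpowers u⁆ :=
      c.hyp.mem_commutator_of_inverted (K := U ⊓ centralizer ({z} : Set G))
        ⟨hBU hyB, mem_centralizer_singleton_iff.2 (hcomm y hyB z hzB).eq⟩
        (Odd.of_dvd_nat c.hyp.odd_coreCent (U.orderOf_dvd_natCard (hBU hyB))) hyu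
    rw [← hord y hyB hy1]
    exact Nat.le_of_dvd Nat.card_pos (Subgroup.orderOf_dvd_natCard _ hyD)
  have h3l := c.three_le
  have hmd : m ≤ d := by
    refine Nat.le_of_mul_le_mul_right ?_ (show 0 < a₀ by omega)
    calc m * a₀ ≤ m * b := Nat.mul_le_mul_left _ hab
      _ = d * a₀ := hmb
  have hdlt : d + 2 ≤ l := by
    obtain ⟨li, hli⟩ := c.odd_prime
    omega
  have hm1 : m = 1 := eq_one_of_sq c.prime hm (by omega) (c.arith hm hb hq hU' hG).2
  subst hm1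
  rw [one_mul] at hmb
  rw [one_pow, one_mul] at hG
  obtain ⟨q₀, hpow, he, hdvd⟩ := c.dvd_of_normalizes hzY hzR hoz hRP hq hG
  rw [hmb] at hdvd
  exact singer_bound hpow he (show 3 ≤ d by omega) (show d + 3 < 4 * a₀ by omega) hdvd

end Ctx

end Cfsg.Agent.Invol.GW.Klein
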