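import Cfsg.Agent.Lib.Invol.GW.Klein.ThreeClassMax

/-!
No three-class maximal subgroup lies properly over the centraliser of an involution, given what is needed on the
local subgroups (`Loc`, `Step`).
-/

set_option autoImplicit false
set_option linter.unusedSectionVars false

namespace Cfsg.Agent.Invol.GW.ThreeClass

open Subgroup Klein Transfer.Loc
open scoped Pointwise

universe u

variable {G : Type u} [Group G] [Finite G]

theorem zpowers_le_centralizer (x : G) : zpowers x ≤ centralizer (zpowers x : Set G) := by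
  intro a ha
  obtain ⟨i, rfl⟩ := mem_zpowers_iff.1 ha
  refine mem_centralizer_of_commute fun b hb => ?_
  obtain ⟨j, rfl⟩ := mem_zpowers_iff.1 hb
  exact Commute.zpow_zpow (Commute.refl x) i j

theorem mem_centralizer_zpowers {x g : G} (h : Commute g x) : g ∈ centralizer (zpowers x : Set G) :=
  mem_centralizer_of_commute fun b hb => by
    obtain ⟨j, rfl⟩ := mem_zpowers_iff.1 hb
    exact h.zpow_right j

/-- What is needed on the local subgroups over the normaliser of an inverted element of the only moved core. -/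
def Step (V : Subgroup G) (t : G) : Prop :=
  ∀ (u n : G) (M H : Subgroup G), TC V t u n M → Max V t M → Two M →
    ∀ p ∈ mu t M, ∀ x ∈ F p M, x ≠ 1 → t * x * t⁻¹ = x⁻¹ → Commute u x →
    (∀ r : ℕ, r.Prime → r ≠ p → ∀ y ∈ F r M, Commute t y) → IsCoatom H →
    normalizer (zpowers x : Set G) ≤ H → (∀ B : ℕ → Subgroup G, Parts V M B → (∀ r : ℕ, r.Prime → B r ≤ H) →
    (∀ (s : ℕ) [Fact s.Prime], O s H ≤ oddOf M) → O 2 H = ⊥ →
    H ⊓ centralizer (Cfsg.fittingOf H : Set G) ≤ Cfsg.fittingOf H)

namespace TC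

variable {V : Subgroup G} {t u n : G} {M : Subgroup G} (T : TC V t u n M)
include T

theorem htu_commute_of {y : G} (ht : Commute t y) (htu : Commute (t * u) y) : Commute u y := by
  have := ht.mul_left htu
  rwa [← mul_assoc, T.tt, one_mul] at this

/-- An element inverted by `t` and fixed by `u` centralises the other cores over `C(u)`. -/
theorem commute_F_shift {p : ℕ} [hp : Fact p.Prime] {x : G} (hx : x ∈ F p M) (hxt : t * x * t⁻¹ = x⁻¹)
    (hxu : Commute u x) {r : ℕ} (hr : r.Prime) (hrp : r ≠ p) :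
    ∀ a ∈ F r (MulAut.conj n • M), Commute x a := by
  haveI := Fact.mk hr
  have hxn : x ∈ normalizer (F r (MulAut.conj n • M) : Set G) :=
    T.shift.M_le_normalizer_F r (T.le_shift (ThreeClass.mem_centralizer_singleton.2 hxu.symm))
  exact trick T.tt (O_isPGroup r _) (T.shift.odd_F r) (T.shift.V_le_normalizer_F r T.hyp.ht) hxn
    (odd_orderOf (T.odd_F p) hx) (orderOf_coprime (Ne.symm hrp) (O_isPGroup p _) hx) hxt fun w hw htw =>
      commute_of_primes (Ne.symm hrp) (O_isPGroup p _) (O_isPGroup r _) hx hw hxn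
        (T.M_le_normalizer_F p (T.le_M (ThreeClass.mem_centralizer_singleton.2 htw.symm)))

/-- A central part of a core over `C(u)` lying in `M` carries the core of `M` over. -/
theorem commute_F_of_center_part (hl : Loc V t) (hmax : Max V t M) (htwo : Two M) {p : ℕ} [hp : Fact p.Prime]
    {B : Subgroup G} (hB : B ≤ Z p (oddOf (MulAut.conj n • M))) (hne : B ≠ ⊥)
    (hVB : (V : Subgroup G) ≤ normalizer (B : Set G)) (hBM : B ≤ M)
    (hF : ∀ q : ℕ, q.Prime → q ≠ p → F q (MulAut.conj n • M) ≤ M) :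
    (∀ q : ℕ, q.Prime → q ≠ p → ∀ a ∈ F q (MulAut.conj n • M), ∀ y ∈ F p M, Commute a y) ∧
      F p M ≤ MulAut.conj n • M := by
  have hC : centralizer (B : Set G) ≤ MulAut.conj n • M :=
    (centralizer_le_normalizer _).trans (T.normalizer_le_of_center_shift hl hmax htwo hne hB hVB)
  have key : ∀ q : ℕ, q.Prime → q ≠ p → ∀ a ∈ F q (MulAut.conj n • M), ∀ y ∈ F p M, Commute a y := by
    intro q hq hqp
    haveI := Fact.mk hq
    exact pq (coprime_of_isPGroup (O_isPGroup q _) ((Nat.coprime_primes hq hp.out).2 hqp))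
      ((O_isPGroup p _).to_le (hB.trans inf_le_left))
      (fun a ha b hb => (commute_of_mem_centralizer (O_commute (Ne.symm hqp) _ (hB hb).1) ha).symm)
      (O_isPGroup p _) ((hF q hq hqp).trans (T.M_le_normalizer_F p)) (hBM.trans (T.M_le_normalizer_F p))
      fun w hw hwb a ha => commute_of_primes hqp (O_isPGroup q _) (O_isPGroup p _) ha hw
        (T.M_le_normalizer_F p (hF q hq hqp ha))
        (T.shift.M_le_normalizer_F q (hC (mem_centralizer_of_commute fun b hb => (hwb b hb).symm)))
  refine ⟨key, fun y hy => ?_⟩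
  obtain ⟨q, hq, hFq, hqp⟩ := htwo p
  haveI := Fact.mk hq
  rw [← T.shift.normalizer_F (T.F_shift_ne_bot hFq)]
  exact centralizer_le_normalizer _ (mem_centralizer_of_commute fun a ha => (key q hq hqp a ha y hy).symm)

/-- If `V` centralises all the cores but one, `t * u` fixes nothing in the centre of that one. -/
theorem false_of_fixed_center (hl : Loc V t) (hmax : Max V t M) (htwo : Two M) {p : ℕ} [hp : Fact p.Prime]
    (hE : ∀ r : ℕ, r.Prime → r ≠ p → ∀ y ∈ F r M, Commute t y ∧ Commute u y)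
    {z : G} (hz : z ∈ Z p (oddOf M)) (hz1 : z ≠ 1) (hzc : Commute (t * u) z) : False := by
  have hzs : n * z * n⁻¹ ∈ Z p (oddOf (MulAut.conj n • M)) ⊓ centralizer ({t} : Set G) := by
    refine ⟨⟨T.mem_F_shift hz.1, mem_centralizer_of_commute fun y hy => ?_⟩,
      ThreeClass.mem_centralizer_singleton.2 (T.commute_shift T.hnv hzc).symm⟩
    obtain ⟨a, ha, rfl⟩ := T.exists_of_mem_F_shift hy
    exact (commute_of_mem_centralizer hz.2 ha).conj n
  obtain ⟨-, hle⟩ := T.commute_F_of_center_part hl hmax htwo (p := p)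
    (inf_le_left : Z p (oddOf (MulAut.conj n • M)) ⊓ centralizer ({t} : Set G) ≤ _)
    (fun e => hz1 (conj_eq_one_iff.1 (Subgroup.mem_bot.1 (e ▸ hzs))))
    (Grp.le_normalizer_inf' (Grp.le_normalizer_inf' (T.shift.V_le_normalizer_F p)
      ((T.shift.V_le_normalizer_F p).trans normalizer_le_normalizer_centralizer))
      (T.hyp.le_centralizer.trans le_normalizer))
    (inf_le_right.trans T.le_M) fun q hq hqp a ha => by
      haveI := Fact.mk hq
      obtain ⟨b, hb, rfl⟩ := T.exists_of_mem_F_shift ha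
      exact T.le_M (ThreeClass.mem_centralizer_singleton.2
        (T.commute_shift T.hnv ((hE q hq hqp b hb).1.mul_left (hE q hq hqp b hb).2)).symm)
  refine T.not_forall_le hl hmax htwo fun r hr y hy => ?_
  by_cases hrp : r = p
  · subst hrp; exact hle hy
  · exact T.le_shift (ThreeClass.mem_centralizer_singleton.2 (hE r hr hrp y hy).2.symm)

/-- Step 3. -/
theorem centralizer_le_of_inverted (hl : Loc V t) (hst : Step V t) (hmax : Max V t M) (htwo : Two M) {p : ℕ} (hp : p ∈ mu t M) {x : G}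
    (hx : x ∈ F p M) (hx1 : x ≠ 1) (hxt : t * x * t⁻¹ = x⁻¹) (hxu : Commute u x) :
    centralizer (zpowers x : Set G) ≤ M := by
  haveI := Fact.mk hp.1
  have hXF : zpowers x ≤ F p M := zpowers_le.2 hx
  have hX : zpowers x ≠ ⊥ := zpowers_ne_bot.2 hx1
  have hVX : (V : Subgroup G) ≤ normalizer (zpowers x : Set G) :=
    T.V_le_normalizer_zpowers (hxt ▸ inv_mem (mem_zpowers x))
      (by rw [hxu.eq, mul_inv_cancel_right]; exact mem_zpowers x)
  refine (centralizer_le_normalizer _).trans ?_
  by_cases hmu : ∃ p' ∈ mu t M, p' ≠ p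
  · obtain ⟨p', hp', hne⟩ := hmu
    haveI := Fact.mk hp'.1
    exact T.normalizer_le_of_part hl hmax htwo hX hXF (zpowers_le_centralizer x) hVX hp' fun y hy =>
      centralizer_le hXF (O_commute hne (oddOf M) hy)
  have hfix : ∀ r : ℕ, r.Prime → r ≠ p → ∀ y ∈ F r M, Commute t y := by
    intro r hr hrp y hy
    by_contra hc
    exact hmu ⟨r, ⟨hr, y, hy, hc⟩, hrp⟩
  obtain ⟨H, hH, hXH⟩ := exists_coatom_ge (T.normalizer_ne_top hX (hXF.trans (T.F_le_M p)))
  have hCH : centralizer (zpowers x : Set G) ≤ H := (centralizer_le_normalizer _).trans hXH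
  let B : ℕ → Subgroup G := fun r => F r M ⊓ centralizer (zpowers x : Set G)
  have hcX : ∀ r : ℕ, r.Prime → r ≠ p → F r M ≤ centralizer (zpowers x : Set G) := fun r hr hrp => by
    haveI := Fact.mk hr
    exact (O_commute hrp (oddOf M)).trans (centralizer_le hXF)
  have hB : Parts V M B := by
    refine ⟨fun r _ => inf_le_left, fun r hr y hy => ⟨hy.1, ?_⟩,
      fun r _ => Grp.le_normalizer_inf' (T.V_le_normalizer_F r) (hVX.trans normalizer_le_normalizer_centralizer)⟩
    by_cases hrp : r = p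
    · subst hrp
      exact centralizer_le (le_inf hXF (zpowers_le_centralizer x) : zpowers x ≤ B r) hy.2
    · exact hcX r hr hrp hy.1
  have hVH : (V : Subgroup G) ≤ H := hVX.trans hXH
  refine (T.eq_of_parts htwo hH hVH hB (fun r _ => inf_le_right.trans hCH) ?_
    (hst u n M H T hmax htwo p hp x hx hx1 hxt hxu hfix hH hXH B hB fun r _ => inf_le_right.trans hCH)) ▸ hXH
  intro s hs hs2 hFs hinf hinv hcom
  by_contra hne
  obtain ⟨w₀, hw₀, hw₀1⟩ := (bot_or_exists_ne_one (O s H)).resolve_left hne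
  have hsp : s ≠ p := fun e => T.F_ne_bot_of_mu hp (e ▸ hFs)
  have hWodd := odd_O hs2 H
  have hn : H ≤ normalizer (O s H : Set G) := le_normalizer_core' H
  have hxW : ∀ w ∈ O s H, Commute x w := fun w hw =>
    hcom p hp.1 x ⟨hx, mem_centralizer_zpowers (Commute.refl x)⟩ hxt w hw
  -- `u` fixes nothing in the core
  have hWu : ∀ w ∈ O s H, Commute u w → w = 1 := by
    intro w hw huw
    have hwM := T.le_shift (ThreeClass.mem_centralizer_singleton.2 huw.symm)
    have hwF : w ∈ F s (MulAut.conj n • M) := by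
      refine T.shift.mem_F (O_isPGroup s H) hw (T.shift.mem_K hwM (odd_orderOf hWodd hw)) fun r hr y hy => ?_
      haveI := Fact.mk hr
      by_cases hrs : r = s
      · subst hrs
        rw [T.F_shift_eq_bot hFs, Subgroup.mem_bot] at hy
        exact hy ▸ Commute.one_right w
      by_cases hrp : r = p
      · subst hrp
        have hxM := T.le_shift (ThreeClass.mem_centralizer_singleton.2 hxu.symm)
        refine pq (A := zpowers w) (B := zpowers x) ?_ ((O_isPGroup r _).to_le hXF) (fun a ha b hb => ?_)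
          (O_isPGroup r _) (zpowers_le.2 (T.shift.M_le_normalizer_F r hwM))
          (zpowers_le.2 (T.shift.M_le_normalizer_F r hxM)) (fun y hy hyb a ha => ?_) w (mem_zpowers w) y hy
        · rw [Nat.card_zpowers]; exact orderOf_coprime hsp (O_isPGroup s H) hw
        · obtain ⟨i, rfl⟩ := mem_zpowers_iff.1 ha
          obtain ⟨j, rfl⟩ := mem_zpowers_iff.1 hb
          exact (hxW w hw).symm.zpow_zpow i j
        · obtain ⟨i, rfl⟩ := mem_zpowers_iff.1 ha
          exact (commute_of_primes hsp (O_isPGroup s H) (O_isPGroup r _) hw hy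
            (T.shift.M_le_normalizer_F r hwM)
            (hn (hCH (mem_centralizer_of_commute fun b hb => (hyb b hb).symm)))).zpow_left i
      · exact commute_of_primes (Ne.symm hrs) (O_isPGroup s H) (O_isPGroup r _) hw hy
          (T.shift.M_le_normalizer_F r hwM)
          (hn (hCH (mem_centralizer_zpowers (T.commute_F_shift hx hxt hxu hr hrp y hy).symm)))
    rwa [T.F_shift_eq_bot hFs, Subgroup.mem_bot] at hwF
  have htuW : ∀ w ∈ O s H, Commute (t * u) w := by
    intro w hw
    have huinv := inverted_of_fixed_free T.uu hWodd (hn (hVH T.hyp.hu)) hWu hw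
    refine commute_of_conj ?_
    calc t * u * w * (t * u)⁻¹ = t * (u * w * u⁻¹) * t⁻¹ := by group
      _ = (t * w * t⁻¹)⁻¹ := by rw [huinv]; group
      _ = w := by rw [hinv w hw, inv_inv]
  -- `V` centralises the other cores
  have hE : ∀ r : ℕ, r.Prime → r ≠ p → ∀ y ∈ F r M, Commute t y ∧ Commute u y := by
    intro r hr hrp y hy
    haveI := Fact.mk hr
    refine ⟨hfix r hr hrp y hy, T.htu_commute_of (hfix r hr hrp y hy) ?_⟩
    refine commute_of_no_inverted (T.hyp.mul_self T.hyp.tu_mem) (T.odd_F r)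
      (T.V_le_normalizer_F r T.hyp.tu_mem) (fun e he hei => ?_) hy
    by_contra he1
    have hte := hfix r hr hrp e he
    have hue : u * e * u⁻¹ = e⁻¹ := by
      calc u * e * u⁻¹ = u * (t * e * t⁻¹) * u⁻¹ := by rw [hte.eq, mul_inv_cancel_right]
        _ = (u * t) * e * (u * t)⁻¹ := by group
        _ = e⁻¹ := by rw [← T.htu_comm.eq, hei]
    have h1 : normalizer (zpowers e : Set G) ≤ M := T.normalizer_le_of_part hl hmax htwo
      (zpowers_ne_bot.2 he1) (zpowers_le.2 he) (zpowers_le_centralizer e)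
      (T.V_le_normalizer_zpowers (by rw [hte.eq, mul_inv_cancel_right]; exact mem_zpowers e)
        (hue ▸ inv_mem (mem_zpowers e))) hp fun a ha =>
        centralizer_le (zpowers_le.2 he) (O_commute (Ne.symm hrp) (oddOf M) ha)
    have hew : Commute e w₀ := commute_fixed (odd_orderOf (T.odd_F r) he) hei (htuW w₀ hw₀)
      (htuW _ (conj_mem (hn (hCH (hcX r hr hrp he))) hw₀))
    exact hw₀1 (hinf w₀ hw₀ (h1 (centralizer_le_normalizer _ (mem_centralizer_zpowers hew.symm))))
  by_cases hz : ∃ z ∈ Z p (oddOf M), z ≠ 1 ∧ Commute (t * u) z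
  · obtain ⟨z, hz, hz1, hzc⟩ := hz
    exact T.false_of_fixed_center hl hmax htwo hE hz hz1 hzc
  -- `t * u` inverts the centre, which then centralises the core
  have hVZ : (V : Subgroup G) ≤ normalizer (Z p (oddOf M) : Set G) :=
    Grp.le_normalizer_inf' (T.V_le_normalizer_F p)
      ((T.V_le_normalizer_F p).trans normalizer_le_normalizer_centralizer)
  refine hw₀1 (hinf w₀ hw₀ ((T.normalizer_Z (T.F_ne_bot_of_mu hp)).le
    (centralizer_le_normalizer _ (mem_centralizer_of_commute fun z hzZ => ?_))))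
  have hzi := inverted_of_fixed_free (T.hyp.mul_self T.hyp.tu_mem)
    ((T.odd_F p).of_dvd_nat (card_dvd_of_le inf_le_left)) (hVZ T.hyp.tu_mem)
    (fun c hc hcc => by_contra fun hc1 => hz ⟨c, hc, hc1, hcc⟩) hzZ
  refine (commute_fixed (odd_orderOf (T.odd_F p) hzZ.1) hzi (htuW w₀ hw₀) (htuW _ (conj_mem ?_ hw₀))).symm
  exact hn (hCH (mem_centralizer_zpowers (commute_of_mem_centralizer hzZ.2 hx)))

/-- Steps 4 to 6. -/
theorem false_of_inverted (hl : Loc V t) (hst : Step V t) (hmax : Max V t M) (htwo : Two M) {p : ℕ} (hp : p ∈ mu t M) {x : G}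
    (hx : x ∈ F p M) (hx1 : x ≠ 1) (hxt : t * x * t⁻¹ = x⁻¹) (hxu : Commute u x) : False := by
  haveI := Fact.mk hp.1
  have hC := T.centralizer_le_of_inverted hl hst hmax htwo hp hx hx1 hxt hxu
  have hXF : zpowers x ≤ F p M := zpowers_le.2 hx
  have hxM' := T.le_shift (ThreeClass.mem_centralizer_singleton.2 hxu.symm)
  -- step 4
  have hFM : ∀ q : ℕ, q.Prime → q ≠ p → F q (MulAut.conj n • M) ≤ M := fun q hq hqp a ha =>
    hC (mem_centralizer_zpowers (T.commute_F_shift hx hxt hxu hq hqp a ha).symm)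
  have hVX : (V : Subgroup G) ≤ normalizer (zpowers x : Set G) :=
    T.V_le_normalizer_zpowers (hxt ▸ inv_mem (mem_zpowers x))
      (by rw [hxu.eq, mul_inv_cancel_right]; exact mem_zpowers x)
  have hVZ : ∀ {L : Subgroup G}, L ≤ normalizer (F p (MulAut.conj n • M) : Set G) →
      L ≤ normalizer (Z p (oddOf (MulAut.conj n • M)) : Set G) := fun hL =>
    Grp.le_normalizer_inf' hL (hL.trans normalizer_le_normalizer_centralizer)
  obtain ⟨hcent, hFpM'⟩ := T.commute_F_of_center_part hl hmax htwo (p := p)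
    (inf_le_left : Z p (oddOf (MulAut.conj n • M)) ⊓ centralizer (zpowers x : Set G) ≤ _)
    (exists_fixed ((O_isPGroup p _).to_le inf_le_left) ((O_isPGroup p _).to_le hXF)
      (zpowers_le.2 (hVZ (T.shift.M_le_normalizer_F p) hxM'))
      (Z_ne_bot (T.F_shift_ne_bot (T.F_ne_bot_of_mu hp))))
    (Grp.le_normalizer_inf' (hVZ (T.shift.V_le_normalizer_F p))
      (hVX.trans normalizer_le_normalizer_centralizer))
    (inf_le_right.trans hC) hFM
  -- step 5
  have hinf : ∀ q : ℕ, q.Prime → q ≠ p → F q M ⊓ MulAut.conj n • M = ⊥ := by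
    intro q hq hqp
    haveI := Fact.mk hq
    by_contra hne
    set A := F q M ⊓ MulAut.conj n • M with hA
    have hAF : A ≤ F q M := inf_le_left
    have hcA : ∀ a ∈ A, ∀ y ∈ F p (MulAut.conj n • M), Commute a y :=
      pq (coprime_of_isPGroup ((O_isPGroup q _).to_le hAF) ((Nat.coprime_primes hq hp.1).2 hqp))
        (O_isPGroup p (oddOf M))
        (fun a ha b hb => commute_of_mem_centralizer (O_commute hqp (oddOf M) (hAF ha)) hb)
        (O_isPGroup p _) (inf_le_right.trans (T.shift.M_le_normalizer_F p))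
        (hFpM'.trans (T.shift.M_le_normalizer_F p))
        fun w hw hwb a ha => commute_of_primes hqp (O_isPGroup q _) (O_isPGroup p _) (hAF ha) hw
          (T.shift.M_le_normalizer_F p ha.2)
          (T.M_le_normalizer_F q ((T.normalizer_F (T.F_ne_bot_of_mu hp)).le
            (centralizer_le_normalizer _ (mem_centralizer_of_commute fun b hb => (hwb b hb).symm))))
    set X := A ⊓ centralizer (A : Set G) with hX
    have hVA : (V : Subgroup G) ≤ normalizer (A : Set G) :=
      Grp.le_normalizer_inf' (T.V_le_normalizer_F q) (T.shift.V_le.trans le_normalizer)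
    have hXM : normalizer (X : Set G) ≤ M := T.normalizer_le_of_part hl hmax htwo
      (exists_fixed ((O_isPGroup q _).to_le hAF) ((O_isPGroup q _).to_le hAF) le_normalizer hne)
      ((inf_le_left : X ≤ A).trans hAF)
      ((inf_le_right : X ≤ centralizer (A : Set G)).trans (centralizer_le inf_le_left))
      (Grp.le_normalizer_inf' hVA (hVA.trans normalizer_le_normalizer_centralizer)) hp fun a ha =>
        centralizer_le ((inf_le_left : X ≤ A).trans hAF) (O_commute (Ne.symm hqp) (oddOf M) ha)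
    refine T.swap.not_forall_le hl hmax htwo fun r hr y hy => ?_
    haveI := Fact.mk hr
    rw [Grp.mem_smul_conj, inv_inv]
    have hy' := T.mem_F_shift hy
    by_cases hrp : r = p
    · subst hrp
      exact hXM (centralizer_le_normalizer _ (mem_centralizer_of_commute fun a ha => (hcA a ha.1 _ hy').symm))
    · exact hFM r hr hrp hy'
  have huinv : ∀ q : ℕ, q.Prime → q ≠ p → ∀ y ∈ F q M, u * y * u⁻¹ = y⁻¹ := fun q hq hqp y hy =>
    inverted_of_fixed_free T.uu (T.odd_F q) (T.V_le_normalizer_F q T.hyp.hu) (fun c hc hcu => by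
      have : c ∈ F q M ⊓ MulAut.conj n • M :=
        ⟨hc, T.le_shift (ThreeClass.mem_centralizer_singleton.2 hcu.symm)⟩
      rwa [hinf q hq hqp, Subgroup.mem_bot] at this) hy
  -- step 6
  have htriv : ∀ q : ℕ, q.Prime → q ≠ p → ∀ d ∈ F q (MulAut.conj n • M),
      (∀ r : ℕ, r.Prime → r ≠ p → ∀ y ∈ F r M, Commute d y) → d = 1 := by
    intro q hq hqp d hd hc
    haveI := Fact.mk hq
    have hdF : d ∈ F q M := T.mem_F (O_isPGroup q _) hd
      (T.mem_K (hFM q hq hqp hd) (odd_orderOf (T.shift.odd_F q) hd)) fun r hr y hy => by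
        by_cases hrp : r = p
        · subst hrp; exact hcent q hq hqp d hd y hy
        · exact hc r hr hrp y hy
    have : d ∈ F q M ⊓ MulAut.conj n • M := ⟨hdF, T.shift.F_le_M q hd⟩
    rwa [hinf q hq hqp, Subgroup.mem_bot] at this
  have hu' : ∀ q : ℕ, q.Prime → q ≠ p → ∀ d ∈ F q (MulAut.conj n • M), Commute u d := fun q hq hqp d hd =>
    commute_of_no_inverted T.uu (T.shift.odd_F q) (T.shift.V_le_normalizer_F q T.hyp.hu) (fun e he hei =>
      htriv q hq hqp e he fun r hr hrp y hy => commute_inverted (odd_orderOf (T.shift.odd_F q) he) hei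
        (huinv r hr hrp y hy)
        (huinv r hr hrp _ (conj_mem (T.M_le_normalizer_F r (hFM q hq hqp he)) hy))) hd
  have ht : ∀ q : ℕ, q.Prime → q ≠ p → ∀ y ∈ F q M, Commute t y := by
    intro q hq hqp y hy
    haveI := Fact.mk hq
    have := (hu' q hq hqp _ (T.mem_F_shift hy)).conj n⁻¹
    rwa [show n⁻¹ * u * n⁻¹⁻¹ = t by rw [← T.hnt]; group,
      show n⁻¹ * (n * y * n⁻¹) * n⁻¹⁻¹ = y by group] at this
  have ht' : ∀ q : ℕ, q.Prime → q ≠ p → ∀ d ∈ F q (MulAut.conj n • M), Commute t d := fun q hq hqp d hd =>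
    commute_of_no_inverted T.tt (T.shift.odd_F q) (T.shift.V_le_normalizer_F q T.hyp.ht) (fun e he hei =>
      htriv q hq hqp e he fun r hr hrp y hy => commute_fixed (odd_orderOf (T.shift.odd_F q) he) hei
        (ht r hr hrp y hy) (ht r hr hrp _ (conj_mem (T.M_le_normalizer_F r (hFM q hq hqp he)) hy))) hd
  obtain ⟨q, hq, hFq, hqp⟩ := htwo p
  haveI := Fact.mk hq
  refine hFq (eq_bot_iff.2 fun y hy => Subgroup.mem_bot.2 ?_)
  have h1 := (ht' q hq hqp _ (T.mem_F_shift hy)).conj n⁻¹
  rw [show n⁻¹ * t * n⁻¹⁻¹ = t * u by conv_lhs => rw [← T.hnv]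
                                      group,
    show n⁻¹ * (n * y * n⁻¹) * n⁻¹⁻¹ = y by group] at h1
  exact eq_one_of_fixed_inverted (odd_orderOf (T.odd_F q) hy) (T.htu_commute_of (ht q hq hqp y hy) h1)
    (huinv q hq hqp y hy)

theorem false_of_max (hl : Loc V t) (hst : Step V t) (hmax : Max V t M) : False := by
  by_cases htwo : Two M
  · obtain ⟨p, hp⟩ := T.mu_nonempty
    obtain ⟨x, hx, hx1, hxt, hxu | hxu⟩ := T.exists_inverted hp
    · exact T.false_of_inverted hl hst hmax htwo hp hx hx1 hxt hxu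
    · exact T.swap.false_of_inverted hl hst hmax htwo hp hx hx1 hxt hxu
  · obtain ⟨p, hp⟩ := T.mu_nonempty
    haveI := Fact.mk hp.1
    refine T.false_of_pGroup (p := p) fun r hr hrp => by_contra fun hFr => htwo fun q => ?_
    by_cases hpq : p = q
    · exact ⟨r, hr, hFr, fun e => hrp (e.trans hpq.symm)⟩
    · exact ⟨p, hp.1, T.F_ne_bot_of_mu hp, hpq⟩

end TC

/-- The generic conclusion. -/
theorem eq_centralizer_of_loc {V : Subgroup G} {t u n : G} (h : Base V t u) (hn : n ∈ normalizer (V : Set G))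
    (hnt : n * t * n⁻¹ = u) (hnu : n * u * n⁻¹ = t * u) (hl : Loc V t) (hst : Step V t) {M : Subgroup G}
    (hM : IsCoatom M) (hC : centralizer ({t} : Set G) ≤ M) (hthree : Three t M) :
    centralizer ({t} : Set G) = M := by
  by_contra hne
  set S := {L : Subgroup G | IsCoatom L ∧ Three t L ∧ centralizer ({t} : Set G) < L} with hS
  obtain ⟨L, ⟨hL, hL3, hLlt⟩, hmax⟩ := Set.exists_max_image S (fun L => (mu t L).ncard) S.toFinite
    ⟨M, hM, hthree, lt_of_le_of_ne hC hne⟩
  exact TC.false_of_max (⟨h, hn, hnt, hnu, hL, hL3, hLlt⟩ : TC V t u n L) hl hst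
    fun L' h1 h2 h3 _ => hmax L' ⟨h1, h2, h3⟩

end Cfsg.Agent.Invol.GW.ThreeClass
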