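import Cfsg.Agent.Lib.Invol.GW.Klein.Setup
import Cfsg.Agent.Lib.Block.KleinOrder
import Mathlib.GroupTheory.Commutator.Basic

/-!
# Linear characters of the centraliser of an involution and fusion of its odd core

The linear characters of `R = C_U(u)` trivial on a suitable `K` extend to `C(t)`, the extension is determined on
`U`; two conjugate elements of `U` are conjugate in `C(t)` or are moved into `R` where `N(V)` controls fusion.
-/

set_option autoImplicit false
set_option linter.unusedSectionVars false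
set_option linter.style.haveILetI false

namespace Cfsg.Agent.Invol.GW.Klein

open Cfsg Subgroup
open scoped commutatorElement

universe u

variable {G : Type u} [Group G] [Finite G]

namespace Hyp

variable {V : Sylow 2 G} {t u : G} (h : Hyp V t u)
include h

/-- Coprime action: the core is the moved part times the fixed part. -/
theorem exists_moved_mul {a : G} (ha : a ∈ coreCent t) :
    ∃ x ∈ fixR t u, ∃ y ∈ ⁅coreCent t, zpowers u⁆, x * y = a := by
  set y := a⁻¹ * u * a * u⁻¹ with hy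
  have hyN : y ∈ ⁅coreCent t, zpowers u⁆ := by
    have := commutator_mem_commutator (inv_mem ha) (mem_zpowers u)
    rwa [commutatorElement_def, inv_inv] at this
  have hyU : y ∈ coreCent t := by
    rw [hy, show a⁻¹ * u * a * u⁻¹ = a⁻¹ * (u * a * u⁻¹) by group]
    exact mul_mem (inv_mem ha) ((mem_normalizer_iff.1 (h.le_normalizer_coreCent (h.le_centralizer h.hu)) a).1 ha)
  have hinv : u * y * u⁻¹ = y⁻¹ := by
    rw [hy, h.inv_eq h.hu]
    simp only [_root_.mul_inv_rev, inv_inv, h.inv_eq h.hu, mul_assoc, h.mul_self h.hu, mul_one]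
  obtain ⟨k, hk⟩ := Odd.of_dvd_nat h.odd_coreCent ((coreCent t).orderOf_dvd_natCard hyU)
  set z := y ^ (k + 1) with hz
  have hzz : z * z = y := by
    rw [hz, ← pow_add, show k + 1 + (k + 1) = orderOf y + 1 by omega, pow_succ, pow_orderOf_eq_one, one_mul]
  have hzinv : u * z * u⁻¹ = z⁻¹ := by rw [hz, ← conj_pow, hinv, inv_pow]
  refine ⟨a * z, h.mem_fixR.2 ⟨mul_mem ha (pow_mem hyU _), ?_⟩, z⁻¹, inv_mem (pow_mem hyN _), mul_inv_cancel_right _ _⟩
  have hua : u * a * u⁻¹ = a * y := by rw [hy]; group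
  refine (mul_inv_eq_iff_eq_mul.1 ?_ : u * (a * z) = a * z * u).symm
  rw [show u * (a * z) * u⁻¹ = u * a * u⁻¹ * (u * z * u⁻¹) by group, hua, hzinv, ← hzz]
  group

theorem moved_le : ⁅coreCent t, zpowers u⁆ ≤ coreCent t := by
  rw [commutator_le]
  intro a ha w hw
  have hwC : w ∈ centralizer ({t} : Set G) := h.le_centralizer ((zpowers_le.2 h.hu) hw)
  rw [commutatorElement_def, show a * w * a⁻¹ * w⁻¹ = a * (w * a⁻¹ * w⁻¹) by group]
  exact mul_mem ha ((mem_normalizer_iff.1 (h.le_normalizer_coreCent hwC) a⁻¹).1 (inv_mem ha))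

/-- A homomorphism into an abelian group is determined on the core by its values on `R`. -/
theorem hom_eq_of_eqOn {A : Type*} [CommGroup A] {l l' : ↥(centralizer ({t} : Set G)) →* A}
    (hR : ∀ x : ↥(centralizer ({t} : Set G)), (x : G) ∈ fixR t u → l x = l' x)
    {a : ↥(centralizer ({t} : Set G))} (ha : (a : G) ∈ coreCent t) : l a = l' a := by
  obtain ⟨x, hx, y, hy, hxy⟩ := h.exists_moved_mul ha
  have hker : ∀ m : ↥(centralizer ({t} : Set G)) →* A,
      ⁅coreCent t, zpowers u⁆ ≤ m.ker.map (centralizer ({t} : Set G)).subtype := by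
    intro m
    rw [commutator_le]
    intro b hb w hw
    have hbC := h.coreCent_le hb
    have hwC : w ∈ centralizer ({t} : Set G) := h.le_centralizer ((zpowers_le.2 h.hu) hw)
    refine ⟨⁅(⟨b, hbC⟩ : ↥(centralizer ({t} : Set G))), ⟨w, hwC⟩⁆, ?_, map_commutatorElement _ _ _⟩
    rw [SetLike.mem_coe, MonoidHom.mem_ker, map_commutatorElement, commutatorElement_eq_one_iff_mul_comm, mul_comm]
  have hxC : x ∈ centralizer ({t} : Set G) := h.coreCent_le hx.1
  have hyC : y ∈ centralizer ({t} : Set G) := h.coreCent_le (h.moved_le hy)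
  have e : a = ⟨x, hxC⟩ * ⟨y, hyC⟩ := Subtype.ext hxy.symm
  have h1 : ∀ m : ↥(centralizer ({t} : Set G)) →* A, m ⟨y, hyC⟩ = 1 := fun m => by
    obtain ⟨y', hy', e'⟩ := hker m hy
    rw [show (⟨y, hyC⟩ : ↥(centralizer ({t} : Set G))) = y' from Subtype.ext e'.symm]
    exact hy'
  rw [e, map_mul, map_mul, h1, h1, hR _ hx]

/-- A homomorphism on `R` which is trivial on `K` extends to the centraliser of `t`. -/
theorem exists_ext {K : Subgroup G} (hK : K ≤ fixR t u)
    (hKN : fixR t u ≤ normalizer (K : Set G))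
    (hcap : ⁅coreCent t, zpowers u⁆ ⊓ fixR t u ≤ K) {A : Type*} [CommGroup A] (θ : ↥(fixR t u) →* A)
    (hθ : ∀ x : ↥(fixR t u), (x : G) ∈ K → θ x = 1) :
    ∃ l : ↥(centralizer ({t} : Set G)) →* A, ∀ (x : ↥(fixR t u)) (hx : (x : G) ∈ centralizer ({t} : Set G)),
      l ⟨x, hx⟩ = θ x := by
  set N := ⁅coreCent t, zpowers u⁆ with hNdef
  have hUN : coreCent t ≤ normalizer (N : Set G) := normalizer_commutator_ge_left _ _
  have hNU : N ≤ coreCent t := h.moved_le
  have huN : u ∈ normalizer (N : Set G) := normalizer_commutator_ge_right _ _ (mem_zpowers u)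
  have hRU : (fixR t u) ≤ coreCent t := inf_le_left
  have hVN : (V : Subgroup G) ≤ normalizer (N : Set G) := fun w hw => by
    have ht' : t ∈ normalizer (N : Set G) := mem_normalizer_iff.2 fun y => by
      constructor
      · intro hy
        rwa [show t * y * t⁻¹ = y by rw [← (h.commute_of_mem (hNU hy)).eq, mul_inv_cancel_right]]
      · intro hy
        have hy' : y = t⁻¹ * (t * y * t⁻¹) * t := by group
        rw [hy', mul_assoc, (h.commute_of_mem (hNU hy)).eq, inv_mul_cancel_left]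
        exact hy
    rcases h.mem_iff.1 hw with rfl | rfl | rfl | rfl
    exacts [one_mem _, ht', huN, mul_mem ht' huN]
  set NK := N ⊔ K with hNK
  have hNKU : NK ≤ coreCent t := sup_le hNU (hK.trans hRU)
  -- the moved part times `K` is normalised by the core and by `V`
  have hKsub : ∀ a ∈ (fixR t u), ∀ k ∈ K, a * k * a⁻¹ ∈ K := fun a ha k hk => (mem_normalizer_iff.1 (hKN ha) k).1 hk
  have hconjNK : ∀ a, a ∈ coreCent t ∨ a ∈ (V : Subgroup G) → ∀ y ∈ NK, a * y * a⁻¹ ∈ NK := by
    intro a ha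
    have haN : a ∈ normalizer (N : Set G) := ha.elim (fun h' => hUN h') (fun h' => hVN h')
    have hgen : ∀ k ∈ K, a * k * a⁻¹ ∈ NK := by
      intro k hk
      rcases ha with ha | ha
      · obtain ⟨x, hx, y, hy, rfl⟩ := h.exists_moved_mul ha
        rw [show x * y * k * (x * y)⁻¹ = x * (y * (k * y⁻¹ * k⁻¹)) * x⁻¹ * (x * k * x⁻¹) by group]
        refine mul_mem (mem_sup_left ?_) (mem_sup_right (hKsub x hx k hk))
        refine (mem_normalizer_iff.1 (hUN (hRU hx)) _).1 (mul_mem hy ?_)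
        exact (mem_normalizer_iff.1 (hUN (hRU (hK hk))) y⁻¹).1 (inv_mem hy)
      · rw [← (h.commute_of_mem_fixR (hK hk) ha).eq, mul_inv_cancel_right]
        exact mem_sup_right hk
    have hle : NK ≤ NK.comap (MulAut.conj a).toMonoidHom :=
      sup_le (fun y hy => mem_sup_left ((mem_normalizer_iff.1 haN y).1 hy)) fun k hk => hgen k hk
    exact fun y hy => hle hy
  have hVNK : (V : Subgroup G) ≤ normalizer (NK : Set G) := fun w hw => mem_normalizer_iff.2 fun y =>
    ⟨hconjNK w (Or.inr hw) y, fun hy => by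
      have := hconjNK w⁻¹ (Or.inr (inv_mem hw)) _ hy
      simpa [mul_assoc] using this⟩
  set W := NK ⊔ (V : Subgroup G) with hW
  have hWC : W ≤ (centralizer ({t} : Set G)) := sup_le (hNKU.trans h.coreCent_le) h.le_centralizer
  have hnormal : (centralizer ({t} : Set G)) ≤ normalizer (W : Set G) := by
    have hconjW : ∀ a, a ∈ coreCent t ∨ a ∈ (V : Subgroup G) → ∀ y ∈ W, a * y * a⁻¹ ∈ W := by
      intro a ha
      have hgen : ∀ w ∈ (V : Subgroup G), a * w * a⁻¹ ∈ W := by
        intro w hw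
        rcases ha with ha | ha
        · rw [show a * w * a⁻¹ = ⁅a, w⁆ * w by rw [commutatorElement_def]; group]
          refine mul_mem (mem_sup_left (mem_sup_left ?_)) (mem_sup_right hw)
          have hat : Commute a t := h.commute_of_mem ha
          rcases h.mem_iff.1 hw with e | e | e | e
          · rw [e]; simp [commutatorElement_def]
          · rw [e, commutatorElement_eq_one_iff_mul_comm.2 hat.eq]
            exact one_mem _
          · rw [e]; exact commutator_mem_commutator ha (mem_zpowers u)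
          · rw [e, show ⁅a, t * u⁆ = t * ⁅a, u⁆ * t⁻¹ by
              rw [commutatorElement_def, commutatorElement_def, ← mul_assoc a t, hat.eq]
              group
              ]
            have := commutator_mem_commutator ha (mem_zpowers u)
            exact (mem_normalizer_iff.1 (hVN h.ht) _).1 this
        · rw [(h.comm ha hw).eq, mul_inv_cancel_right]
          exact mem_sup_right hw
      have hle : W ≤ W.comap (MulAut.conj a).toMonoidHom :=
        sup_le (fun y hy => mem_sup_left (hconjNK a ha y hy)) fun w hw => hgen w hw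
      exact fun y hy => hle hy
    have hnorm : ∀ a, a ∈ coreCent t ∨ a ∈ (V : Subgroup G) → a ∈ normalizer (W : Set G) := fun a ha =>
      mem_normalizer_iff.2 fun y => ⟨hconjW a ha y, fun hy => by
        have := hconjW a⁻¹ (ha.imp inv_mem inv_mem) _ hy
        simpa [mul_assoc] using this⟩
    rw [h.centralizer_eq_sup]
    exact sup_le (fun a ha => hnorm a (Or.inl ha)) fun a ha => hnorm a (Or.inr ha)
  haveI : (W.subgroupOf (centralizer ({t} : Set G))).Normal := normal_subgroupOf_of_le_normalizer hnormal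
  let f : ↥(fixR t u) →* ↥(centralizer ({t} : Set G)) ⧸ W.subgroupOf (centralizer ({t} : Set G)) :=
    (QuotientGroup.mk' _).comp (Subgroup.inclusion (hRU.trans h.coreCent_le))
  have hsurj : Function.Surjective f := by
    intro q
    obtain ⟨⟨c, hc⟩, rfl⟩ := QuotientGroup.mk'_surjective _ q
    obtain ⟨a, ha, w, hw, rfl⟩ := h.exists_mul hc
    obtain ⟨x, hx, y, hy, rfl⟩ := h.exists_moved_mul ha
    refine ⟨⟨x, hx⟩, QuotientGroup.eq.2 ?_⟩
    rw [mem_subgroupOf]
    show x⁻¹ * (x * y * w) ∈ W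
    rw [mul_assoc x, inv_mul_cancel_left]
    exact mul_mem (mem_sup_left (mem_sup_left hy)) (mem_sup_right hw)
  have hker : f.ker ≤ θ.ker := by
    intro x hx
    rw [MonoidHom.mem_ker] at hx ⊢
    have hxW : (x : G) ∈ W := mem_subgroupOf.1 ((QuotientGroup.eq_one_iff (N := W.subgroupOf (centralizer ({t} : Set G)))
      (Subgroup.inclusion (hRU.trans h.coreCent_le) x)).1 hx)
    obtain ⟨y, hy, w, hw, e⟩ := exists_mul_of_sup hVNK hxW
    have hw1 : w = 1 := (mem_bot (G := G)).1 (h.coreCent_inf ▸ (⟨by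
      rw [show w = y⁻¹ * x by rw [← e, inv_mul_cancel_left]]
      exact (coreCent t).mul_mem ((coreCent t).inv_mem (hNKU hy)) (hRU x.2), hw⟩ : w ∈ coreCent t ⊓ (V : Subgroup G)))
    rw [hw1, mul_one] at e
    rw [hNK] at hy
    obtain ⟨n, hn, k, hk, e'⟩ := exists_mul_of_sup ((hK.trans hRU).trans hUN) hy
    refine hθ x ?_
    rw [← e, ← e']
    refine mul_mem (hcap ⟨hn, ?_⟩) hk
    rw [show n = y * k⁻¹ by rw [← e', mul_inv_cancel_right], e]
    exact (fixR t u).mul_mem x.2 ((fixR t u).inv_mem (hK hk))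
  refine ⟨(f.liftOfSurjective hsurj ⟨θ, hker⟩).comp (QuotientGroup.mk' _), fun x hx => ?_⟩
  exact MonoidHom.liftOfRightInverse_comp_apply f _ (Function.rightInverse_surjInv hsurj) ⟨θ, hker⟩ x

/-- A Sylow subgroup of `G` centralising an element of the core brings it into `R`. -/
theorem exists_conj_mem_fixR {y : G} (hy : y ∈ coreCent t) {Q : Sylow 2 G}
    (hQ : ∀ w ∈ (Q : Subgroup G), Commute w y) :
    ∃ c ∈ centralizer ({t} : Set G), c * y * c⁻¹ ∈ fixR t u := by
  haveI : Fact (Nat.Prime 2) := ⟨Nat.prime_two⟩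
  set Y := centralizer ({y} : Set G) with hY
  have hQY : (Q : Subgroup G) ≤ Y := fun w hw => mem_centralizer_singleton_iff.2 (hQ w hw).eq
  have htY : t ∈ Y := mem_centralizer_singleton_iff.2 (h.commute_of_mem hy).eq.symm
  obtain ⟨T, hT⟩ := (IsPGroup.of_card (n := 1) (G := zpowers (⟨t, htY⟩ : ↥Y)) (p := 2) (by
    rw [Nat.card_zpowers, ← Subgroup.orderOf_coe, h.orderOf_eq h.ht h.ht1, pow_one])).exists_le_sylow
  obtain ⟨d, hd⟩ := MulAction.exists_smul_eq ↥Y (Q.subtype hQY) T
  have hmem : (d : G)⁻¹ * t * (d : G) ∈ (Q : Subgroup G) := by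
    have h1 : (⟨t, htY⟩ : ↥Y) ∈ ((d • Q.subtype hQY : Sylow 2 ↥Y) : Subgroup ↥Y) := by
      rw [hd]; exact hT (mem_zpowers _)
    rw [Sylow.coe_subgroup_smul, mem_pointwise_smul_iff_inv_smul_mem] at h1
    simpa [MulAut.smul_def, Sylow.coe_subtype, mem_subgroupOf, mul_assoc] using h1
  set Q' := (d : G) • Q with hQ'
  have hQ'mem : ∀ w, w ∈ (Q' : Subgroup G) ↔ (d : G)⁻¹ * w * (d : G) ∈ (Q : Subgroup G) := fun w => by
    rw [hQ', Sylow.coe_subgroup_smul, mem_pointwise_smul_iff_inv_smul_mem]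
    simp [MulAut.smul_def]
  have htQ' : t ∈ (Q' : Subgroup G) := (hQ'mem t).2 hmem
  have hQ'C : (Q' : Subgroup G) ≤ centralizer ({t} : Set G) := fun w hw =>
    mem_centralizer_singleton_iff.2 (klein_comm Q' (Block.KleinOrder.sylow_klein h.klein Q') hw htQ')
  obtain ⟨c, hc⟩ := MulAction.exists_smul_eq ↥(centralizer ({t} : Set G)) (Q'.subtype hQ'C) (V.subtype h.le_centralizer)
  refine ⟨c, c.2, h.mem_fixR.2 ⟨(mem_normalizer_iff.1 (h.le_normalizer_coreCent c.2) y).1 hy, ?_⟩⟩
  have hu' : (c : G)⁻¹ * u * (c : G) ∈ (Q' : Subgroup G) := by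
    have h1 : (⟨u, h.le_centralizer h.hu⟩ : ↥(centralizer ({t} : Set G))) ∈
        ((c • Q'.subtype hQ'C : Sylow 2 ↥(centralizer ({t} : Set G))) : Subgroup _) := by
      rw [hc, Sylow.coe_subtype, mem_subgroupOf]
      exact h.hu
    rw [Sylow.coe_subgroup_smul, mem_pointwise_smul_iff_inv_smul_mem] at h1
    simpa [MulAut.smul_def, Sylow.coe_subtype, mem_subgroupOf, mul_assoc] using h1
  have hdy : Commute (d : G) y := mem_centralizer_singleton_iff.1 d.2
  have h1 := hQ _ ((hQ'mem _).1 hu')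
  have h2 := (h1.conj (d : G)).conj (c : G)
  rw [show (d : G) * y * (d : G)⁻¹ = y by rw [hdy.eq, mul_inv_cancel_right],
    show (c : G) * ((d : G) * ((d : G)⁻¹ * ((c : G)⁻¹ * u * (c : G)) * (d : G)) * (d : G)⁻¹) * (c : G)⁻¹ = u by
      group] at h2
  exact h2.symm

/-- Fusion in the core of the centraliser. -/
theorem fusion {x y g : G} (hx : x ∈ coreCent t) (hy : y ∈ coreCent t) (hg : g * x * g⁻¹ = y) :
    (∃ c ∈ centralizer ({t} : Set G), c * x * c⁻¹ = y) ∨
      ∃ c ∈ centralizer ({t} : Set G), ∃ c' ∈ centralizer ({t} : Set G), c * x * c⁻¹ ∈ fixR t u ∧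
        ∃ n ∈ normalizer ((V : Subgroup G) : Set G), n * (c * x * c⁻¹) * n⁻¹ = c' * y * c'⁻¹ := by
  haveI : Fact (Nat.Prime 2) := ⟨Nat.prime_two⟩
  set Y := centralizer ({y} : Set G) with hY
  have htY : t ∈ Y := mem_centralizer_singleton_iff.2 (h.commute_of_mem hy).eq.symm
  have ht'Y : g * t * g⁻¹ ∈ Y := mem_centralizer_singleton_iff.2 (by
    have := ((h.commute_of_mem hx).symm.conj g)
    rw [hg] at this
    exact this.eq)
  have hord : orderOf (g * t * g⁻¹) = 2 :=
    (MulEquiv.orderOf_eq (MulAut.conj g) t).trans (h.orderOf_eq h.ht h.ht1)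
  obtain ⟨S, hS⟩ := (IsPGroup.of_card (n := 1) (G := zpowers (⟨t, htY⟩ : ↥Y)) (p := 2) (by
    rw [Nat.card_zpowers, ← Subgroup.orderOf_coe, h.orderOf_eq h.ht h.ht1, pow_one])).exists_le_sylow
  obtain ⟨S', hS'⟩ := (IsPGroup.of_card (n := 1) (G := zpowers (⟨g * t * g⁻¹, ht'Y⟩ : ↥Y)) (p := 2) (by
    rw [Nat.card_zpowers, ← Subgroup.orderOf_coe, hord, pow_one])).exists_le_sylow
  obtain ⟨d, hd⟩ := MulAction.exists_smul_eq ↥Y S' S
  have hdy : Commute (d : G) y := mem_centralizer_singleton_iff.1 d.2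
  have hdS : d * ⟨g * t * g⁻¹, ht'Y⟩ * d⁻¹ ∈ (S : Subgroup ↥Y) := by
    rw [← hd, Sylow.coe_subgroup_smul, mem_pointwise_smul_iff_inv_smul_mem]
    have := hS' (mem_zpowers (⟨g * t * g⁻¹, ht'Y⟩ : ↥Y))
    simpa [MulAut.smul_def, mul_assoc] using this
  by_cases heq : (d : G) * g * t * ((d : G) * g)⁻¹ = t
  · refine Or.inl ⟨(d : G) * g, mem_centralizer_singleton_iff.2 (mul_inv_eq_iff_eq_mul.1 heq), ?_⟩
    rw [show (d : G) * g * x * ((d : G) * g)⁻¹ = (d : G) * (g * x * g⁻¹) * (d : G)⁻¹ by group, hg, hdy.eq,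
      mul_inv_cancel_right]
  · obtain ⟨Q, hQ⟩ := ((S.isPGroup').map Y.subtype).exists_le_sylow
    have htQ : t ∈ (Q : Subgroup G) := hQ ⟨⟨t, htY⟩, hS (mem_zpowers _), rfl⟩
    have hwQ : (d : G) * g * t * ((d : G) * g)⁻¹ ∈ (Q : Subgroup G) := hQ ⟨_, hdS, by simp [mul_assoc]⟩
    have hQk := Block.KleinOrder.sylow_klein h.klein Q
    have hw1 : (d : G) * g * t * ((d : G) * g)⁻¹ ≠ 1 := by rw [ne_eq, conj_eq_one_iff]; exact h.ht1
    have hQy : ∀ v ∈ (Q : Subgroup G), Commute v y := by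
      intro v hv
      have ht : Commute t y := (h.commute_of_mem hy).symm
      have hw : Commute ((d : G) * g * t * ((d : G) * g)⁻¹) y := by
        have := (show Commute (g * t * g⁻¹) y from mem_centralizer_singleton_iff.1 ht'Y).conj (d : G)
        rwa [show (d : G) * y * (d : G)⁻¹ = y by rw [hdy.eq, mul_inv_cancel_right],
          show (d : G) * (g * t * g⁻¹) * (d : G)⁻¹ = (d : G) * g * t * ((d : G) * g)⁻¹ by group] at this
      rcases Block.KleinOrder.mem_four hQk htQ hwQ h.ht1 hw1 (Ne.symm heq) hv with rfl | rfl | rfl | rfl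
      exacts [Commute.one_left y, ht, hw, ht.mul_left hw]
    obtain ⟨c', hc', hy'⟩ := h.exists_conj_mem_fixR hy hQy
    obtain ⟨c, hc, hx'⟩ := h.exists_conj_mem_fixR hx (Q := g⁻¹ • Q) (fun v hv => by
      rw [Sylow.coe_subgroup_smul, mem_pointwise_smul_iff_inv_smul_mem] at hv
      simp only [MulAut.smul_def, map_inv, MulAut.conj_inv_apply, inv_inv, MulAut.conj_apply] at hv
      have := (hQy _ hv).conj g⁻¹
      rwa [← hg, show g⁻¹ * (g * x * g⁻¹) * g⁻¹⁻¹ = x by group,
        show g⁻¹ * (g * v * g⁻¹) * g⁻¹⁻¹ = v by group] at this)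
    refine Or.inr ⟨c, hc, c', hc', hx', ?_⟩
    set x' := c * x * c⁻¹ with hx'def
    set y' := c' * y * c'⁻¹ with hy'def
    set g' := c' * g * c⁻¹ with hg'
    have hg'x : g' * x' * g'⁻¹ = y' := by rw [hy'def, ← hg, hg', hx'def]; group
    set Y' := centralizer ({y'} : Set G) with hY'
    have hVY : (V : Subgroup G) ≤ Y' := fun v hv =>
      mem_centralizer_singleton_iff.2 (h.commute_of_mem_fixR hy' hv).eq.symm
    have hgVY : ((g' • V : Sylow 2 G) : Subgroup G) ≤ Y' := fun v hv => by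
      rw [Sylow.coe_subgroup_smul, mem_pointwise_smul_iff_inv_smul_mem] at hv
      simp only [MulAut.smul_def, MulAut.inv_apply_self, map_inv, MulAut.conj_inv_apply, MulAut.conj_apply] at hv
      have := (h.commute_of_mem_fixR hx' hv).symm.conj g'
      rw [hg'x, show g' * (g'⁻¹ * v * g') * g'⁻¹ = v by group] at this
      exact mem_centralizer_singleton_iff.2 this.eq
    obtain ⟨e, he⟩ := MulAction.exists_smul_eq ↥Y' ((g' • V).subtype hgVY) (V.subtype hVY)
    have hey : Commute (e : G) y' := mem_centralizer_singleton_iff.1 e.2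
    refine ⟨(e : G) * g', ?_, ?_⟩
    · have hmap : ∀ v ∈ (V : Subgroup G), (e : G) * g' * v * ((e : G) * g')⁻¹ ∈ (V : Subgroup G) := by
        intro v hv
        have hv' : g' * v * g'⁻¹ ∈ ((g' • V : Sylow 2 G) : Subgroup G) := by
          rw [Sylow.coe_subgroup_smul, mem_pointwise_smul_iff_inv_smul_mem]
          simpa [MulAut.smul_def, mul_assoc] using hv
        have h1 : e * ⟨_, hgVY hv'⟩ * e⁻¹ ∈ (V.subtype hVY : Subgroup ↥Y') := by
          rw [← he, Sylow.coe_subgroup_smul, mem_pointwise_smul_iff_inv_smul_mem]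
          simpa [MulAut.smul_def, Sylow.coe_subtype, mem_subgroupOf, mul_assoc] using hv'
        rw [Sylow.coe_subtype, mem_subgroupOf] at h1
        simpa [mul_assoc] using h1
      exact (mem_normalizer_fintype (S := ((V : Subgroup G) : Set G)) hmap)
    · rw [show (e : G) * g' * x' * ((e : G) * g')⁻¹ = (e : G) * (g' * x' * g'⁻¹) * (e : G)⁻¹ by group, hg'x,
        hey.eq, mul_inv_cancel_right]

end Hyp

end Cfsg.Agent.Invol.GW.Klein
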