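import Mathlib.LinearAlgebra.Matrix.Trace
import Mathlib.LinearAlgebra.Matrix.NonsingularInverse
import Mathlib.LinearAlgebra.Matrix.ToLin
import Mathlib.Algebra.CharP.Two
import Mathlib.Algebra.CharP.Frobenius
import Mathlib.FieldTheory.IsAlgClosed.Basic
import Mathlib.GroupTheory.Perm.Cycle.Type

/-!
# Absolutely irreducible matrix groups in characteristic two

For homomorphisms into matrices whose values span all matrices: the commutant is scalar, equal traces give
similar homomorphisms, and equal traces at `g` and `g⁻¹` force an even dimension (or dimension one).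
-/

set_option autoImplicit false

namespace Cfsg.Agent.Invol.GW.Klein

open Matrix

universe u v

variable {G : Type u} [Group G] {k : Type v} [Field k] {n : ℕ}

/-- The values span all matrices. -/
def Full (A : G →* Matrix (Fin n) (Fin n) k) : Prop := Submodule.span k (Set.range A) = ⊤

theorem Full.eq_top {A : G →* Matrix (Fin n) (Fin n) k} (hA : Full A)
    (S : Submodule k (Matrix (Fin n) (Fin n) k)) (h : ∀ g, A g ∈ S) : S = ⊤ :=
  top_le_iff.1 (hA ▸ Submodule.span_le.2 (Set.range_subset_iff.2 h))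

theorem Full.scalar {A : G →* Matrix (Fin n) (Fin n) k} (hA : Full A) {P : Matrix (Fin n) (Fin n) k}
    (h : ∀ g, P * A g = A g * P) : ∃ c : k, P = c • 1 := by
  have htop := hA.eq_top (LinearMap.ker (LinearMap.mulLeft k P - LinearMap.mulRight k P)) fun g => by
    simp [LinearMap.mem_ker, sub_eq_zero, h g]
  obtain ⟨c, hc⟩ := Matrix.mem_range_scalar_of_commute_single (M := P) fun i j _ => by
    have : Matrix.single i j (1 : k) ∈ LinearMap.ker (LinearMap.mulLeft k P - LinearMap.mulRight k P) :=
      htop ▸ Submodule.mem_top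
    simp only [LinearMap.mem_ker, LinearMap.sub_apply, LinearMap.mulLeft_apply, LinearMap.mulRight_apply,
      sub_eq_zero] at this
    exact this.symm
  exact ⟨c, by rw [← hc, Matrix.scalar_apply, Matrix.smul_one_eq_diagonal]⟩

theorem Full.exists_conj [NeZero n] {A A' : G →* Matrix (Fin n) (Fin n) k} (hA : Full A) (hA' : Full A')
    (htr : ∀ g, trace (A g) = trace (A' g)) :
    ∃ P : Matrix (Fin n) (Fin n) k, IsUnit P.det ∧ ∀ g, P * A g = A' g * P := by
  classical
  set Φ := Finsupp.linearCombination k (fun g => A g) with hΦ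
  set Ψ := Finsupp.linearCombination k (fun g => A' g) with hΨ
  have hs : LinearMap.range Φ = ⊤ := by rw [hΦ, Finsupp.range_linearCombination]; exact hA
  obtain ⟨s, hs⟩ := Φ.exists_rightInverse_of_surjective hs
  have hker : ∀ c, Φ c = 0 → Ψ c = 0 := by
    intro c hc
    have hzero : ∀ N, trace (Ψ c * N) = 0 := fun N => by
      have htop := hA'.eq_top (LinearMap.ker ((traceLinearMap (Fin n) k k).comp (LinearMap.mulLeft k (Ψ c))))
        fun g => by
          simp only [LinearMap.mem_ker, LinearMap.comp_apply, LinearMap.mulLeft_apply, traceLinearMap_apply]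
          have h1 : trace (Φ c * A g) = 0 := by rw [hc, zero_mul, trace_zero]
          rw [← h1, hΦ, hΨ, Finsupp.linearCombination_apply, Finsupp.linearCombination_apply, Finsupp.sum,
            Finsupp.sum, Finset.sum_mul, Finset.sum_mul, trace_sum, trace_sum]
          refine Finset.sum_congr rfl fun x _ => ?_
          rw [smul_mul_assoc, smul_mul_assoc, trace_smul, trace_smul, ← map_mul, ← map_mul, htr]
      exact LinearMap.mem_ker.1 (htop ▸ Submodule.mem_top :
        N ∈ LinearMap.ker ((traceLinearMap (Fin n) k k).comp (LinearMap.mulLeft k (Ψ c))))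
    exact Matrix.ext fun i j => by simpa [trace_mul_single] using hzero (Matrix.single j i 1)
  set L : Matrix (Fin n) (Fin n) k →ₗ[k] Matrix (Fin n) (Fin n) k := Ψ.comp s with hL
  have hLg : ∀ g, L (A g) = A' g := by
    intro g
    have h1 := hker (s (A g) - Finsupp.single g 1) (by
      rw [map_sub, show Φ (s (A g)) = A g from LinearMap.congr_fun hs (A g)]
      simp [hΦ])
    rw [map_sub, sub_eq_zero] at h1
    show Ψ (s (A g)) = A' g
    rw [h1]
    simp [hΨ]
  have hmul1 : ∀ M g, L (M * A g) = L M * A' g := by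
    intro M g
    have htop := hA.eq_top (LinearMap.eqLocus (L.comp (LinearMap.mulRight k (A g)))
      ((LinearMap.mulRight k (A' g)).comp L)) fun x => by
        show L (A x * A g) = L (A x) * A' g
        rw [← map_mul, hLg, hLg, map_mul]
    exact (htop ▸ Submodule.mem_top :
      M ∈ LinearMap.eqLocus (L.comp (LinearMap.mulRight k (A g))) ((LinearMap.mulRight k (A' g)).comp L))
  have hmul : ∀ M N, L (M * N) = L M * L N := by
    intro M N
    have htop := hA.eq_top (LinearMap.eqLocus (L.comp (LinearMap.mulLeft k M))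
      ((LinearMap.mulLeft k (L M)).comp L)) fun x => by
        show L (M * A x) = L M * L (A x)
        rw [hmul1, hLg]
    exact (htop ▸ Submodule.mem_top :
      N ∈ LinearMap.eqLocus (L.comp (LinearMap.mulLeft k M)) ((LinearMap.mulLeft k (L M)).comp L))
  have hone : L 1 = 1 := by
    have := hLg 1
    rwa [A.map_one, A'.map_one] at this
  set e₀ : Fin n → k := Pi.single 0 1 with he₀
  set E₀ : Matrix (Fin n) (Fin n) k := vecMulVec e₀ e₀ with hE₀
  have hE : L E₀ ≠ 0 := by
    intro h0
    have hall : ∀ a, L (Matrix.single a a (1 : k)) = 0 := fun a => by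
      rw [show Matrix.single a a (1 : k) = Matrix.single a 0 1 * E₀ * Matrix.single 0 a 1 by
        rw [hE₀, he₀, ← single_eq_single_vecMulVec_single, single_mul_single_same, single_mul_single_same,
          mul_one, mul_one], hmul, hmul, h0, mul_zero, zero_mul]
    have : L (∑ a, Matrix.single a a (1 : k)) = 0 := by rw [map_sum]; exact Finset.sum_eq_zero fun a _ => hall a
    rw [show (∑ a, Matrix.single a a (1 : k)) = 1 by
      ext i j
      rw [Matrix.sum_apply, Matrix.one_apply]
      by_cases hij : i = j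
      · subst hij; rw [Finset.sum_eq_single i (fun b _ hb => by simp [Matrix.single_apply, hb]) (by simp)]; simp
      · rw [if_neg hij]
        exact Finset.sum_eq_zero fun b _ => by
          rw [Matrix.single_apply, if_neg]; rintro ⟨rfl, rfl⟩; exact hij rfl, hone] at this
    exact one_ne_zero this
  obtain ⟨v, hv⟩ : ∃ v, L E₀ *ᵥ v ≠ 0 := by
    by_contra hno
    push Not at hno
    exact hE (Matrix.ext fun i j => by simpa using congrFun (hno (Pi.single j 1)) i)
  set v₀ := L E₀ *ᵥ v with hv₀
  let T : (Fin n → k) →ₗ[k] (Fin n → k) :=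
    { toFun := fun x => L (vecMulVec x e₀) *ᵥ v₀
      map_add' := fun x y => by rw [add_vecMulVec, map_add, add_mulVec]
      map_smul' := fun c x => by rw [RingHom.id_apply, smul_vecMulVec, map_smul, smul_mulVec] }
  have hT : ∀ M x, T (M *ᵥ x) = L M *ᵥ T x := fun M x => by
    show L (vecMulVec (M *ᵥ x) e₀) *ᵥ v₀ = L M *ᵥ (L (vecMulVec x e₀) *ᵥ v₀)
    rw [← mul_vecMulVec, hmul, ← mulVec_mulVec]
  have hTe : T e₀ = v₀ := by
    show L E₀ *ᵥ (L E₀ *ᵥ v) = L E₀ *ᵥ v
    rw [mulVec_mulVec, ← hmul, show E₀ * E₀ = E₀ by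
      rw [hE₀, he₀, ← single_eq_single_vecMulVec_single, single_mul_single_same, mul_one]]
  have hinj : ∀ x, T x = 0 → x = 0 := by
    intro x hx
    by_contra hx0
    obtain ⟨a, ha⟩ := Function.ne_iff.1 hx0
    have h1 := hT (Matrix.single 0 a (x a)⁻¹) x
    rw [hx, mulVec_zero, show Matrix.single 0 a (x a)⁻¹ *ᵥ x = e₀ by
      ext i
      rw [single_mulVec, he₀]
      simp [Pi.single_apply, inv_mul_cancel₀ ha, Function.update_apply], hTe] at h1
    exact hv h1
  refine ⟨LinearMap.toMatrix' T, ?_, fun g => ?_⟩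
  · rw [← Matrix.isUnit_iff_isUnit_det, ← Matrix.mulVec_injective_iff_isUnit]
    intro x y hxy
    rw [LinearMap.toMatrix'_mulVec, LinearMap.toMatrix'_mulVec] at hxy
    exact sub_eq_zero.1 (hinj _ (by rw [map_sub, hxy, sub_self]))
  · refine Matrix.ext_of_mulVec_single fun i => ?_
    rw [← mulVec_mulVec, ← mulVec_mulVec, LinearMap.toMatrix'_mulVec, LinearMap.toMatrix'_mulVec, hT, hLg]

/-- The contragredient. -/
def dualHom (A : G →* Matrix (Fin n) (Fin n) k) : G →* Matrix (Fin n) (Fin n) k where
  toFun g := (A g⁻¹)ᵀ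
  map_one' := by simp
  map_mul' x y := by rw [_root_.mul_inv_rev, map_mul, transpose_mul]

theorem Full.dual {A : G →* Matrix (Fin n) (Fin n) k} (hA : Full A) : Full (dualHom A) := by
  have htop := hA.eq_top ((Submodule.span k (Set.range (dualHom A))).comap
    (transposeLinearEquiv (Fin n) (Fin n) k k).toLinearMap) fun g =>
      Submodule.subset_span ⟨g⁻¹, by simp [dualHom]⟩
  refine eq_top_iff.2 fun M _ => ?_
  have := (htop ▸ Submodule.mem_top : Mᵀ ∈ (Submodule.span k (Set.range (dualHom A))).comap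
    (transposeLinearEquiv (Fin n) (Fin n) k k).toLinearMap)
  simpa using this

/-- The twist by a ring endomorphism of the field. -/
def mapHom (σ : k →+* k) (A : G →* Matrix (Fin n) (Fin n) k) : G →* Matrix (Fin n) (Fin n) k :=
  (σ.mapMatrix : Matrix (Fin n) (Fin n) k →+* _).toMonoidHom.comp A

theorem Full.map {A : G →* Matrix (Fin n) (Fin n) k} (hA : Full A) (σ : k →+* k) : Full (mapHom σ A) := by
  set T : Submodule k (Matrix (Fin n) (Fin n) k) := Submodule.span k (Set.range (mapHom σ A)) with hT
  let S : Submodule k (Matrix (Fin n) (Fin n) k) :=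
    { carrier := {M : Matrix (Fin n) (Fin n) k | M.map σ ∈ T}
      zero_mem' := by simp
      add_mem' := fun {x y} hx hy => by
        show (x + y).map σ ∈ T
        rw [Matrix.map_add _ (map_add σ)]
        exact add_mem hx hy
      smul_mem' := fun c x hx => by
        show (c • x).map σ ∈ T
        rw [show (c • x).map σ = σ c • x.map σ by ext i j; simp]
        exact Submodule.smul_mem _ _ hx }
  have htop := hA.eq_top S fun g => Submodule.subset_span ⟨g, rfl⟩
  show T = ⊤
  refine eq_top_iff.2 fun M _ => ?_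
  rw [matrix_eq_sum_single M]
  refine Submodule.sum_mem _ fun i _ => Submodule.sum_mem _ fun j _ => ?_
  rw [← mul_one (M i j), ← smul_eq_mul, ← smul_single]
  refine Submodule.smul_mem _ _ ?_
  have h1 : Matrix.single i j (1 : k) ∈ S := htop ▸ Submodule.mem_top
  change (Matrix.single i j (1 : k)).map σ ∈ T at h1
  rwa [Matrix.map_single, map_one] at h1

/-- A symmetric matrix with zero diagonal in odd dimension is singular in characteristic two. -/
theorem det_eq_zero_of_alt [CharP k 2] (hn : Odd n) {P : Matrix (Fin n) (Fin n) k} (hsym : Pᵀ = P)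
    (hdiag : ∀ a, P a a = 0) : P.det = 0 := by
  have hs : ∀ a b, P a b = P b a := fun a b => by conv_lhs => rw [← hsym, transpose_apply]
  rw [det_apply']
  refine Finset.sum_involution (fun σ _ => σ⁻¹) (fun σ _ => ?_) (fun σ _ hne hfix => hne ?_)
    (fun σ _ => Finset.mem_univ _) (fun σ _ => inv_inv σ)
  · have e : ∏ i, P ((σ⁻¹ : Equiv.Perm (Fin n)) i) i = ∏ i, P (σ i) i := by
      rw [← Equiv.prod_comp σ (fun i => P ((σ⁻¹ : Equiv.Perm (Fin n)) i) i)]
      refine Finset.prod_congr rfl fun i _ => ?_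
      rw [Equiv.Perm.inv_def, σ.symm_apply_apply, hs]
    rw [Equiv.Perm.sign_inv, e]
    exact CharTwo.add_self_eq_zero _
  · haveI : Fact (Nat.Prime 2) := ⟨Nat.prime_two⟩
    have h2 : σ ^ 2 ^ 1 = 1 := by
      rw [pow_one, pow_two]
      nth_rewrite 1 [← hfix]
      exact inv_mul_cancel σ
    obtain ⟨a, ha⟩ := Equiv.Perm.exists_fixed_point_of_prime (p := 2) (n := 1)
      (by rw [Fintype.card_fin]; exact fun h => (Nat.not_even_iff_odd.2 hn) (even_iff_two_dvd.2 h)) h2
    rw [Finset.prod_eq_zero (f := fun i => P (σ i) i) (Finset.mem_univ a) (by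
      show P (σ a) a = 0
      rw [ha]; exact hdiag a), mul_zero]

theorem sum_symm_eq [CharP k 2] (f : Fin n → Fin n → k) (hf : ∀ a b, f a b = f b a) :
    ∑ a, ∑ b, f a b = ∑ a, f a a := by
  classical
  rw [← Fintype.sum_prod_type' f, ← Finset.sum_filter_add_sum_filter_not Finset.univ
    (fun w : Fin n × Fin n => w.1 = w.2) (fun w => f w.1 w.2)]
  have h0 : ∑ w ∈ Finset.univ.filter (fun w : Fin n × Fin n => ¬ w.1 = w.2), f w.1 w.2 = 0 :=
    Finset.sum_involution (fun w _ => w.swap) (fun w _ => by
        show f w.1 w.2 + f w.2 w.1 = 0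
        rw [hf w.2 w.1]; exact CharTwo.add_self_eq_zero _)
      (fun w hw _ h => (Finset.mem_filter.1 hw).2 (congrArg Prod.snd h))
      (fun w hw => Finset.mem_filter.2 ⟨Finset.mem_univ _, fun h => (Finset.mem_filter.1 hw).2 h.symm⟩)
      (fun w _ => Prod.swap_swap w)
  rw [h0, add_zero]
  exact Finset.sum_nbij' (fun w => w.1) (fun a => (a, a)) (by simp) (by simp)
    (fun w hw => Prod.ext rfl (Finset.mem_filter.1 hw).2) (by simp)
    (fun w hw => by rw [(Finset.mem_filter.1 hw).2])

/-- A self-dual full homomorphism has even dimension unless it has dimension one. -/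
theorem Full.even_dim [CharP k 2] [IsAlgClosed k] [NeZero n] {A : G →* Matrix (Fin n) (Fin n) k} (hA : Full A)
    (hn : n ≠ 1) (htr : ∀ g, trace (A g⁻¹) = trace (A g)) : Even n := by
  by_contra hodd
  rw [Nat.not_even_iff_odd] at hodd
  obtain ⟨P, hP, hPA⟩ := hA.exists_conj hA.dual fun g => by
    show _ = trace (A g⁻¹)ᵀ
    rw [trace_transpose, htr]
  have hPT : ∀ g, Pᵀ * A g = (A g⁻¹)ᵀ * Pᵀ := fun g => by
    have := congrArg transpose (hPA g⁻¹)
    rw [transpose_mul, transpose_mul] at this
    change (A g⁻¹)ᵀ * Pᵀ = Pᵀ * ((A g⁻¹⁻¹)ᵀ)ᵀ at this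
    rw [inv_inv, transpose_transpose] at this
    exact this.symm
  obtain ⟨c, hc⟩ := hA.scalar (P := P⁻¹ * Pᵀ) fun g => by
    have h1 : P * A g = (A g⁻¹)ᵀ * P := hPA g
    have h2 : P⁻¹ * (A g⁻¹)ᵀ = A g * P⁻¹ := by
      calc P⁻¹ * (A g⁻¹)ᵀ = P⁻¹ * ((A g⁻¹)ᵀ * P) * P⁻¹ := by
            rw [mul_assoc, mul_assoc, Matrix.mul_nonsing_inv _ hP, mul_one]
        _ = A g * P⁻¹ := by rw [← h1, ← mul_assoc, Matrix.nonsing_inv_mul _ hP, one_mul]
    rw [mul_assoc, hPT, ← mul_assoc, h2, mul_assoc]
  have hsc : Pᵀ = c • P := by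
    have := congrArg (P * ·) hc
    rwa [← mul_assoc, Matrix.mul_nonsing_inv _ hP, one_mul, mul_smul_comm, mul_one] at this
  have hP0 : P ≠ 0 := fun h => by
    rw [h, Matrix.det_zero] at hP
    exact not_isUnit_zero hP
  have hc1 : c = 1 := by
    have h1 := congrArg transpose hsc
    rw [transpose_transpose, transpose_smul, hsc, smul_smul] at h1
    have h2 : c * c = 1 := by
      obtain ⟨i, j, hij⟩ : ∃ i j, P i j ≠ 0 := by
        by_contra hno; push Not at hno; exact hP0 (Matrix.ext hno)
      have := congrFun (congrFun h1 i) j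
      rw [Matrix.smul_apply, smul_eq_mul] at this
      exact mul_right_cancel₀ hij (by rw [one_mul]; exact this.symm)
    exact CharTwo.sq_injective (by simpa [pow_two] using h2)
  rw [hc1, one_smul] at hsc
  have hs : ∀ a b, P a b = P b a := fun a b => by conv_lhs => rw [← hsc, transpose_apply]
  choose d hd using fun a => IsAlgClosed.exists_pow_nat_eq (P a a) (n := 2) two_pos
  have hfix : ∀ g, (A g)ᵀ *ᵥ d = d := by
    intro g
    have h1 : (A g)ᵀ * P * A g = P := by
      rw [mul_assoc, hPA g]
      show (A g)ᵀ * ((A g⁻¹)ᵀ * P) = P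
      rw [← mul_assoc, ← transpose_mul, ← map_mul, inv_mul_cancel, map_one, transpose_one, one_mul]
    funext a
    refine CharTwo.sq_injective ?_
    show ((A g)ᵀ *ᵥ d) a ^ 2 = d a ^ 2
    rw [hd a]
    conv_rhs => rw [← h1]
    simp only [mulVec, dotProduct, transpose_apply, mul_apply, Finset.sum_mul]
    rw [Finset.sum_comm, sum_symm_eq _ (fun b e => by rw [hs b e]; ring), CharTwo.sum_sq]
    exact Finset.sum_congr rfl fun b _ => by rw [mul_pow, hd]; ring
  by_cases hd0 : d = 0
  · rw [det_eq_zero_of_alt hodd hsc fun a => by rw [← hd a, hd0, Pi.zero_apply, zero_pow two_ne_zero]] at hP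
    exact not_isUnit_zero hP
  obtain ⟨a, ha⟩ := Function.ne_iff.1 hd0
  obtain ⟨b, hb⟩ : ∃ b, b ≠ a := by
    by_contra hno
    push Not at hno
    haveI : Subsingleton (Fin n) := ⟨fun x y => (hno x).trans (hno y).symm⟩
    have := Fintype.card_le_one_iff_subsingleton.2 this
    rw [Fintype.card_fin] at this
    have := NeZero.pos n
    omega
  let Φ : Matrix (Fin n) (Fin n) k →ₗ[k] (Fin n → k) :=
    { toFun := fun M => Mᵀ *ᵥ d
      map_add' := fun x y => by rw [transpose_add, add_mulVec]
      map_smul' := fun c x => by simp [transpose_smul, smul_mulVec] }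
  have htop := hA.eq_top ((Submodule.span k {d}).comap Φ) fun g => by
    show (A g)ᵀ *ᵥ d ∈ Submodule.span k {d}
    rw [hfix]; exact Submodule.mem_span_singleton_self d
  have hmem : (Matrix.single a b (1 : k))ᵀ *ᵥ d ∈ Submodule.span k {d} :=
    (htop ▸ Submodule.mem_top : Matrix.single a b (1 : k) ∈ (Submodule.span k {d}).comap Φ)
  obtain ⟨e, he⟩ := Submodule.mem_span_singleton.1 hmem
  rw [transpose_single, single_mulVec, one_mul] at he
  have h1 := congrFun he a
  rw [Function.update_apply, if_neg hb.symm, Pi.zero_apply, Pi.smul_apply, smul_eq_mul,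
    mul_eq_zero] at h1
  have h2 := congrFun he b
  rw [Function.update_self, Pi.smul_apply, h1.resolve_right ha, zero_smul] at h2
  exact ha h2.symm

end Cfsg.Agent.Invol.GW.Klein
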