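import Cfsg.Agent.Lib.Block.KleinOrder
import Cfsg.Agent.Lib.Char.DecompBlock
import Cfsg.Agent.Lib.Char.InvariantForm

/-!
# Preparations for a rational principal block with Klein four defect

The average over a finite set in the group algebra, squares of elements of odd order, the sum of a class
function over the elements of even order, and the reduction of rational integers modulo two.
-/

set_option autoImplicit false
set_option linter.unusedSectionVars false
set_option linter.style.haveILetI false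

namespace Cfsg.Agent.Invol.GW.Klein

open Cfsg Cfsg.Agent.Block Cfsg.Agent.Char.Spec Cfsg.Agent.Char.Res

universe u

variable {G : Type u} [Group G] [Fintype G] [DecidableEq G] {M : Ideal AlgInt}

/-- The average over a finite set, in the group algebra. -/
noncomputable def avgA (s : Finset G) : MonoidAlgebra ℂ G :=
  (s.card : ℂ)⁻¹ • ∑ x ∈ s, MonoidAlgebra.single x 1

theorem avgA_idem {s : Finset G} (hne : s.Nonempty) (hmul : ∀ x ∈ s, ∀ y ∈ s, x * y ∈ s) :
    avgA s * avgA s = avgA s := by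
  have hrow : ∀ x ∈ s, MonoidAlgebra.single x (1 : ℂ) * ∑ y ∈ s, MonoidAlgebra.single y 1 =
      ∑ y ∈ s, MonoidAlgebra.single y 1 := by
    intro x hx
    have himg : s.image (x * ·) = s := Finset.eq_of_subset_of_card_le
      (Finset.image_subset_iff.2 fun y hy => hmul x hx y hy)
      (by rw [Finset.card_image_of_injective _ (mul_right_injective x)])
    conv_rhs => rw [← himg, Finset.sum_image fun a _ b _ h => mul_left_cancel h]
    rw [Finset.mul_sum]
    simp only [MonoidAlgebra.single_mul_single, mul_one]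
  have h0 : (s.card : ℂ) ≠ 0 := Nat.cast_ne_zero.2 hne.card_pos.ne'
  rw [avgA, smul_mul_assoc, mul_smul_comm, Finset.sum_mul, Finset.sum_congr rfl hrow, Finset.sum_const,
    ← Nat.cast_smul_eq_nsmul ℂ, smul_smul, smul_smul]
  congr 1
  field_simp

theorem ring_inv_card (hM : IsPModular 2 M) {s : Finset G} (hodd : Odd s.card) :
    MemLocalRing M (s.card : ℂ)⁻¹ :=
  ring_inv_natCast hM fun h => (Nat.not_even_iff_odd.2 hodd) (even_iff_two_dvd.2 h)

theorem avgA_ring (hM : IsPModular 2 M) {s : Finset G} (hodd : Odd s.card) : AlgRing M (avgA s) :=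
  (AlgRing.sum hM fun x _ => AlgRing.single hM x).smul hM (ring_inv_card hM hodd)

theorem redA_sum {p : ℕ} (hM : IsPModular p M) {ι : Type*} (s : Finset ι) {x : ι → MonoidAlgebra ℂ G}
    (hx : ∀ i ∈ s, AlgRing M (x i)) : redA hM (∑ i ∈ s, x i) = ∑ i ∈ s, redA hM (x i) := by
  classical
  induction s using Finset.induction_on with
  | empty => simp [redA_zero]
  | insert i s hi ih =>
    rw [Finset.sum_insert hi, Finset.sum_insert hi, redA_add hM (hx i (Finset.mem_insert_self i s))
      (AlgRing.sum hM fun j hj => hx j (Finset.mem_insert_of_mem hj)),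
      ih fun j hj => hx j (Finset.mem_insert_of_mem hj)]

theorem red_natCast_two (hM : IsPModular 2 M) {n : ℕ} (hn : Odd n) : red hM (n : ℂ) = 1 := by
  letI := resInst hM
  haveI : CharP (ResField hM) 2 := resField_charP hM
  obtain ⟨k, rfl⟩ := hn
  rw [red_natCast hM, Nat.cast_add, Nat.cast_mul, Nat.cast_two, CharTwo.two_eq_zero (R := ResField hM), zero_mul,
    zero_add, Nat.cast_one]

theorem avgA_red (hM : IsPModular 2 M) {s : Finset G} (hodd : Odd s.card) :
    redA hM (avgA s) = ∑ x ∈ s, MonoidAlgebra.single x 1 := by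
  have hc : red hM (s.card : ℂ)⁻¹ = 1 := by
    have h1 := red_mul hM (ring_inv_card hM hodd) (ring_natCast hM s.card)
    rw [inv_mul_cancel₀ (Nat.cast_ne_zero.2 hodd.pos.ne'), red_one, red_natCast_two hM hodd, mul_one] at h1
    exact h1.symm
  rw [avgA, redA_smul hM (ring_inv_card hM hodd) (AlgRing.sum hM fun x _ => AlgRing.single hM x), hc, one_smul,
    redA_sum hM s fun x _ => AlgRing.single hM x]
  exact Finset.sum_congr rfl fun x _ => redA_single hM x

theorem ev_avgA (f : G → ℂ) (s : Finset G) : ev f (avgA s) = (s.card : ℂ)⁻¹ * ∑ x ∈ s, f x := by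
  rw [avgA, ev_smul, ev_sum]
  simp [ev_single]

/-- Reduction of a square: modulo two a rational integer is its own square. -/
theorem red_int_sq (hM : IsPModular 2 M) (m : ℤ) : red hM (m : ℂ) * red hM (m : ℂ) = red hM (m : ℂ) := by
  rw [← red_mul hM (ring_intCast hM m) (ring_intCast hM m),
    red_eq_red hM (ring_mul hM (ring_intCast hM m) (ring_intCast hM m)) (ring_intCast hM m),
    show (m : ℂ) * m - m = ((m * m - m : ℤ) : ℂ) by push_cast; ring, ideal_intCast_iff hM]
  rcases Int.even_or_odd m with ⟨j, rfl⟩ | ⟨j, rfl⟩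
  · exact ⟨2 * j * j - j, by push_cast; ring⟩
  · exact ⟨2 * j * j + j, by push_cast; ring⟩

/-- A rational character has congruent values at `g` and at its square. -/
theorem red_char_sq (hM : IsPModular 2 M) (χ : IrrCharacter G) {g : G} {m : ℤ} (hm : (χ : G → ℂ) g = m) :
    red hM ((χ : G → ℂ) (g * g)) = red hM ((χ : G → ℂ) g) := by
  letI := resInst hM
  haveI : CharP (ResField hM) 2 := resField_charP hM
  obtain ⟨d, ρ, hρ⟩ := irr_isChar χ
  obtain ⟨b, c, -, hc, hk⟩ := Cfsg.Agent.Char.exists_rep_eigenbasis ρ g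
  have hr : ∀ i, MemLocalRing M (c i) := fun i => ring_of_integral hM <|
    IsIntegral.of_pow (orderOf_pos g) (by rw [hc i]; exact isIntegral_one)
  have h1 : (χ : G → ℂ) g = ∑ i, c i := by simpa [← hρ] using hk 1
  have h2 : (χ : G → ℂ) (g * g) = ∑ i, c i * c i := by simpa [← hρ, pow_two] using hk 2
  conv_rhs => rw [hm, ← red_int_sq hM m, ← hm, h1, red_sum hM fun i _ => hr i, CharTwo.sum_mul_self]
  rw [h2, red_sum hM fun i _ => ring_mul hM (hr i) (hr i)]
  exact Finset.sum_congr rfl fun i _ => red_mul hM (hr i) (hr i)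

/-- Squaring permutes a set of elements of odd order closed under powers. -/
theorem sum_sq_odd {s : Finset G} (hodd : ∀ g ∈ s, Odd (orderOf g)) (hpow : ∀ g ∈ s, ∀ n : ℕ, g ^ n ∈ s)
    {R : Type*} [AddCommMonoid R] (F : G → R) : ∑ g ∈ s, F (g * g) = ∑ g ∈ s, F g := by
  refine Finset.sum_nbij' (fun g => g * g) (fun g => g ^ ((orderOf g + 1) / 2))
    (fun g hg => by simpa [pow_two] using hpow g hg 2) (fun g hg => hpow g hg _) (fun g hg => ?_)
    (fun g hg => ?_) fun g _ => rfl
  · have ho : orderOf (g * g) = orderOf g := by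
      rw [← pow_two]
      exact (Nat.coprime_two_right.2 (hodd g hg)).orderOf_pow
    obtain ⟨k, hk⟩ := hodd g hg
    show (g * g) ^ ((orderOf (g * g) + 1) / 2) = g
    rw [ho, ← pow_two, ← pow_mul, show 2 * ((orderOf g + 1) / 2) = orderOf g + 1 by omega, pow_succ,
      pow_orderOf_eq_one, one_mul]
  · obtain ⟨k, hk⟩ := hodd g hg
    show g ^ ((orderOf g + 1) / 2) * g ^ ((orderOf g + 1) / 2) = g
    rw [← pow_add, show (orderOf g + 1) / 2 + (orderOf g + 1) / 2 = orderOf g + 1 by omega, pow_succ,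
      pow_orderOf_eq_one, one_mul]

variable {P : Sylow 2 G}

/-- The sum of a class function over the elements of even order. -/
theorem sum_singular (hP : IsKleinFour (P : Subgroup G))
    (hone : ∀ s t : G, orderOf s = 2 → orderOf t = 2 → IsConj s t) {z : G} (hz : orderOf z = 2)
    {C : Subgroup G} (hC : C = Subgroup.centralizer ({z} : Set G)) {K : Subgroup C} (hKn : K.Normal)
    (hK : ¬ 2 ∣ Nat.card K) (hidx : K.index = 2 ^ 2) [Fintype K] {F : G → ℂ} (hF : IsClassFunction G F) :
    ∑ g ∈ Finset.univ.filter (fun g : G => 2 ∣ orderOf g), F g =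
      (C.index : ℂ) * ∑ k : K, F (z * ((k : C) : G)) := by
  classical
  have hCmem : ∀ {w : G}, w ∈ C → w * z = z * w := fun {w} hw =>
    Subgroup.mem_centralizer_singleton_iff.1 (hC ▸ hw)
  set Sg := Finset.univ.filter (fun g : G => 2 ∣ orderOf g) with hSg
  obtain ⟨hsurj, hcard⟩ := KleinOrder.singular_facts hP hone hz hC hKn hK hidx
  let f : (G ⧸ C) × K → G := fun w => w.1.out * (z * ((w.2 : C) : G)) * w.1.out⁻¹
  have hmem : ∀ w, f w ∈ Sg := fun w => by
    refine Finset.mem_filter.2 ⟨Finset.mem_univ _, ?_⟩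
    rw [show orderOf (f w) = orderOf (z * ((w.2 : C) : G)) from MulEquiv.orderOf_eq (MulAut.conj w.1.out) _]
    have hk : ¬ 2 ∣ orderOf ((w.2 : C) : G) := fun h => hK (by
      rw [Subgroup.orderOf_coe, Subgroup.orderOf_coe] at h
      exact h.trans (orderOf_dvd_natCard w.2))
    have hc : Commute z ((w.2 : C) : G) := (hCmem (w.2 : C).2).symm
    rw [hc.orderOf_mul_eq_mul_orderOf_of_coprime (by rw [hz]; exact (Nat.prime_two.coprime_iff_not_dvd.2 hk)),
      hz]
    exact dvd_mul_right 2 _
  have hs : ∀ g ∈ Sg, ∃ w, f w = g := by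
    intro g hg
    obtain ⟨s, k, hk, rfl⟩ := hsurj g (Finset.mem_filter.1 hg).2
    obtain ⟨c, hc⟩ := QuotientGroup.mk_out_eq_mul C s
    refine ⟨((s : G ⧸ C), ⟨c⁻¹ * k * c⁻¹⁻¹, hKn.conj_mem k hk c⁻¹⟩), ?_⟩
    have hcz : (c : G) * z = z * (c : G) := hCmem c.2
    show (s : G ⧸ C).out * (z * ((c⁻¹ * k * c⁻¹⁻¹ : C) : G)) * (s : G ⧸ C).out⁻¹ = _
    rw [hc]
    push_cast
    calc s * (c : G) * (z * ((c : G)⁻¹ * (k : G) * (c : G)⁻¹⁻¹)) * (s * (c : G))⁻¹
        = s * ((c : G) * z) * ((c : G)⁻¹ * (k : G)) * s⁻¹ := by group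
      _ = s * (z * (k : G)) * s⁻¹ := by rw [hcz]; group
  have hle : (Finset.univ : Finset ((G ⧸ C) × K)).card ≤ Sg.card := by
    rw [Finset.card_univ, ← Nat.card_eq_fintype_card, Nat.card_prod, ← Subgroup.index_eq_card]
    have h1 := Subgroup.index_mul_card C
    have h2 := K.card_mul_index
    rw [hidx] at h2
    rw [← h1, ← h2] at hcard
    rw [← hSg, show C.index * (Nat.card ↥K * 2 ^ 2) = 4 * (C.index * Nat.card ↥K) by ring] at hcard
    omega
  have hinj := Finset.injOn_of_surjOn_of_card_le f (s := Finset.univ) (t := Sg) (fun w _ => hmem w)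
    (fun g hg => (hs g hg).imp fun w hw => ⟨Finset.mem_univ w, hw⟩) hle
  rw [← Finset.sum_bij (s := Finset.univ) (f := fun w => F (z * ((w.2 : C) : G))) (g := F) (fun w _ => f w)
      (fun w _ => hmem w) (fun a ha b hb e => hinj ha hb e)
      (fun g hg => (hs g hg).imp fun w hw => ⟨Finset.mem_univ w, hw⟩)
      (fun w _ => (hF _ w.1.out).symm),
    Fintype.sum_prod_type]
  simp only [Finset.sum_const, Finset.card_univ, nsmul_eq_mul, Subgroup.index_eq_card, Nat.card_eq_fintype_card]

end Cfsg.Agent.Invol.GW.Klein
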