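import Cfsg.Agent.Lib.Invol.GW.Klein.BlocksExt
import Cfsg.Agent.Lib.Invol.GW.Klein.BlocksPrincipal

/-!
# Class functions on the singular elements from linear characters of a centraliser

For a linear character `l` of `C(t)` trivial on `V` the integers `coef l χ` are the coefficients of the class
function which is `l(x)` at `t * x`.  They satisfy the orthogonality relations and the identity of the order
formula of the principal block.
-/

set_option autoImplicit false
set_option linter.unusedSectionVars false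
set_option linter.style.haveILetI false

open scoped ComplexConjugate

namespace Cfsg.Agent.Invol.GW.Klein

open Cfsg Subgroup

universe u

variable {G : Type u} [Group G]

/-- A linear character of a centraliser, as a function on the group. -/
noncomputable def lf {t : G} (l : ↥(centralizer ({t} : Set G)) →* ℂˣ) (g : G) : ℂ := by
  classical exact if hg : g ∈ centralizer ({t} : Set G) then ((l ⟨g, hg⟩ : ℂˣ) : ℂ) else 0

variable {t : G} (l : ↥(centralizer ({t} : Set G)) →* ℂˣ)

theorem lf_apply {g : G} (hg : g ∈ centralizer ({t} : Set G)) : lf l g = ((l ⟨g, hg⟩ : ℂˣ) : ℂ) := dif_pos hg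

theorem lf_one : lf l 1 = 1 := by
  rw [lf_apply l (one_mem _), show (⟨1, one_mem _⟩ : ↥(centralizer ({t} : Set G))) = 1 from rfl, map_one,
    Units.val_one]

theorem lf_mul {a b : G} (ha : a ∈ centralizer ({t} : Set G)) (hb : b ∈ centralizer ({t} : Set G)) :
    lf l (a * b) = lf l a * lf l b := by
  rw [lf_apply l ha, lf_apply l hb, lf_apply l (mul_mem ha hb), ← Units.val_mul, ← map_mul]
  rfl

theorem lf_conj {c a : G} (hc : c ∈ centralizer ({t} : Set G)) (ha : a ∈ centralizer ({t} : Set G)) :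
    lf l (c * a * c⁻¹) = lf l a := by
  rw [lf_mul l (mul_mem hc ha) (inv_mem hc), lf_mul l hc ha, mul_comm (lf l c), mul_assoc,
    ← lf_mul l hc (inv_mem hc), mul_inv_cancel, lf_one, mul_one]

theorem lf_ne_zero {a : G} (ha : a ∈ centralizer ({t} : Set G)) : lf l a ≠ 0 := by
  rw [lf_apply l ha]; exact Units.ne_zero _

variable [Fintype G]

theorem conj_lf {a : G} (ha : a ∈ centralizer ({t} : Set G)) : conj (lf l a) = (lf l a)⁻¹ := by
  rw [lf_apply l ha]
  refine (Complex.inv_eq_conj ?_).symm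
  have h1 : ((l ⟨a, ha⟩ : ℂˣ) : ℂ) ^ Nat.card ↥(centralizer ({t} : Set G)) = 1 := by
    rw [← Units.val_pow_eq_pow_val, ← map_pow, pow_card_eq_one', map_one, Units.val_one]
  exact Complex.norm_eq_one_of_pow_eq_one h1 Nat.card_pos.ne'

variable [DecidableEq G]

/-- The value of a function on the core, moved to the elements of even order. -/
noncomputable def secFun (t : G) (f : G → ℂ) (g : G) : ℂ := by
  classical exact if hg : ∃ x : G, x ∈ oddCent t ∧ ∃ s : G, g = s * (t * x) * s⁻¹ then f hg.choose else 0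

/-- The coefficient of a character at a linear character. -/
noncomputable def coef (χ : G → ℂ) : ℂ :=
  ((oddCent t).card : ℂ)⁻¹ * ∑ x ∈ oddCent t, conj (lf l x) * χ (t * x)

omit l in
theorem prod_mult_nat {A B : Type u} [Group A] [Fintype A] [Group B] [Fintype B] (ι : A × B →* G)
    (χ : IrrCharacter G) (α : A →* ℂˣ) (β : IrrCharacter B) :
    ∃ n : ℕ, ∑ a : A, ∑ b : B, (χ : G → ℂ) (ι (a, b)) * conj ((α a : ℂ) * (β : B → ℂ) b) =
      (Fintype.card A : ℂ) * (Fintype.card B : ℂ) * n := by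
  obtain ⟨n, hn⟩ := Char.IsChar.classInner_nat (Char.IsChar.comp ι (Block.irr_isChar χ))
    (Char.IsChar.mul (Char.IsChar.comp (MonoidHom.fst A B) (Char.IsIrr.isCharacter (Char.isIrr_linear α)))
      (Char.IsChar.comp (MonoidHom.snd A B) (Block.irr_isChar β)))
  refine ⟨n, ?_⟩
  rw [classInner, inv_mul_eq_iff_eq_mul₀ (Nat.cast_ne_zero.2 Nat.card_pos.ne')] at hn
  rw [Nat.card_eq_fintype_card, Fintype.card_prod, Nat.cast_mul, Fintype.sum_prod_type] at hn
  exact hn

namespace Hyp

variable {V : Sylow 2 G} {u : G} (h : Hyp V t u)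
include h

omit l in
theorem mem_oddCent_iff {x : G} : x ∈ oddCent t ↔ x ∈ coreCent t := by
  rw [mem_oddCent]
  exact ⟨fun ⟨h1, h2⟩ => h.mem_coreCent_of_odd h1 h2,
    fun hx => ⟨h.commute_of_mem hx, Odd.of_dvd_nat h.odd_coreCent ((coreCent t).orderOf_dvd_natCard hx)⟩⟩

omit l in
theorem card_oddCent : (oddCent t).card = Nat.card ↥(coreCent t) := by
  classical
  rw [Nat.card_eq_fintype_card, Fintype.card_subtype]
  congr 1
  ext x
  simp [h.mem_oddCent_iff]

omit l in
theorem oddCent_card_ne : ((oddCent t).card : ℂ) ≠ 0 := by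
  rw [h.card_oddCent]; exact Nat.cast_ne_zero.2 Nat.card_pos.ne'

omit l in
theorem mem_cent {x : G} (hx : x ∈ oddCent t) : x ∈ centralizer ({t} : Set G) :=
  h.coreCent_le (h.mem_oddCent_iff.1 hx)

omit l in
theorem t_mem_cent : t ∈ centralizer ({t} : Set G) := h.le_centralizer h.ht

omit l in
theorem pow_eq_t {x : G} (hx : x ∈ oddCent t) : (t * x) ^ orderOf x = t := by
  obtain ⟨hc, k, hk⟩ := mem_oddCent.1 hx
  rw [hc.symm.mul_pow, pow_orderOf_eq_one, mul_one, hk, pow_succ, pow_mul, pow_two, h.mul_self h.ht, one_pow,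
    one_mul]

omit l in
theorem conj_unique {x y s : G} (hx : x ∈ oddCent t) (hy : y ∈ oddCent t) (e : s * (t * x) * s⁻¹ = t * y) :
    s ∈ centralizer ({t} : Set G) ∧ s * x * s⁻¹ = y := by
  have hord : orderOf x = orderOf y := by
    have h1 : orderOf (t * x) = orderOf (t * y) := by
      rw [← e]; exact (MulEquiv.orderOf_eq (MulAut.conj s) _).symm
    have h2 : ∀ z ∈ oddCent t, orderOf (t * z) = 2 * orderOf z := fun z hz => by
      rw [(mem_oddCent.1 hz).1.symm.orderOf_mul_eq_mul_orderOf_of_coprime, h.orderOf_eq h.ht h.ht1]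
      rw [h.orderOf_eq h.ht h.ht1]
      exact Nat.coprime_two_left.2 (mem_oddCent.1 hz).2
    rw [h2 x hx, h2 y hy] at h1
    omega
  have ht' : s * t * s⁻¹ = t := by
    have := congrArg (· ^ orderOf x) e
    simp only [conj_pow] at this
    rwa [h.pow_eq_t hx, hord, h.pow_eq_t hy] at this
  refine ⟨mem_centralizer_singleton_iff.2 (mul_inv_eq_iff_eq_mul.1 ht'), mul_left_cancel (a := t) ?_⟩
  rw [← e]
  conv_lhs => arg 1; rw [← ht']
  group

theorem secFun_apply (s : G) {x : G} (hx : x ∈ oddCent t) : secFun t (lf l) (s * (t * x) * s⁻¹) = lf l x := by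
  classical
  have hex : ∃ y : G, y ∈ oddCent t ∧ ∃ s' : G, s * (t * x) * s⁻¹ = s' * (t * y) * s'⁻¹ := ⟨x, hx, s, rfl⟩
  have key : ∀ y s' : G, y ∈ oddCent t → s * (t * x) * s⁻¹ = s' * (t * y) * s'⁻¹ → lf l y = lf l x := by
    intro y s' hy e
    obtain ⟨hc, hxy⟩ := h.conj_unique (s := s'⁻¹ * s) hx hy (by
      rw [show s'⁻¹ * s * (t * x) * (s'⁻¹ * s)⁻¹ = s'⁻¹ * (s * (t * x) * s⁻¹) * s' by group, e]
      group)
    rw [← hxy, lf_conj l hc (h.mem_cent hx)]
  rw [secFun, dif_pos hex]
  obtain ⟨hy, s', e⟩ := hex.choose_spec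
  exact key _ s' hy e

omit l in
theorem secFun_regular (f : G → ℂ) {g : G} (hg : ¬ 2 ∣ orderOf g) : secFun t f g = 0 := by
  classical
  rw [secFun, dif_neg]
  rintro ⟨x, hx, s, rfl⟩
  refine hg ?_
  rw [show orderOf (s * (t * x) * s⁻¹) = orderOf (t * x) from MulEquiv.orderOf_eq (MulAut.conj s) _,
    (mem_oddCent.1 hx).1.symm.orderOf_mul_eq_mul_orderOf_of_coprime, h.orderOf_eq h.ht h.ht1]
  · exact dvd_mul_right 2 _
  · rw [h.orderOf_eq h.ht h.ht1]
    exact Nat.coprime_two_left.2 (mem_oddCent.1 hx).2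

theorem secFun_classFun : IsClassFunction G (secFun t (lf l)) := by
  classical
  intro g w
  by_cases hg : ∃ x : G, x ∈ oddCent t ∧ ∃ s : G, g = s * (t * x) * s⁻¹
  · obtain ⟨x, hx, s, rfl⟩ := hg
    rw [show w * (s * (t * x) * s⁻¹) * w⁻¹ = (w * s) * (t * x) * (w * s)⁻¹ by group, h.secFun_apply l _ hx,
      h.secFun_apply l _ hx]
  · have hg' : ¬ ∃ x : G, x ∈ oddCent t ∧ ∃ s : G, w * g * w⁻¹ = s * (t * x) * s⁻¹ := by
      rintro ⟨x, hx, s, e⟩
      refine hg ⟨x, hx, w⁻¹ * s, ?_⟩
      rw [show g = w⁻¹ * (w * g * w⁻¹) * w by group, e]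
      group
    rw [secFun, dif_neg hg', secFun, dif_neg hg]

omit l in
theorem exists_rep {g : G} (hg : 2 ∣ orderOf g) : ∃ x ∈ oddCent t, ∃ s : G, g = s * (t * x) * s⁻¹ := by
  obtain ⟨K, hKn, hK, hidx⟩ := Block.klein_centralizer_complement V h.klein h.ht h.ht1
  obtain ⟨hsurj, -⟩ := Block.KleinOrder.singular_facts h.klein h.one (h.orderOf_eq h.ht h.ht1) rfl hKn hK hidx
  obtain ⟨s, k, hk, e⟩ := hsurj g hg
  refine ⟨(k : G), mem_oddCent.2 ⟨mem_centralizer_singleton_iff.1 k.2, ?_⟩, s, e.symm⟩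
  rw [Subgroup.orderOf_coe, ← Nat.not_even_iff_odd, even_iff_two_dvd]
  exact fun hd => hK (hd.trans (K.orderOf_dvd_natCard hk))

omit l in
/-- The sum of a class function over the singular elements. -/
theorem sum_sing {F : G → ℂ} (hF : IsClassFunction G F) :
    ∑ g ∈ Finset.univ.filter (fun g : G => 2 ∣ orderOf g), F g =
      ((centralizer ({t} : Set G)).index : ℂ) * ∑ x ∈ oddCent t, F (t * x) := by
  classical
  haveI : Fact (Nat.Prime 2) := ⟨Nat.prime_two⟩
  obtain ⟨K, hKn, hK, hidx⟩ := Block.klein_centralizer_complement V h.klein h.ht h.ht1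
  haveI := hKn
  rw [sum_singular h.klein h.one (h.orderOf_eq h.ht h.ht1) rfl hKn hK hidx hF]
  congr 1
  refine Finset.sum_bij (fun k _ => ((k : ↥(centralizer ({t} : Set G))) : G)) (fun k _ => ?_)
    (fun a _ b _ e => Subtype.ext (Subtype.ext e)) (fun x hx => ?_) (fun k _ => rfl)
  · refine mem_oddCent.2 ⟨mem_centralizer_singleton_iff.1 (k : ↥(centralizer ({t} : Set G))).2, ?_⟩
    rw [Subgroup.orderOf_coe, ← Nat.not_even_iff_odd, even_iff_two_dvd]
    exact fun hd => hK (hd.trans (K.orderOf_dvd_natCard k.2))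
  · refine ⟨⟨⟨x, h.mem_cent hx⟩, Block.regular_mem_of_index_pPow hidx ?_⟩, Finset.mem_univ _, rfl⟩
    rw [← Subgroup.orderOf_coe]
    exact fun hd => (Nat.not_even_iff_odd.2 (mem_oddCent.1 hx).2) (even_iff_two_dvd.2 hd)

omit l in
theorem card_eq : (Nat.card G : ℂ) = ((centralizer ({t} : Set G)).index : ℂ) * ((oddCent t).card : ℂ) * 4 := by
  rw [← (centralizer ({t} : Set G)).index_mul_card, h.card_centralizer, h.card_oddCent]
  push_cast
  ring

/-- The coefficient is four times an inner product. -/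
theorem inner_secFun {F : G → ℂ} (hF : IsClassFunction G F) :
    classInner F (secFun t (lf l)) = coef l F / 4 := by
  classical
  have hc : IsClassFunction G (fun g => F g * conj (secFun t (lf l) g)) := fun g w => by
    show F (w * g * w⁻¹) * conj (secFun t (lf l) (w * g * w⁻¹)) = _
    rw [hF g w, h.secFun_classFun l g w]
  have hne := h.oddCent_card_ne
  have hI : ((centralizer ({t} : Set G)).index : ℂ) ≠ 0 := Nat.cast_ne_zero.2 Subgroup.index_ne_zero_of_finite
  rw [classInner, ← Finset.sum_filter_add_sum_filter_not Finset.univ (fun g : G => 2 ∣ orderOf g)]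
  rw [h.sum_sing hc, Finset.sum_eq_zero (s := Finset.univ.filter fun g : G => ¬ 2 ∣ orderOf g) fun g hg => by
    rw [h.secFun_regular (lf l) (Finset.mem_filter.1 hg).2, map_zero, mul_zero], add_zero, h.card_eq, coef,
    Finset.sum_congr rfl (g := fun x => conj (lf l x) * F (t * x)) fun x hx => by
      have := h.secFun_apply l 1 hx
      rw [one_mul, inv_one, mul_one] at this
      rw [this, mul_comm]]
  field_simp

/-- The coefficients are integers. -/
theorem coef_int (χ : IrrCharacter G) : ∃ m : ℤ, coef l (χ : G → ℂ) = m := by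
  classical
  set T := zpowers t
  have hT : ∀ w : T, (w : G) = 1 ∨ (w : G) = t := fun w => by
    obtain ⟨i, hi⟩ := mem_zpowers_iff.1 w.2
    rw [← hi, ← zpow_mod_orderOf, h.orderOf_eq h.ht h.ht1]
    rcases Int.emod_two_eq_zero_or_one i with e | e <;> simp [e]
  let sgn : T →* ℂˣ :=
    { toFun := fun w => if (w : G) = 1 then 1 else -1
      map_one' := if_pos rfl
      map_mul' := fun a b => by
        rcases hT a with ea | ea <;> rcases hT b with eb | eb <;>
          simp [ea, eb, h.ht1, h.mul_self h.ht] }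
  let ι : T × ↥(coreCent t) →* G := MonoidHom.noncommCoprod T.subtype (coreCent t).subtype fun w x => by
    rcases hT w with e | e
    · rw [coe_subtype, e]; exact Commute.one_left _
    · rw [coe_subtype, e]; exact (h.commute_of_mem x.2).symm
  let β : IrrCharacter ↥(coreCent t) :=
    ⟨fun x => ((l.comp (Subgroup.inclusion h.coreCent_le)) x : ℂ), Char.isIrr_linear _⟩
  obtain ⟨n₁, hn₁⟩ := prod_mult_nat ι χ 1 β
  obtain ⟨n₂, hn₂⟩ := prod_mult_nat ι χ sgn β
  have hTc : Fintype.card T = 2 := by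
    rw [← Nat.card_eq_fintype_card, Nat.card_zpowers, h.orderOf_eq h.ht h.ht1]
  have hTu : (Finset.univ : Finset T) = {1, ⟨t, mem_zpowers t⟩} := by
    refine (Finset.eq_univ_of_card _ ?_).symm
    rw [Finset.card_insert_of_notMem (by simp [Subtype.ext_iff, Ne.symm h.ht1]), Finset.card_singleton, hTc]
  have hne1 : (1 : T) ≠ ⟨t, mem_zpowers t⟩ := by simp [Subtype.ext_iff, Ne.symm h.ht1]
  rw [hTc, hTu, Finset.sum_pair hne1] at hn₁ hn₂
  simp only [ι, MonoidHom.noncommCoprod_apply, sgn, MonoidHom.coe_mk, OneHom.coe_mk, OneMemClass.coe_one, coe_subtype,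
    if_true, if_neg h.ht1, one_mul, Units.val_one, Units.val_neg, MonoidHom.one_apply, map_neg, neg_mul,
    mul_neg, Finset.sum_neg_distrib] at hn₁ hn₂
  refine ⟨(n₁ : ℤ) - n₂, ?_⟩
  rw [coef, inv_mul_eq_iff_eq_mul₀ h.oddCent_card_ne]
  have hsum : ∑ x : ↥(coreCent t), (χ : G → ℂ) (t * (x : G)) * conj ((β : ↥(coreCent t) → ℂ) x) =
      ∑ x ∈ oddCent t, conj (lf l x) * (χ : G → ℂ) (t * x) := by
    refine Finset.sum_bij (fun x _ => (x : G)) (fun x _ => h.mem_oddCent_iff.2 x.2)
      (fun a _ b _ e => Subtype.ext e) (fun x hx => ⟨⟨x, h.mem_oddCent_iff.1 hx⟩, Finset.mem_univ _, rfl⟩)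
      fun x _ => ?_
    rw [lf_apply l (h.coreCent_le x.2), mul_comm]
    rfl
  rw [← hsum, h.card_oddCent, Nat.card_eq_fintype_card]
  push_cast
  linear_combination (hn₁ - hn₂) / 2

theorem inner_secFun' (χ : IrrCharacter G) :
    classInner (secFun t (lf l)) (χ : G → ℂ) = coef l (χ : G → ℂ) / 4 := by
  obtain ⟨m, hm⟩ := h.coef_int l χ
  rw [← Char.classInner_conj_symm, h.inner_secFun l (Block.irr_classFun χ), hm, map_div₀, map_intCast, map_ofNat]

/-- The expansion. -/
theorem sum_coef_mul (g : G) :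
    ∑ χ : IrrCharacter G, coef l (χ : G → ℂ) * (χ : G → ℂ) g = 4 * secFun t (lf l) g := by
  have := congrFun (Char.classFunction_expansion (h.secFun_classFun l)) g
  rw [this, Finset.sum_apply, Finset.mul_sum]
  refine Finset.sum_congr rfl fun χ _ => ?_
  rw [Pi.smul_apply, smul_eq_mul, h.inner_secFun' l]
  ring

theorem sum_coef_degree : ∑ χ : IrrCharacter G, coef l (χ : G → ℂ) * (χ : G → ℂ) 1 = 0 := by
  rw [h.sum_coef_mul, h.secFun_regular _ (by simp), mul_zero]

theorem sum_coef_mul_coef (l' : ↥(centralizer ({t} : Set G)) →* ℂˣ) :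
    ∑ χ : IrrCharacter G, coef l (χ : G → ℂ) * coef l' (χ : G → ℂ) =
      4 * (((oddCent t).card : ℂ)⁻¹ * ∑ x ∈ oddCent t, conj (lf l' x) * lf l x) := by
  have h1 := h.inner_secFun l' (h.secFun_classFun l)
  conv_lhs at h1 => arg 1; rw [Char.classFunction_expansion (h.secFun_classFun l)]
  rw [Char.classInner_sum_left] at h1
  simp only [Char.classInner_smul_left, h.inner_secFun' l, h.inner_secFun l' (Block.irr_classFun _)] at h1
  have h2 : coef l' (secFun t (lf l)) = ((oddCent t).card : ℂ)⁻¹ * ∑ x ∈ oddCent t, conj (lf l' x) * lf l x := by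
    rw [coef]
    refine congrArg _ (Finset.sum_congr rfl fun x hx => ?_)
    have := h.secFun_apply l 1 hx
    rw [one_mul, inv_one, mul_one] at this
    rw [this]
  rw [← h2]
  have h3 : (∑ χ : IrrCharacter G, coef l (χ : G → ℂ) * coef l' (χ : G → ℂ)) =
      16 * ∑ χ : IrrCharacter G, coef l (χ : G → ℂ) / 4 * (coef l' (χ : G → ℂ) / 4) := by
    rw [Finset.mul_sum]
    exact Finset.sum_congr rfl fun χ _ => by ring
  rw [h3, h1]
  ring

theorem sum_coef_sq : ∑ χ : IrrCharacter G, coef l (χ : G → ℂ) * coef l (χ : G → ℂ) = 4 := by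
  rw [h.sum_coef_mul_coef, Finset.sum_congr rfl (g := fun _ => (1 : ℂ)) fun x hx => by
    rw [conj_lf l (h.mem_cent hx), inv_mul_cancel₀ (lf_ne_zero l (h.mem_cent hx))],
    Finset.sum_const, nsmul_eq_mul, mul_one, inv_mul_cancel₀ h.oddCent_card_ne, mul_one]

theorem lf_involution (hlV : ∀ v ∈ (V : Subgroup G), lf l v = 1) {a : G}
    (ha : a ∈ centralizer ({t} : Set G)) (haa : a * a = 1) : lf l a = 1 := by
  obtain ⟨x, hx, v, hv, rfl⟩ := h.exists_mul ha
  have hxC := h.coreCent_le hx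
  have hvC := h.le_centralizer hv
  have h1 := congrArg (lf l) haa
  rw [lf_mul l (mul_mem hxC hvC) (mul_mem hxC hvC), lf_mul l hxC hvC, hlV v hv, mul_one, lf_one] at h1
  rw [lf_mul l hxC hvC, hlV v hv, mul_one]
  obtain ⟨k, hk⟩ := Odd.of_dvd_nat h.odd_coreCent ((coreCent t).orderOf_dvd_natCard hx)
  have h2 : lf l x ^ orderOf x = 1 := by
    rw [lf_apply l hxC, ← Units.val_pow_eq_pow_val, ← map_pow]
    rw [show (⟨x, hxC⟩ : ↥(centralizer ({t} : Set G))) ^ orderOf x = 1 from Subtype.ext (pow_orderOf_eq_one x),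
      map_one, Units.val_one]
  rwa [hk, pow_succ, pow_mul, pow_two, h1, one_pow, one_mul] at h2

/-- The identity of the order formula. -/
theorem sum_coef_order {M : Ideal AlgInt} (hM : IsPModular 2 M) (hlV : ∀ v ∈ (V : Subgroup G), lf l v = 1) :
    32 * (Nat.card ↥(coreCent t) : ℂ) ^ 3 = (Nat.card G : ℂ) * (Nat.card ↥(fixR t u) : ℂ) ^ 2 *
      ∑ χ : IrrCharacter G, coef l (χ : G → ℂ) * (χ : G → ℂ) t ^ 2 / (χ : G → ℂ) 1 := by
  classical
  have ht2 := h.orderOf_eq h.ht h.ht1
  set f : G → ℂ := fun g => if 2 ∣ orderOf g then 1 else 0 with hf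
  have hfc : IsClassFunction G f := fun g w => by
    show (if 2 ∣ orderOf (w * g * w⁻¹) then (1 : ℂ) else 0) = _
    rw [show orderOf (w * g * w⁻¹) = orderOf g from MulEquiv.orderOf_eq (MulAut.conj w) g]
  have hsame : ∀ g : G, secFun t (lf l) (t * (g * t * g⁻¹)) = f (t * (g * t * g⁻¹)) := by
    intro g
    by_cases hsing : 2 ∣ orderOf (t * (g * t * g⁻¹))
    · obtain ⟨x, hx, k, hk⟩ := h.exists_rep hsing
      rw [hk, h.secFun_apply l k hx]
      simp only [hf, ← hk, if_pos hsing]
      set a := k⁻¹ * t * k with ha'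
      set b := k⁻¹ * (g * t * g⁻¹) * k with hb'
      have hab : a * b = t * x := by
        rw [ha', hb', show k⁻¹ * t * k * (k⁻¹ * (g * t * g⁻¹) * k) = k⁻¹ * (t * (g * t * g⁻¹)) * k by group, hk]
        group
      have haa : a * a = 1 := by
        rw [ha', show k⁻¹ * t * k * (k⁻¹ * t * k) = k⁻¹ * (t * t) * k by group, h.mul_self h.ht, mul_one,
          inv_mul_cancel]
      have hbb : b * b = 1 := by
        rw [hb', show k⁻¹ * (g * t * g⁻¹) * k * (k⁻¹ * (g * t * g⁻¹) * k) = k⁻¹ * g * (t * t) * g⁻¹ * k by group,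
          h.mul_self h.ht]
        group
      obtain ⟨hta, htb⟩ := Block.KleinOrder.comm_of_pPart haa hbb (h.mul_self h.ht)
        (show t ∈ zpowers (a * b) from mem_zpowers_iff.2 ⟨(orderOf x : ℤ), by
          rw [hab, zpow_natCast, h.pow_eq_t hx]⟩)
      have haC : a ∈ centralizer ({t} : Set G) := mem_centralizer_singleton_iff.2 hta.symm
      have hbC : b ∈ centralizer ({t} : Set G) := mem_centralizer_singleton_iff.2 htb.symm
      have h1 := congrArg (lf l) hab
      rw [lf_mul l haC hbC, h.lf_involution l hlV haC haa, h.lf_involution l hlV hbC hbb,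
        lf_mul l h.t_mem_cent (h.mem_cent hx), hlV t h.ht, one_mul, one_mul] at h1
      exact h1.symm
    · rw [h.secFun_regular _ hsing]
      simp only [hf, if_neg hsing]
  have hl := Block.sum_classFun_mul_conj (h.secFun_classFun l) t t
  have h1 := Block.sum_classFun_mul_conj hfc t t
  rw [Finset.sum_congr rfl fun g _ => hsame g, h1] at hl
  have hB := Block.KleinOrder.order_formula hM h.klein h.one h.ht ht2
  have hin := Block.KleinOrder.inner_singular hM h.klein h.one h.ht ht2
  rw [← hf] at hin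
  have hl' : ∑ χ ∈ Finset.univ.filter (· ∈ principalBlock M G), (χ : G → ℂ) t ^ 3 / (χ : G → ℂ) 1 =
      ∑ χ : IrrCharacter G, coef l (χ : G → ℂ) * (χ : G → ℂ) t ^ 2 / (χ : G → ℂ) 1 := by
    calc ∑ χ ∈ Finset.univ.filter (· ∈ principalBlock M G), (χ : G → ℂ) t ^ 3 / (χ : G → ℂ) 1
        = 4 * ∑ χ : IrrCharacter G, classInner f (χ : G → ℂ) * (χ : G → ℂ) t * (χ : G → ℂ) t / (χ : G → ℂ) 1 := by
          rw [Finset.sum_filter, Finset.mul_sum]
          refine Finset.sum_congr rfl fun χ _ => ?_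
          rw [hin]
          split_ifs <;> ring
      _ = 4 * ∑ χ : IrrCharacter G, classInner (secFun t (lf l)) (χ : G → ℂ) * (χ : G → ℂ) t * (χ : G → ℂ) t /
            (χ : G → ℂ) 1 := by rw [hl]
      _ = _ := by
          rw [Finset.mul_sum]
          exact Finset.sum_congr rfl fun χ _ => by rw [h.inner_secFun' l]; ring
  rw [hl', h.card_centralizer, h.card_centralizer_sylow] at hB
  push_cast at hB
  linear_combination hB / 16

end Hyp

end Cfsg.Agent.Invol.GW.Klein
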