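import Cfsg.Agent.Lib.Invol.GW.Klein.BlocksSection

/-!
# The values on a coset of the core are combinations of one orbit of linear characters

`L` is a set of linear characters of `C(t)` whose sum is invariant under fusion in `R`.  If a character has a
nonzero coefficient at a member of `L`, its values on `t * U` are combinations of the members of `L`: the sum of
the conjugates is a test function which separates the blocks of `C(t)` inducing the block of the character.
-/

set_option autoImplicit false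
set_option linter.unusedSectionVars false
set_option linter.style.haveILetI false

open scoped ComplexConjugate

namespace Cfsg.Agent.Invol.GW.Klein

open Cfsg Subgroup

universe u

variable {G : Type u} [Group G] [Fintype G] [DecidableEq G]

/-- A function on a centraliser, extended by zero. -/
noncomputable def cExt {t : G} (ξ : ↥(centralizer ({t} : Set G)) → ℂ) (x : G) : ℂ := by
  classical exact if hx : x ∈ centralizer ({t} : Set G) then ξ ⟨x, hx⟩ else 0

theorem cExt_apply {t : G} (ξ : ↥(centralizer ({t} : Set G)) → ℂ) {x : G} (hx : x ∈ centralizer ({t} : Set G)) :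
    cExt ξ x = ξ ⟨x, hx⟩ := dif_pos hx

namespace Hyp

variable {V : Sylow 2 G} {t u : G} (h : Hyp V t u)
include h

/-- Orthogonality on the core. -/
theorem sum_conj_mul {l l' : ↥(centralizer ({t} : Set G)) →* ℂˣ} (hne : ∃ x ∈ oddCent t, lf l x ≠ lf l' x) :
    ∑ x ∈ oddCent t, conj (lf l x) * lf l' x = 0 := by
  classical
  obtain ⟨x₀, hx₀, hne⟩ := hne
  let f : ↥(coreCent t) →* ℂ :=
    (Units.coeHom ℂ).comp ((l⁻¹ * l').comp (Subgroup.inclusion h.coreCent_le))
  have hf : ∀ x : ↥(coreCent t), f x = conj (lf l x) * lf l' x := fun x => by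
    rw [conj_lf l (h.coreCent_le x.2), lf_apply l (h.coreCent_le x.2), lf_apply l' (h.coreCent_le x.2)]
    simp [f]
    rfl
  have hf1 : f ≠ 1 := by
    intro e
    have h1 := hf ⟨x₀, h.mem_oddCent_iff.1 hx₀⟩
    rw [e, MonoidHom.one_apply, conj_lf l (h.mem_cent hx₀)] at h1
    exact hne ((inv_mul_eq_one₀ (lf_ne_zero l (h.mem_cent hx₀))).1 h1.symm)
  rw [← sum_hom_units_eq_zero f hf1]
  exact (Finset.sum_bij (s := (Finset.univ : Finset ↥(coreCent t))) (fun x _ => (x : G))
    (fun x _ => h.mem_oddCent_iff.2 x.2) (fun a _ b _ e => Subtype.ext e)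
    (fun x hx => ⟨⟨x, h.mem_oddCent_iff.1 hx⟩, Finset.mem_univ _, rfl⟩) fun x _ => hf x).symm

theorem sum_conj_self (l : ↥(centralizer ({t} : Set G)) →* ℂˣ) :
    ∑ x ∈ oddCent t, conj (lf l x) * lf l x = ((oddCent t).card : ℂ) := by
  rw [Finset.sum_congr rfl (g := fun _ => (1 : ℂ)) fun x hx => by
    rw [conj_lf l (h.mem_cent hx), inv_mul_cancel₀ (lf_ne_zero l (h.mem_cent hx))],
    Finset.sum_const, nsmul_eq_mul, mul_one]

/-- A character of the centraliser with a nonzero inner product with a linear one is a multiple of it on the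
core. -/
theorem constituent_core (l : ↥(centralizer ({t} : Set G)) →* ℂˣ)
    (ξ : IrrCharacter ↥(centralizer ({t} : Set G)))
    (hne : ∑ x ∈ oddCent t, conj (lf l x) * cExt (ξ : ↥(centralizer ({t} : Set G)) → ℂ) x ≠ 0)
    (x : ↥(centralizer ({t} : Set G))) (hx : (x : G) ∈ coreCent t) :
    (ξ : ↥(centralizer ({t} : Set G)) → ℂ) x = (ξ : ↥(centralizer ({t} : Set G)) → ℂ) 1 * lf l x := by
  classical
  set φ : IrrCharacter ↥(centralizer ({t} : Set G)) :=
    ⟨fun c => ((l⁻¹ c : ℂˣ) : ℂ) * (ξ : ↥(centralizer ({t} : Set G)) → ℂ) c, Char.IsIrr.mul_linear ξ.2 l⁻¹⟩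
  set P := (coreCent t).subgroupOf (centralizer ({t} : Set G))
  haveI : P.Normal := normal_subgroupOf_of_le_normalizer h.le_normalizer_coreCent
  have hφ : ∀ c : ↥(centralizer ({t} : Set G)),
      (φ : ↥(centralizer ({t} : Set G)) → ℂ) c = (lf l c)⁻¹ * (ξ : ↥(centralizer ({t} : Set G)) → ℂ) c := fun c => by
    rw [lf_apply l c.2]
    show ((l⁻¹ c : ℂˣ) : ℂ) * _ = _
    rw [MonoidHom.inv_apply, Units.val_inv_eq_inv_val]
  have hker : ∀ w ∈ P, (φ : ↥(centralizer ({t} : Set G)) → ℂ) w = (φ : ↥(centralizer ({t} : Set G)) → ℂ) 1 := by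
    by_contra hno
    refine hne ?_
    have h0 := Block.sum_normal_mul_eq_zero P φ hno 1
    simp only [mul_one, hφ] at h0
    refine Eq.trans ?_ h0
    refine (Finset.sum_bij (s := (Finset.univ : Finset P)) (fun w _ => ((w : ↥(centralizer ({t} : Set G))) : G))
      (fun w _ => h.mem_oddCent_iff.2 (mem_subgroupOf.1 w.2)) (fun a _ b _ e => Subtype.ext (Subtype.ext e))
      (fun y hy => ⟨⟨⟨y, h.mem_cent hy⟩, mem_subgroupOf.2 (h.mem_oddCent_iff.1 hy)⟩, Finset.mem_univ _, rfl⟩)
      fun w _ => ?_).symm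
    rw [cExt_apply _ (w : ↥(centralizer ({t} : Set G))).2, conj_lf l (w : ↥(centralizer ({t} : Set G))).2]
  have h1 := hker x (mem_subgroupOf.2 hx)
  rw [hφ, hφ, OneMemClass.coe_one, lf_one, inv_one, one_mul,
    inv_mul_eq_iff_eq_mul₀ (lf_ne_zero l x.2), mul_comm] at h1
  exact h1

/-- The values on `t * U`. -/
theorem value_span {M : Ideal AlgInt} (hM : IsPModular 2 M) (L : Finset (↥(centralizer ({t} : Set G)) →* ℂˣ))
    (hdist : ∀ l ∈ L, ∀ l' ∈ L, (∀ x ∈ oddCent t, lf l x = lf l' x) → l = l')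
    (hinv : ∀ x ∈ fixR t u, ∀ n ∈ normalizer ((V : Subgroup G) : Set G),
      ∑ l ∈ L, lf l (n * x * n⁻¹) = ∑ l ∈ L, lf l x)
    {l₀ : ↥(centralizer ({t} : Set G)) →* ℂˣ} (hl₀ : l₀ ∈ L) (χ : IrrCharacter G)
    (hne : coef l₀ (χ : G → ℂ) ≠ 0) :
    ∀ y ∈ oddCent t, (χ : G → ℂ) (t * y) = ∑ l ∈ L, coef l (χ : G → ℂ) * lf l y := by
  classical
  haveI : Fact (Nat.Prime 2) := ⟨Nat.prime_two⟩
  set c : G → ℂ := fun x => ∑ l ∈ L, conj (lf l x) with hc
  have horth : ∀ l ∈ L, ∀ l' ∈ L, ∑ x ∈ oddCent t, conj (lf l x) * lf l' x =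
      if l = l' then ((oddCent t).card : ℂ) else 0 := by
    intro l hl l' hl'
    split_ifs with e
    · rw [e, h.sum_conj_self]
    · exact h.sum_conj_mul (by
        by_contra hno
        push Not at hno
        exact e (hdist l hl l' hl' hno))
  -- the test function is constant on fusion classes
  have hcconj : ∀ g ∈ centralizer ({t} : Set G), ∀ x ∈ coreCent t, c (g * x * g⁻¹) = c x := fun g hg x hx =>
    Finset.sum_congr rfl fun l _ => by rw [lf_conj l hg (h.coreCent_le hx)]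
  have hcR : ∀ x ∈ fixR t u, ∀ n ∈ normalizer ((V : Subgroup G) : Set G), c (n * x * n⁻¹) = c x := fun x hx n hn => by
    simp only [hc, ← map_sum, hinv x hx n hn]
  have hfus : ∀ {x y : G}, x ∈ oddCent t → y ∈ oddCent t → IsConj x y → c x = c y := by
    intro x y hx hy hxy
    rw [h.mem_oddCent_iff] at hx hy
    obtain ⟨g, hg⟩ := isConj_iff.1 hxy
    rcases h.fusion hx hy hg with ⟨d, hd, e⟩ | ⟨d, hd, d', hd', hx', n, hn, e⟩
    · rw [← e, hcconj d hd x hx]
    · rw [← hcconj d hd x hx, ← hcconj d' hd' y hy, ← e, hcR _ hx' n hn]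
  set F : G → ℂ := fun g => if hg : ∃ x, x ∈ oddCent t ∧ IsConj x g then c hg.choose else 0 with hF
  have hFc : IsClassFunction G F := by
    intro g w
    have hcg : IsConj g (w * g * w⁻¹) := isConj_iff.2 ⟨w, rfl⟩
    by_cases hg : ∃ x, x ∈ oddCent t ∧ IsConj x g
    · have hg' : ∃ x, x ∈ oddCent t ∧ IsConj x (w * g * w⁻¹) := ⟨_, hg.choose_spec.1, hg.choose_spec.2.trans hcg⟩
      simp only [hF, dif_pos hg, dif_pos hg']
      exact hfus hg'.choose_spec.1 hg.choose_spec.1
        (hg'.choose_spec.2.trans (hcg.symm.trans hg.choose_spec.2.symm))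
    · have hg' : ¬ ∃ x, x ∈ oddCent t ∧ IsConj x (w * g * w⁻¹) := fun ⟨x, hx, hxy⟩ =>
        hg ⟨x, hx, hxy.trans hcg.symm⟩
      simp only [hF, dif_neg hg, dif_neg hg']
  have hFU : ∀ x ∈ oddCent t, F x = c x := fun x hx => by
    have hg : ∃ y, y ∈ oddCent t ∧ IsConj y x := ⟨x, hx, IsConj.refl x⟩
    simp only [hF, dif_pos hg]
    exact hfus hg.choose_spec.1 hx hg.choose_spec.2
  have hF0 : ∀ g ∈ centralizer ({t} : Set G), g ∉ oddCent t → F g = 0 := by
    intro g hg hgU
    simp only [hF]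
    rw [dif_neg]
    rintro ⟨x, hx, hxy⟩
    refine hgU (mem_oddCent.2 ⟨mem_centralizer_singleton_iff.1 hg, ?_⟩)
    obtain ⟨w, rfl⟩ := isConj_iff.1 hxy
    rw [show orderOf (w * x * w⁻¹) = orderOf x from MulEquiv.orderOf_eq (MulAut.conj w) x]
    exact (mem_oddCent.1 hx).2
  have hFring : ∀ g, MemLocalRing M (F g) := by
    intro g
    simp only [hF]
    split_ifs with hg
    · refine Block.ring_sum hM fun l _ => Block.ring_of_integral hM ?_
      rw [conj_lf l (h.mem_cent hg.choose_spec.1)]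
      refine IsIntegral.of_pow (Nat.card_pos (α := ↥(centralizer ({t} : Set G)))) ?_
      rw [inv_pow, lf_apply l (h.mem_cent hg.choose_spec.1), ← Units.val_pow_eq_pow_val, ← map_pow, pow_card_eq_one',
        map_one, Units.val_one, inv_one]
      exact isIntegral_one
    · exact Block.ring_zero hM
  set f : IrrCharacter G → ℂ := fun η => Block.omegaFun η F
  have hf : Block.CenInt M f := fun g => by rw [Block.coeffFun_omegaFun hFc]; exact hFring g
  -- the values of the test element at the characters of the centraliser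
  let ext : IrrCharacter ↥(centralizer ({t} : Set G)) → G → ℂ := fun ξ => cExt (ξ : ↥(centralizer ({t} : Set G)) → ℂ)
  have hres : ∀ ξ : IrrCharacter ↥(centralizer ({t} : Set G)), Block.resCen (centralizer ({t} : Set G)) f ξ =
      (∑ l ∈ L, ∑ x ∈ oddCent t, conj (lf l x) * ext ξ x) / (ξ : ↥(centralizer ({t} : Set G)) → ℂ) 1 := by
    intro ξ
    rw [Block.resCen_eq_omegaFun, Block.omegaFun, Finset.sum_comm]
    congr 1
    simp only [f, Block.coeffFun_omegaFun hFc, ← Finset.sum_mul]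
    rw [Finset.sum_congr rfl (s₂ := Finset.univ) (g := fun d : ↥(centralizer ({t} : Set G)) =>
      if (d : G) ∈ oddCent t then c d * ext ξ d else 0) fun d _ => by
        split_ifs with hd
        · rw [hFU _ hd]
          simp only [ext, cExt_apply _ d.2]
        · rw [hF0 _ d.2 hd, zero_mul],
      ← Finset.sum_filter]
    exact Finset.sum_bij (fun d _ => (d : G)) (fun d hd => (Finset.mem_filter.1 hd).2)
      (fun a _ b _ e => Subtype.ext e)
      (fun x hx => ⟨⟨x, h.mem_cent hx⟩, Finset.mem_filter.2 ⟨Finset.mem_univ _, hx⟩, rfl⟩) fun d _ => rfl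
  have ht2 : ∃ k : ℕ, orderOf t = 2 ^ k := ⟨1, by rw [h.orderOf_eq h.ht h.ht1, pow_one]⟩
  set B := blockOf M (χ : G → ℂ) with hB
  set S := Finset.univ.filter (fun ξ : IrrCharacter ↥(centralizer ({t} : Set G)) =>
    IsInducedBlock M _ (blockOf M (ξ : ↥(centralizer ({t} : Set G)) → ℂ)) B) with hS
  let cx : IrrCharacter ↥(centralizer ({t} : Set G)) → ℂ := fun ξ =>
    classInner (fun d : ↥(centralizer ({t} : Set G)) => (χ : G → ℂ) (t * (d : G)))
      (ξ : ↥(centralizer ({t} : Set G)) → ℂ)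
  have hval : ∀ y ∈ oddCent t, (χ : G → ℂ) (t * y) = ∑ ξ ∈ S, cx ξ * ext ξ y := by
    intro y hy
    have hreg : ¬ 2 ∣ orderOf (⟨y, h.mem_cent hy⟩ : ↥(centralizer ({t} : Set G))) := by
      rw [← Subgroup.orderOf_coe]
      exact fun hd => (Nat.not_even_iff_odd.2 (mem_oddCent.1 hy).2) (even_iff_two_dvd.2 hd)
    have := Block.value_eq_sum_inducing hM ht2 (Block.isPBlock_blockOf (M := M) χ) hreg χ
    rw [if_pos (Block.mem_blockOf_self hM χ)] at this
    rw [← this]
    refine Finset.sum_congr rfl fun ξ _ => ?_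
    simp only [cx, ext, cExt_apply _ (h.mem_cent hy)]
  have hcoef : ∀ l : ↥(centralizer ({t} : Set G)) →* ℂˣ, coef l (χ : G → ℂ) =
      ∑ ξ ∈ S, cx ξ * (((oddCent t).card : ℂ)⁻¹ * ∑ x ∈ oddCent t, conj (lf l x) * ext ξ x) := by
    intro l
    rw [coef, Finset.sum_congr rfl fun x hx => by rw [hval x hx, Finset.mul_sum], Finset.sum_comm, Finset.mul_sum]
    simp only [Finset.mul_sum]
    exact Finset.sum_congr rfl fun ξ _ => Finset.sum_congr rfl fun x _ => by ring
  obtain ⟨ξ₀, hξ₀, hξ₀ne⟩ : ∃ ξ₀ ∈ S, ∑ x ∈ oddCent t, conj (lf l₀ x) * ext ξ₀ x ≠ 0 := by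
    by_contra hno
    push Not at hno
    refine hne ?_
    rw [hcoef]
    exact Finset.sum_eq_zero fun ξ hξ => by rw [hno ξ hξ, mul_zero, mul_zero]
  have hext : ∀ (ξ : IrrCharacter ↥(centralizer ({t} : Set G))) (l : ↥(centralizer ({t} : Set G)) →* ℂˣ),
      ∑ x ∈ oddCent t, conj (lf l x) * ext ξ x ≠ 0 →
      ∀ x ∈ oddCent t, ext ξ x = (ξ : ↥(centralizer ({t} : Set G)) → ℂ) 1 * lf l x := fun ξ l hl x hx => by
    simp only [ext, cExt_apply _ (h.mem_cent hx)]
    exact h.constituent_core l ξ hl ⟨x, h.mem_cent hx⟩ (h.mem_oddCent_iff.1 hx)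
  have hkey : ∀ ξ ∈ S, ∃ l ∈ L, ∀ x ∈ oddCent t, ext ξ x = (ξ : ↥(centralizer ({t} : Set G)) → ℂ) 1 * lf l x := by
    intro ξ hξ
    by_contra hno
    push Not at hno
    have hz : ∀ l ∈ L, ∑ x ∈ oddCent t, conj (lf l x) * ext ξ x = 0 := fun l hl => by
      by_contra hl'
      obtain ⟨x, hx, hx'⟩ := hno l hl
      exact hx' (hext ξ l hl' x hx)
    have h0 : Block.resCen (centralizer ({t} : Set G)) f ξ = 0 := by
      rw [hres, Finset.sum_eq_zero hz, zero_div]
    have h1 : Block.resCen (centralizer ({t} : Set G)) f ξ₀ = ((oddCent t).card : ℂ) := by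
      rw [hres, Finset.sum_congr rfl (g := fun l => (ξ₀ : ↥(centralizer ({t} : Set G)) → ℂ) 1 *
        ∑ x ∈ oddCent t, conj (lf l x) * lf l₀ x) fun l _ => by
          rw [Finset.mul_sum]
          exact Finset.sum_congr rfl fun x hx => by rw [hext ξ₀ l₀ hξ₀ne x hx]; ring,
        ← Finset.mul_sum, Finset.sum_congr rfl fun l hl => horth l hl l₀ hl₀, Finset.sum_ite_eq' L l₀,
        if_pos hl₀, mul_div_cancel_left₀ _ (Block.irr_one_ne_zero ξ₀)]
    have hχB : χ ∈ B := Block.mem_blockOf_self hM χ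
    have e0 := Block.induced_congr hM (Finset.mem_filter.1 hξ).2 hf (Block.mem_blockOf_self hM ξ) hχB
    have e1 := Block.induced_congr hM (Finset.mem_filter.1 hξ₀).2 hf (Block.mem_blockOf_self hM ξ₀) hχB
    have e := Block.ideal_sub hM e1 e0
    rw [h0, h1, zero_sub, sub_neg_eq_add, sub_add_cancel, Block.ideal_natCast_iff hM, h.card_oddCent] at e
    exact (Nat.not_even_iff_odd.2 h.odd_coreCent) (even_iff_two_dvd.2 e)
  choose g hg hgeq using hkey
  intro y hy
  rw [hval y hy, Finset.sum_congr rfl fun l (_ : l ∈ L) => by rw [hcoef l, Finset.sum_mul], Finset.sum_comm]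
  refine Finset.sum_congr rfl fun ξ hξ => ?_
  rw [hgeq ξ hξ y hy]
  calc cx ξ * ((ξ : ↥(centralizer ({t} : Set G)) → ℂ) 1 * lf (g ξ hξ) y)
      = cx ξ * ∑ l ∈ L, (if l = g ξ hξ then (ξ : ↥(centralizer ({t} : Set G)) → ℂ) 1 else 0) * lf l y := by
        rw [Finset.sum_congr rfl fun l _ => by rw [ite_mul, zero_mul], Finset.sum_ite_eq' L (g ξ hξ),
          if_pos (hg ξ hξ)]
    _ = _ := by
        rw [Finset.mul_sum]
        refine Finset.sum_congr rfl fun l hl => ?_
        rw [Finset.sum_congr rfl (g := fun x => (ξ : ↥(centralizer ({t} : Set G)) → ℂ) 1 *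
          (conj (lf l x) * lf (g ξ hξ) x)) fun x hx => by rw [hgeq ξ hξ x hx]; ring,
          ← Finset.mul_sum, horth l hl _ (hg ξ hξ)]
        have := h.oddCent_card_ne
        split_ifs with e
        · field_simp
        · simp

end Hyp

end Cfsg.Agent.Invol.GW.Klein
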