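import Cfsg.Agent.Lib.Invol.GW.Klein.CaseOne
import Cfsg.Agent.Lib.Transfer.OmegaMetacyclic
import Cfsg.Agent.Lib.Grp.CountCyclic

/-!
# Gorenstein–Walter, Klein four, case II: `Ω₁Z(O_l(U))` is an inverted line

The elements of order `l` of the second centre give an inverted plane (impossible by the blocks), translations, or
an extraspecial group of order `l³` with a short orbit, against the order formula.
-/

set_option autoImplicit false
set_option linter.unusedSectionVars false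

namespace Cfsg.Agent.Invol.GW.Klein

open Subgroup
open scoped Pointwise commutatorElement

universe u

variable {G : Type u} [Group G] [Finite G]

/-- The elements of order dividing `l` of `Y` central in it modulo its central subgroup `B`. -/
def centTwo (l : ℕ) (Y B : Subgroup G) (hBY : ∀ b ∈ B, ∀ g ∈ Y, Commute b g) (hl : Odd l)
    (hBl : ∀ b ∈ B, b ^ l = 1) : Subgroup G where
  carrier := {x | x ∈ Y ∧ x ^ l = 1 ∧ ∀ g ∈ Y, ⁅x, g⁆ ∈ B}
  one_mem' := ⟨one_mem _, one_pow _, fun g _ => by simp⟩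
  mul_mem' := fun {a b} ha hb => ⟨mul_mem ha.1 hb.1, by
    have hc := ha.2.2 b hb.1
    have hd : b * a = a * b * ⁅a, b⁆⁻¹ := by
      rw [← ((hBY _ (inv_mem hc) _ (mul_mem ha.1 hb.1)).eq), commutatorElement_def]
      group
    rw [Grp.CountCyclic.mul_pow_of_central a b ⁅a, b⁆⁻¹ hd (hBY _ (inv_mem hc) _ ha.1) (hBY _ (inv_mem hc) _ hb.1),
      ha.2.1, hb.2.1, one_mul, one_mul]
    obtain ⟨k, rfl⟩ := hl
    rw [Nat.choose_two_right, show (2 * k + 1) * (2 * k + 1 - 1) / 2 = (2 * k + 1) * k by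
      rw [show 2 * k + 1 - 1 = k * 2 by omega, ← mul_assoc, Nat.mul_div_cancel _ two_pos],
      pow_mul, hBl _ (inv_mem hc), one_pow], fun g hg => by
    have h1 : ⁅a * b, g⁆ = a * ⁅b, g⁆ * a⁻¹ * ⁅a, g⁆ := by simp only [commutatorElement_def]; group
    rw [h1, ← (hBY _ (hb.2.2 g hg) a ha.1).eq, mul_inv_cancel_right]
    exact mul_mem (hb.2.2 g hg) (ha.2.2 g hg)⟩
  inv_mem' := fun {a} ha => ⟨inv_mem ha.1, by rw [inv_pow, ha.2.1, inv_one], fun g hg => by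
    have h1 : ⁅a⁻¹, g⁆ = a⁻¹ * ⁅a, g⁆⁻¹ * a := by simp only [commutatorElement_def]; group
    rw [h1, mul_assoc, (hBY _ (inv_mem (ha.2.2 g hg)) a ha.1).eq, inv_mul_cancel_left]
    exact inv_mem (ha.2.2 g hg)⟩

namespace Ctx

variable {V : Sylow 2 G} {t u : G} {l : ℕ} (c : Ctx V t u l)
include c

/-- `U` normalises no inverted plane of elements of order `l`. -/
theorem no_inverted_plane (A : Subgroup G) (hAU : A ≤ coreCent t) (hAl : ∀ a ∈ A, a ^ l = 1)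
    (hUA : coreCent t ≤ normalizer (A : Set G)) (hinv : ∀ a ∈ A, u * a * u⁻¹ = a⁻¹)
    (hcard : l < Nat.card ↥A) : False := by
  haveI := c.fact_prime
  set U := coreCent t with hU
  have hNA : ∀ g ∈ ⁅U, zpowers u⁆, ∀ a ∈ A, Commute g a := by
    intro g hg a ha
    have h1 : ⁅U, zpowers u⁆ ≤ centralizer ({a} : Set G) := c.hyp.commutator_zpowers_le fun k hk =>
      mem_centralizer_singleton_iff.2 (commute_commutator_of_inverted (hUA hk) hinv ha).eq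
    exact mem_centralizer_singleton_iff.1 (h1 hg)
  obtain ⟨w, hw, hwo⟩ : ∃ w ∈ ⁅U, zpowers u⁆ ⊓ fixR t u, orderOf w = l := by
    by_cases hd : l ∣ Nat.card ↥(⁅U, zpowers u⁆ ⊓ fixR t u : Subgroup G)
    · obtain ⟨w, hw⟩ := exists_prime_orderOf_dvd_card' l hd
      exact ⟨w, w.2, by rw [Subgroup.orderOf_coe, hw]⟩
    · exact (c.hyp.false_of_coprime c.hA c.dvd_fixR
        (Nat.coprime_comm.1 (c.prime.coprime_iff_not_dvd.2 hd))).elim
  set H := centralizer ({w} : Set G)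
  have hVH := c.hyp.V_le_centralizer hw.2
  obtain ⟨hk, hth⟩ := c.hyp.centralizer_linearKind c.hC c.hA c.opOf_ne_bot hw.2 hwo
  have hAH : A ≤ H := fun a ha => mem_centralizer_singleton_iff.2 (hNA w hw.1 a ha).symm.eq
  have hAp : IsPGroup l ↥A := fun a => ⟨1, Subtype.ext (by rw [pow_one]; exact hAl a a.2)⟩
  have hAu : u ∈ normalizer (A : Set G) := mem_normalizer_fintype fun a ha => by
    rw [SetLike.mem_coe, hinv a ha]; exact inv_mem ha
  have hAt : t ∈ normalizer (A : Set G) := mem_normalizer_fintype fun a ha => by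
    rw [SetLike.mem_coe, ← (c.hyp.commute_of_mem (hAU ha)).eq, mul_inv_cancel_right]; exact ha
  have hVA : (V : Subgroup G) ≤ normalizer (A : Set G) := fun v hv => by
    rcases c.hyp.mem_iff.1 hv with rfl | rfl | rfl | rfl
    exacts [one_mem _, hAt, hAu, mul_mem hAt hAu]
  have hAO : A ⊓ oddOf H = ⊥ := by
    obtain ⟨Q, hQ, hQV, hQR⟩ := c.exists_sylow_U
    have hVn : (V : Subgroup G) ≤ normalizer ((A ⊓ oddOf H : Subgroup G) : Set G) := fun v hv => by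
      rw [Grp.mem_normalizer_iff_smul, Subgroup.smul_inf, Grp.mem_normalizer_iff_smul.1 (hVA hv),
        Grp.mem_normalizer_iff_smul.1 (le_normalizer_oddOf H (hVH hv))]
    obtain ⟨T, hT, hTV, hAT⟩ := Grp.exists_invariant_sylow_ge (V : Subgroup G) (oddOf H)
      (hVH.trans (le_normalizer_oddOf H)) (c.hyp.coprime_V (odd_card_oddOf H))
      (Or.inr (isSolvable_of_odd (odd_card_oddOf H))) (inf_le_right : A ⊓ oddOf H ≤ oddOf H)
      (hAp.to_le inf_le_left) hVn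
    have hTR := hAT.trans (c.hyp.sylow_core_le_fixR c.hC c.opOf_ne_bot hQ hQV hQR hVH hth hT hTV)
    refine (eq_bot_iff_forall _).2 fun a ha => ?_
    have h1 := hinv a ha.1
    rw [(c.hyp.mem_fixR.1 (hTR ha)).2.symm.eq, mul_inv_cancel_right] at h1
    exact eq_one_of_odd c.hyp.odd_coreCent (hAU ha.1) (mul_eq_one_iff_eq_inv.2 h1)
  haveI := c.hyp.isCyclic_of_inverted hVH hk hAH (odd_of_le hAU c.hyp.odd_coreCent)
    (fun a ha => c.hyp.commute_of_mem (hAU ha)) hinv hAO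
  haveI : Nontrivial ↥A := Finite.one_lt_card_iff_nontrivial.1 (c.prime.one_lt.trans hcard)
  obtain ⟨a, ha⟩ := exists_ne (1 : ↥A)
  have hle : A ≤ zpowers (a : G) := fun x hx =>
    mem_zpowers_of_isCyclic (D := A) a.2 hx (hAl a a.2) (fun e => ha (Subtype.ext e)) (hAl x hx)
  have := (Nat.le_of_dvd Nat.card_pos (card_dvd_of_le hle)).trans_eq
    (by rw [Nat.card_zpowers, orderOf_eq_prime (hAl a a.2) fun e => ha (Subtype.ext e)])
  omega

/-- `O_l(U) ⊓ R` is trivial: the second case. -/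
theorem false : False := by
  haveI := c.fact_prime
  haveI := c.isMulCommutative_omZ
  set U := coreCent t with hUdef
  set Y := opOf l U with hYdef
  set B := omZ l Y with hBdef
  have hB0 : B ⊓ fixR t u = ⊥ := c.omZ_inf_fixR
  obtain ⟨z, hzR, hzY, hoz⟩ := c.exists_mem_Z
  have hodd := c.hyp.odd_coreCent
  have huu := c.hyp.mul_self c.hyp.hu
  have hYU : Y ≤ U := opOf_le _ _
  have hBY : B ≤ Y := omZ_le _ _
  have hBl : ∀ b ∈ B, b ^ l = 1 := fun b hb => (mem_omZ.1 hb).2.2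
  have hcent : ∀ b ∈ B, ∀ g ∈ Y, Commute b g := fun b hb g hg => (mem_omZ.1 hb).2.1 g hg
  have hUB : U ≤ normalizer (B : Set G) := c.hyp.coreCent_le.trans c.le_normalizer_omZ
  have huB : u ∈ normalizer (B : Set G) := c.le_normalizer_omZ (c.hyp.le_centralizer c.hyp.hu)
  have hUY : U ≤ normalizer (Y : Set G) := le_normalizer_opOf l U
  have huY : u ∈ normalizer (Y : Set G) :=
    normalizer_le_normalizer_opOf l U (c.hyp.V_le_normalizer_coreCent c.hyp.hu)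
  have hfix1 : ∀ x ∈ B, Commute x u → x = 1 := fun x hx hxu =>
    mem_bot.1 (hB0 ▸ Subgroup.mem_inf.2 ⟨hx, c.hyp.mem_fixR.2 ⟨hYU (hBY hx), hxu⟩⟩)
  have hBinv : ∀ b ∈ B, u * b * u⁻¹ = b⁻¹ := fun b hb => by
    obtain ⟨e, he, a, ha, rfl⟩ := exists_fixed_mul_invPart (odd_of_le (hBY.trans hYU) hodd) huu huB hb
    rw [hfix1 e he.1 (mem_centralizer_singleton_iff.1 he.2), one_mul]
    exact ha.2
  haveI : Nontrivial ↥B :=
    (Subgroup.nontrivial_iff_ne_bot _).2 (omZ_ne_bot (isPGroup_opOf l U) c.opOf_ne_bot)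
  obtain ⟨⟨y, hyB⟩, hy1'⟩ := exists_ne (1 : ↥B)
  have hy1 : y ≠ 1 := fun e => hy1' (Subtype.ext e)
  have hoy : orderOf y = l := orderOf_eq_prime (hBl y hyB) hy1
  have hBeq : B = zpowers y := le_antisymm (fun b hb => c.inverted_mem_zpowers hzY hzR hoz (hYU (hBY hyB))
    (hcent y hyB z hzY) (hBinv y hyB) (hBl y hyB) hy1 (hYU (hBY hb)) (hcent b hb z hzY) (hBinv b hb) (hBl b hb))
    (zpowers_le.2 hyB)
  have hBc : Nat.card ↥B = l := by rw [hBeq, Nat.card_zpowers, hoy]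
  have hBgen : ∀ {x : G}, x ∈ B → x ≠ 1 → ∀ b ∈ B, ∃ j : ℕ, x ^ j = b := by
    intro x hx hx1 b hb
    have h1 : zpowers x = B := Subgroup.eq_of_le_of_card_ge (zpowers_le.2 hx)
      (by rw [hBc, Nat.card_zpowers, orderOf_eq_prime (hBl x hx) hx1])
    exact mem_powers_iff_mem_zpowers.2 (h1 ▸ hb : b ∈ zpowers x)
  set W := centTwo l Y B hcent c.odd_prime hBl with hWdef
  have hWmem : ∀ {x : G}, x ∈ W ↔ x ∈ Y ∧ x ^ l = 1 ∧ ∀ g ∈ Y, ⁅x, g⁆ ∈ B := fun {_} => Iff.rfl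
  have hWY : W ≤ Y := fun x hx => (hWmem.1 hx).1
  have hBW : B ≤ W := fun b hb => hWmem.2 ⟨hBY hb, hBl b hb, fun g hg => by
    rw [commutatorElement_eq_one_iff_mul_comm.2 (hcent b hb g hg).eq]; exact one_mem _⟩
  have hconjW : ∀ g, g ∈ normalizer (Y : Set G) → g ∈ normalizer (B : Set G) → g ∈ normalizer (W : Set G) := by
    intro g hgY hgB
    refine mem_normalizer_fintype fun x hx => ?_
    obtain ⟨h1, h2, h3⟩ := hWmem.1 hx
    refine hWmem.2 ⟨(mem_normalizer_iff.1 hgY x).1 h1, by rw [conj_pow, h2, mul_one, mul_inv_cancel],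
      fun k hk => ?_⟩
    have hk' : g⁻¹ * k * g ∈ Y := by simpa using (mem_normalizer_iff.1 (inv_mem hgY) k).1 hk
    have h4 := (mem_normalizer_iff.1 hgB _).1 (h3 _ hk')
    rw [show g * ⁅x, g⁻¹ * k * g⁆ * g⁻¹ = ⁅g * x * g⁻¹, k⁆ by simp only [commutatorElement_def]; group] at h4
    exact h4
  have hUW : U ≤ normalizer (W : Set G) := fun g hg => hconjW g (hUY hg) (hUB hg)
  have huW : u ∈ normalizer (W : Set G) := hconjW u huY huB
  -- the inverted and fixed parts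
  have hWl : ∀ x ∈ W, x ^ l = 1 := fun x hx => (hWmem.1 hx).2.1
  have hWU : W ≤ U := hWY.trans hYU
  have hinvc : ∀ a ∈ W, ∀ b ∈ W, u * a * u⁻¹ = a⁻¹ → u * b * u⁻¹ = b⁻¹ → Commute a b := by
    intro a ha b hb hau hbu
    have hcB := (hWmem.1 ha).2.2 b (hWY hb)
    have h1 : u * ⁅a, b⁆ * u⁻¹ = ⁅a⁻¹, b⁻¹⁆ := by
      rw [show u * ⁅a, b⁆ * u⁻¹ = ⁅u * a * u⁻¹, u * b * u⁻¹⁆ by simp only [commutatorElement_def]; group,
        hau, hbu]
    have h2 : ⁅a⁻¹, b⁻¹⁆ = ⁅a, b⁆ := by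
      rw [show ⁅a⁻¹, b⁻¹⁆ = (b * a)⁻¹ * ⁅a, b⁆⁻¹⁻¹ * (b * a) by simp only [commutatorElement_def]; group, inv_inv,
        mul_assoc, (hcent _ hcB _ (mul_mem (hWY hb) (hWY ha))).eq, inv_mul_cancel_left]
    have h3 := hBinv _ hcB
    rw [h1, h2] at h3
    exact commutatorElement_eq_one_iff_mul_comm.1 (eq_one_of_odd hodd (hYU (hBY hcB)) (mul_eq_one_iff_eq_inv.2 h3))
  let Am : Subgroup G :=
    { carrier := {x | x ∈ W ∧ u * x * u⁻¹ = x⁻¹}
      one_mem' := ⟨one_mem _, by group⟩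
      mul_mem' := fun {a b} ha hb => ⟨mul_mem ha.1 hb.1, by
        rw [show u * (a * b) * u⁻¹ = (u * a * u⁻¹) * (u * b * u⁻¹) by group, ha.2, hb.2, mul_inv_rev]
        exact ((hinvc a ha.1 b hb.1 ha.2 hb.2).inv_inv).eq⟩
      inv_mem' := fun {a} ha => ⟨inv_mem ha.1, by
        rw [show u * a⁻¹ * u⁻¹ = (u * a * u⁻¹)⁻¹ by group, ha.2]⟩ }
  have hAmW : Am ≤ W := fun x hx => hx.1
  have hBAm : B ≤ Am := fun b hb => ⟨hBW hb, hBinv b hb⟩
  set Wp := W ⊓ fixR t u with hWp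
  have hWpc : ∀ a ∈ Wp, ∀ b ∈ Wp, Commute a b := by
    intro a ha b hb
    have hcB := (hWmem.1 ha.1).2.2 b (hWY hb.1)
    refine commutatorElement_eq_one_iff_mul_comm.1 (hfix1 _ hcB ?_)
    rw [commutatorElement_def]
    exact (((c.hyp.mem_fixR.1 ha.2).2.mul_left (c.hyp.mem_fixR.1 hb.2).2).mul_left
      (c.hyp.mem_fixR.1 ha.2).2.inv_left).mul_left (c.hyp.mem_fixR.1 hb.2).2.inv_left
  have hsplit : ∀ x ∈ W, ∃ p ∈ Am, ∃ q ∈ Wp, p * q = x := by
    intro x hx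
    obtain ⟨a, ha, e, he, hau, heu, hxe, -⟩ := exists_inverted_mul (odd_of_le hWU hodd) huu huW hx
    exact ⟨a, ⟨ha, hau⟩, e, ⟨he, c.hyp.mem_fixR.2 ⟨hWU he, heu⟩⟩, hxe.symm⟩
  have hdis : Am ⊓ Wp = ⊥ := by
    refine (eq_bot_iff_forall _).2 fun x hx => ?_
    have h1 := hx.1.2
    rw [(c.hyp.mem_fixR.1 hx.2.2).2.symm.eq, mul_inv_cancel_right] at h1
    exact eq_one_of_odd hodd (hWU hx.1.1) (mul_eq_one_iff_eq_inv.2 h1)
  -- a centraliser in `Am` of a fixed element is `B`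
  have hcenB : ∀ w ∈ fixR t u, w ∈ Y → orderOf w = l → ∀ a ∈ Am, Commute a w → a ∈ B := fun w hwR hwY how a ha haw =>
    hBeq ▸ c.inverted_mem_zpowers hwY hwR how (hYU (hBY hyB)) (hcent y hyB w hwY) (hBinv y hyB) (hBl y hyB) hy1
      (hWU ha.1) haw ha.2 (hWl a ha.1)
  have hordWp : ∀ w ∈ Wp, w ≠ 1 → orderOf w = l := fun w hw hw1 => orderOf_eq_prime (hWl w hw.1) hw1
  have hAmc : Nat.card ↥Am ≤ l * l := by
    let φ : ↥Am →* ↥B := MonoidHom.mk' (fun a => ⟨⁅(a : G), z⁆, (hWmem.1 a.2.1).2.2 z hzY⟩) fun a b =>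
      Subtype.ext (by
        have hb := (hWmem.1 b.2.1).2.2 z hzY
        show ⁅(a : G) * b, z⁆ = ⁅(a : G), z⁆ * ⁅(b : G), z⁆
        rw [show ⁅(a : G) * b, z⁆ = a * ⁅(b : G), z⁆ * (a : G)⁻¹ * ⁅(a : G), z⁆ by
          simp only [commutatorElement_def]; group, ← (hcent _ hb _ (hWY a.2.1)).eq, mul_inv_cancel_right,
          (hcent _ hb _ (hBY ((hWmem.1 a.2.1).2.2 z hzY))).eq])
    rw [← φ.ker.card_mul_index, Subgroup.index_ker]
    refine Nat.mul_le_mul ?_ (hBc ▸ Nat.le_of_dvd Nat.card_pos (Subgroup.card_subgroup_dvd_card _))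
    rw [← hBc]
    refine Nat.card_le_card_of_injective (fun a : ↥φ.ker => (⟨((a : ↥Am) : G), hcenB z hzR hzY hoz _ (a : ↥Am).2
      (commutatorElement_eq_one_iff_mul_comm.1 (congrArg Subtype.val (MonoidHom.mem_ker.1 a.2)))⟩ : ↥B)) ?_
    intro a b e
    exact Subtype.ext (Subtype.ext (congrArg (fun v : ↥B => (v : G)) e))
  -- `W` is bigger than `B`
  have hWB : ¬ W ≤ B := by
    intro hle
    haveI : Fact (Nat.Prime l) := c.fact_prime
    have hYp : IsPGroup l ↥Y := isPGroup_opOf l U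
    set B' := B.subgroupOf Y with hB'
    haveI : B'.Normal := normal_subgroupOf_of_le_normalizer fun g hg => hUB (hYU hg)
    have hnc : ¬ IsCyclic (⊤ : Subgroup ↥Y) := by
      intro hcy
      haveI : IsCyclic ↥Y := (MulEquiv.isCyclic Subgroup.topEquiv).1 hcy
      obtain ⟨i, hi⟩ := Subgroup.mem_zpowers_iff.1 (mem_zpowers_of_isCyclic (D := Y) (hBY hyB) hzY (hBl y hyB) hy1
        (by rw [← hoz, pow_orderOf_eq_one]))
      have hz1 : z = 1 := mem_bot.1 (hB0 ▸ Subgroup.mem_inf.2 ⟨hi ▸ zpow_mem hyB i, hzR⟩)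
      rw [hz1, orderOf_one] at hoz
      exact c.prime.one_lt.ne hoz
    obtain ⟨A, -, hAn, hAe, hAc⟩ := Transfer.exists_normal_elementary (fun e => by
      have := c.three_le; omega) hYp (⊤ : Subgroup ↥Y) hnc
    haveI := hAn
    have hlt : B' < B' ⊔ A := lt_of_le_of_ne le_sup_left fun e => by
      have h1 := Nat.le_of_dvd Nat.card_pos (card_dvd_of_le (e.ge.trans' le_sup_right : A ≤ B'))
      rw [hB', Nat.card_congr (subgroupOfEquivOfLe hBY).toEquiv, hBc, hAc] at h1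
      have := c.prime.one_lt
      nlinarith
    obtain ⟨L, -, hBL, hLA, -, hLc⟩ := Transfer.NormalSteps.exists_normal_step hYp hlt
    obtain ⟨x, hxL, hxB⟩ := SetLike.exists_of_lt hBL
    refine hxB (mem_subgroupOf.2 (hle (hWmem.2 ⟨x.2, ?_, fun g hg => ?_⟩)))
    · obtain ⟨b, hb, a, ha, hba⟩ := exists_mul_of_sup (A := B') (B := A)
        (by rw [normalizer_eq_top_iff.2 inferInstance]; exact le_top) (hLA hxL)
      have hcomm : Commute b a := Subtype.ext (hcent _ (mem_subgroupOf.1 hb) _ a.2).eq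
      have h1 : x ^ l = 1 := by
        rw [← hba, hcomm.mul_pow, hAe.2 a ha, mul_one]
        exact Subtype.ext (hBl _ (mem_subgroupOf.1 hb))
      exact congrArg Subtype.val h1
    · have h1 := mem_subgroupOf.1 (hLc ⟨g, hg⟩ x hxL)
      have h2 := inv_mem h1
      rw [← InvMemClass.coe_inv, commutatorElement_inv] at h2
      exact h2
  obtain ⟨w₀, hw₀, hw₀B⟩ := SetLike.not_le_iff_exists.1 hWB
  by_cases hAm : Am ≤ B
  · -- translations on `W`
    have hWc : ∀ a ∈ W, ∀ b ∈ W, Commute a b := by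
      intro a ha b hb
      obtain ⟨p, hp, q, hq, rfl⟩ := hsplit a ha
      obtain ⟨p', hp', q', hq', rfl⟩ := hsplit b hb
      exact ((hcent p (hAm hp) _ (mul_mem (hWY hp'.1) (hWY hq'.1)))).mul_left
        (((hcent p' (hAm hp') _ (hWY hq.1)).symm).mul_right (hWpc q hq q' hq'))
    haveI : IsMulCommutative ↥W := ⟨⟨fun a b => Subtype.ext (hWc a a.2 b b.2).eq⟩⟩
    obtain ⟨p, hp, q, hq, rfl⟩ := hsplit w₀ hw₀
    have hq1 : q ≠ 1 := fun e => hw₀B (by rw [e, mul_one]; exact hAm hp)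
    exact c.translations W hWU hWl hUW huW hq.1 (hWY hq.1) hq.2 (hordWp q hq hq1) (hBW hyB) (hBinv y hyB) hy1
      (hBeq ▸ hUB)
  obtain ⟨x, hxA, hxB⟩ := SetLike.not_le_iff_exists.1 hAm
  have hAmp : IsPGroup l ↥Am := (isPGroup_opOf l U).to_le (hAmW.trans hWY)
  have hAm2 : Nat.card ↥Am = l * l := by
    obtain ⟨k, hk⟩ := IsPGroup.iff_card.1 hAmp
    have hlt : l < Nat.card ↥Am := by
      rcases Nat.lt_or_ge l (Nat.card ↥Am) with h | h
      · exact h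
      · exact absurd ((Subgroup.eq_of_le_of_card_ge hBAm (hBc.symm ▸ h)).ge hxA) hxB
    rw [hk] at hlt hAmc ⊢
    have hk2 : 1 < k := by
      by_contra hk1
      interval_cases k <;> simp at hlt
      exact absurd hlt (by have := c.prime.one_lt; omega)
    have hk2' : k ≤ 2 := (Nat.pow_le_pow_iff_right c.prime.one_lt).1 (hAmc.trans_eq (pow_two l).symm)
    rw [show k = 2 by omega, pow_two]
  by_cases hWp0 : Wp = ⊥
  · -- `W` is an inverted plane
    have hWA : W = Am := le_antisymm (fun a ha => by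
      obtain ⟨p, hp, q, hq, rfl⟩ := hsplit a ha
      rw [hWp0, mem_bot] at hq
      rwa [hq, mul_one]) hAmW
    exact c.no_inverted_plane W hWU hWl hUW (fun a ha => (hWA ▸ ha : a ∈ Am).2)
      (hWA ▸ hAm2 ▸ lt_mul_of_one_lt_left c.prime.pos c.prime.one_lt)
  -- the fixed part is a line
  haveI : Nontrivial ↥Wp := (Subgroup.nontrivial_iff_ne_bot _).2 hWp0
  obtain ⟨⟨z₁, hz₁⟩, hz₁'⟩ := exists_ne (1 : ↥Wp)
  have hz₁1 : z₁ ≠ 1 := fun e => hz₁' (Subtype.ext e)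
  have hoz₁ := hordWp z₁ hz₁ hz₁1
  have hz₁Y := hWY hz₁.1
  have hxY := hWY hxA.1
  have hxU := hWU hxA.1
  set γ : G → G := fun w => w⁻¹ * (x * w * x⁻¹) with hγ
  have hγB : ∀ w ∈ Y, γ w ∈ B := fun w hw => by
    have h1 := (hWmem.1 hxA.1).2.2 w hw
    have h2 : γ w = w⁻¹ * ⁅x, w⁆ * w := by simp only [hγ, commutatorElement_def]; group
    rw [h2, mul_assoc, (hcent _ h1 w hw).eq, inv_mul_cancel_left]
    exact h1
  have hγ1 : ∀ w ∈ Wp, w ≠ 1 → γ w ≠ 1 := fun w hw hw1 e =>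
    hxB (hcenB w hw.2 (hWY hw.1) (hordWp w hw hw1) x hxA (mul_inv_eq_iff_eq_mul.1 (inv_mul_eq_one.1 e).symm))
  have hWpc' : Nat.card ↥Wp ≤ l := by
    rw [← hBc]
    refine Nat.card_le_card_of_injective (fun w : ↥Wp => (⟨γ w, hγB w (hWY w.2.1)⟩ : ↥B)) ?_
    intro a b e
    have e' : γ a = γ b := congrArg Subtype.val e
    have hab : (a : G) * (b : G)⁻¹ ∈ Wp := mul_mem a.2 (inv_mem b.2)
    refine Subtype.ext (mul_inv_eq_one.1 ?_)
    by_contra h1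
    refine hγ1 _ hab h1 ?_
    have hb := hγB b (hWY b.2.1)
    have hbc : Commute (γ b) ((a : G) * (b : G)⁻¹) := hcent _ hb _ (hWY hab.1)
    calc γ ((a : G) * (b : G)⁻¹)
        = ((a : G) * (b : G)⁻¹)⁻¹ * (x * a * x⁻¹) * (x * b * x⁻¹)⁻¹ := by simp only [hγ]; group
      _ = (b : G) * γ a * (γ b)⁻¹ * (b : G)⁻¹ := by simp only [hγ]; group
      _ = 1 := by rw [e']; group
  have hWpz : Wp = zpowers z₁ := (Subgroup.eq_of_le_of_card_ge (zpowers_le.2 hz₁)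
    (by rw [Nat.card_zpowers, hoz₁]; exact hWpc')).symm
  have hWpcard : Nat.card ↥Wp = l := by rw [hWpz, Nat.card_zpowers, hoz₁]
  have hWcard : Nat.card ↥W = l * (l * l) := by
    rw [card_eq_mul_of_parts hAmW inf_le_left hdis hsplit, hAm2, hWpcard]; ring
  -- the plane of fixed and central elements
  set X₀ := Wp ⊔ B with hX₀
  have hWpB : ∀ w ∈ Wp, ∀ b ∈ B, Commute w b := fun w hw b hb => (hcent b hb w (hWY hw.1)).symm
  have hX₀mem : ∀ {a : G}, a ∈ X₀ → ∃ w ∈ Wp, ∃ b ∈ B, w * b = a := fun {a} ha => exists_mul_of_sup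
    (fun b hb => centralizer_le_normalizer _ (mem_centralizer_iff.2 fun w hw => (hWpB w hw b hb).eq)) ha
  have hX₀W : X₀ ≤ W := sup_le inf_le_left hBW
  have hX₀c : Nat.card ↥X₀ = l * l := by
    rw [card_eq_mul_of_parts (le_sup_left : Wp ≤ X₀) le_sup_right ?_ (fun a ha => hX₀mem ha), hWpcard, hBc]
    exact le_bot_iff.1 (by rw [← hB0, inf_comm B]; exact inf_le_inf_right _ inf_le_right)
  haveI : IsMulCommutative ↥X₀ := by
    refine ⟨⟨fun a b => Subtype.ext ?_⟩⟩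
    obtain ⟨w, hw, p, hp, ha⟩ := hX₀mem a.2
    obtain ⟨w', hw', p', hp', hb⟩ := hX₀mem b.2
    show (a : G) * b = b * a
    rw [← ha, ← hb]
    exact (((hWpc w hw w' hw').mul_left (hWpB w' hw' p hp).symm).mul_right
      ((hWpB w hw p' hp').mul_left (hcent p hp p' (hBY hp')))).eq
  have hzX₀ : z₁ ∈ X₀ := mem_sup_left hz₁
  have hyX₀ : y ∈ X₀ := mem_sup_right hyB
  by_cases hUX : U ≤ normalizer (X₀ : Set G)
  · refine c.translations X₀ (hX₀W.trans hWU) (fun a ha => hWl a (hX₀W ha)) hUX ?_ hzX₀ hz₁Y hz₁.2 hoz₁ hyX₀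
      (hBinv y hyB) hy1 (hBeq ▸ hUB)
    refine mem_normalizer_fintype fun a ha => ?_
    obtain ⟨w, hw, p, hp, rfl⟩ := hX₀mem ha
    rw [SetLike.mem_coe, show u * (w * p) * u⁻¹ = (u * w * u⁻¹) * (u * p * u⁻¹) by group,
      (c.hyp.mem_fixR.1 hw.2).2.symm.eq, mul_inv_cancel_right, hBinv p hp]
    exact mul_mem (mem_sup_left hw) (mem_sup_right (inv_mem hp))
  by_cases hUA : U ≤ normalizer (Am : Set G)
  · exact c.no_inverted_plane Am (hAmW.trans hWU) (fun a ha => hWl a (hAmW ha)) hUA (fun a ha => ha.2)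
      (hAm2.symm ▸ lt_mul_of_one_lt_left c.prime.pos c.prime.one_lt)
  have hgen : ∀ k ∈ U, ∀ a ∈ X₀, a ∉ B → k * a * k⁻¹ ∈ X₀ → k ∈ normalizer (X₀ : Set G) := by
    intro k hk a ha haB hka
    set T := X₀ ⊓ X₀.comap (MulAut.conj k).toMonoidHom with hT
    have hBT : B ≤ T := fun b hb => Subgroup.mem_inf.2 ⟨mem_sup_right hb,
      mem_sup_right (T := B) ((mem_normalizer_iff.1 (hUB hk) b).1 hb)⟩
    have haT : a ∈ T := Subgroup.mem_inf.2 ⟨ha, hka⟩
    obtain ⟨i, hi2, hi⟩ := (Nat.dvd_prime_pow c.prime).1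
      (show Nat.card ↥T ∣ l ^ 2 by rw [pow_two, ← hX₀c]; exact card_dvd_of_le inf_le_left)
    have hlt : l < Nat.card ↥T := by
      rcases Nat.lt_or_ge l (Nat.card ↥T) with h | h
      · exact h
      · exact absurd ((Subgroup.eq_of_le_of_card_ge hBT (hBc.symm ▸ h)).ge haT) haB
    have hTX : T = X₀ := Subgroup.eq_of_le_of_card_ge inf_le_left (by
      rw [hX₀c, hi, ← pow_two]
      refine Nat.pow_le_pow_right c.prime.pos ?_
      rw [hi] at hlt
      by_contra h2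
      interval_cases i <;> simp at hlt
      exact absurd hlt (by have := c.prime.one_lt; omega))
    exact mem_normalizer_fintype fun b hb => (Subgroup.mem_inf.1 (hTX.ge hb)).2
  have hsep : ∀ k ∈ U, ∀ a ∈ X₀, a ∉ B → k * a * k⁻¹ ∉ Am := by
    intro k hk a ha haB hka
    obtain ⟨w, hw, p, hp, rfl⟩ := hX₀mem ha
    have hkw : k * w * k⁻¹ ∈ Am := by
      rw [show k * w * k⁻¹ = (k * (w * p) * k⁻¹) * (k * p * k⁻¹)⁻¹ by group]
      exact mul_mem hka (inv_mem (hBAm ((mem_normalizer_iff.1 (hUB hk) p).1 hp)))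
    have hw1 : w = 1 := by
      refine mem_bot.1 (c.hyp.not_inverted_conj (N := ⊥) (fun g _ => ?_) ?_ hk hw.2 ?_)
      · rw [normalizer_eq_top_iff.2 inferInstance]; exact mem_top g
      · rw [normalizer_eq_top_iff.2 inferInstance]; exact mem_top u
      · rw [mem_bot, hkw.2, inv_mul_cancel]
    exact haB (by rw [hw1, one_mul]; exact hp)
  obtain ⟨hdl, hdl'⟩ := orbit_bound (d := (U ⊓ normalizer (X₀ : Set G)).relIndex U) c.prime.one_lt hUW hUB
    hX₀W hAmW le_sup_right (by rw [hX₀c, hBc]) (by rw [hAm2, hBc]) (by rw [hWcard, hBc]) hgen hsep rfl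
  set S := U ⊓ normalizer (X₀ : Set G) with hS
  set d := S.relIndex U with hd
  obtain ⟨di, hdi⟩ := Odd.of_dvd_nat hodd (Subgroup.relIndex_dvd_card S U)
  have hd1 : d ≠ 1 := fun e => hUX fun g hg => (Subgroup.relIndex_eq_one.1 e hg).2
  have hdne : d ≠ l := fun e => hUA (hdl' e)
  have hxp : ∀ w ∈ Y, ∀ j : ℕ, x ^ j * w * (x ^ j)⁻¹ = w * γ w ^ j := by
    intro w hw j
    induction j with
    | zero => simp
    | succ j ih =>
      rw [pow_succ', show x * x ^ j * w * (x * x ^ j)⁻¹ = x * (x ^ j * w * (x ^ j)⁻¹) * x⁻¹ by group, ih,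
        show x * (w * γ w ^ j) * x⁻¹ = (x * w * x⁻¹) * (x * γ w ^ j * x⁻¹) by group,
        ← ((hcent _ (pow_mem (hγB w hw) j) x hxY)).eq, mul_inv_cancel_right, pow_succ', ← mul_assoc w]
      congr 1
      simp only [hγ]
      group
  have hxS : x ∈ normalizer (X₀ : Set G) := hgen x hxU z₁ hzX₀
    (fun hb => hz₁1 (mem_bot.1 (hB0 ▸ Subgroup.mem_inf.2 ⟨hb, hz₁.2⟩))) (by
      rw [show x * z₁ * x⁻¹ = z₁ * γ z₁ by simp only [hγ]; group]
      exact mul_mem hzX₀ (mem_sup_right (hγB z₁ hz₁Y)))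
  have hRX : fixR t u ≤ normalizer (X₀ : Set G) := fun g hg => mem_normalizer_fintype fun a ha => by
    obtain ⟨w, hw, p, hp, rfl⟩ := hX₀mem ha
    rw [SetLike.mem_coe, show g * (w * p) * g⁻¹ = (g * w * g⁻¹) * (g * p * g⁻¹) by group]
    exact mul_mem (mem_sup_left (Subgroup.mem_inf.2 ⟨(mem_normalizer_iff.1 (hUW hg.1) w).1 hw.1,
      mul_mem (mul_mem hg hw.2) (inv_mem hg)⟩)) (mem_sup_right ((mem_normalizer_iff.1 (hUB hg.1) p).1 hp))
  have hUzS : U ⊓ centralizer ({z₁} : Set G) ≤ S := le_inf inf_le_left fun g hg => hgen g hg.1 z₁ hzX₀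
    (fun hb => hz₁1 (mem_bot.1 (hB0 ▸ Subgroup.mem_inf.2 ⟨hb, hz₁.2⟩)))
    (by rw [mem_centralizer_singleton_iff.1 hg.2, mul_inv_cancel_right]; exact hzX₀)
  set OR := {a : G | ∃ k ∈ fixR t u, k * z₁ * k⁻¹ = a} with hOR
  have hORW : ∀ {a : G}, a ∈ OR → a ∈ Wp ∧ a ≠ 1 := by
    rintro a ⟨k, hk, rfl⟩
    exact ⟨Subgroup.mem_inf.2 ⟨(mem_normalizer_iff.1 (hUW hk.1) z₁).1 hz₁.1,
      mul_mem (mul_mem hk hz₁.2) (inv_mem hk)⟩, fun e => hz₁1 (conj_eq_one_iff.1 e)⟩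
  have htrans : ∀ w ∈ Wp, w ≠ 1 → ∀ b ∈ B, ∃ j : ℕ, x ^ j * w * (x ^ j)⁻¹ = w * b := by
    intro w hw hw1 b hb
    obtain ⟨j, hj⟩ := hBgen (hγB w (hWY hw.1)) (hγ1 w hw hw1) b hb
    exact ⟨j, by rw [hxp w (hWY hw.1), hj]⟩
  have horb : {a : G | ∃ k ∈ S, k * z₁ * k⁻¹ = a} = (fun p : G × G => p.1 * p.2) '' (OR ×ˢ (B : Set G)) := by
    ext a
    constructor
    · rintro ⟨k, hk, rfl⟩
      obtain ⟨w, hw, b, hb, hwb⟩ := hX₀mem ((mem_normalizer_iff.1 hk.2 z₁).1 hzX₀)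
      have hw1 : w ≠ 1 := fun e => by
        rw [e, one_mul] at hwb
        refine hz₁1 (mem_bot.1 (hB0 ▸ Subgroup.mem_inf.2 ⟨?_, hz₁.2⟩))
        have := (mem_normalizer_iff.1 (hUB (inv_mem hk.1)) _).1 (hwb ▸ hb : k * z₁ * k⁻¹ ∈ B)
        simpa [mul_assoc] using this
      obtain ⟨j, hj⟩ := htrans w hw hw1 b hb
      set k' := (x ^ j)⁻¹ * k
      have hk'U : k' ∈ U := mul_mem (inv_mem (pow_mem hxU j)) hk.1
      have hk'z : k' * z₁ * k'⁻¹ = w := by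
        calc k' * z₁ * k'⁻¹ = (x ^ j)⁻¹ * (k * z₁ * k⁻¹) * x ^ j := by simp only [k']; group
          _ = w := by rw [← hwb, ← hj]; group
      obtain ⟨p, -, e, he, -, hpw, hk'e⟩ := c.hyp.exists_factor hk'U hw.2 (by
        rw [← hk'z, show k'⁻¹ * (k' * z₁ * k'⁻¹) * k' = z₁ by group]
        exact (c.hyp.mem_fixR.1 hz₁.2).2)
      refine ⟨(w, b), ⟨⟨e, he, ?_⟩, hb⟩, hwb⟩
      calc e * z₁ * e⁻¹ = p⁻¹ * (k' * z₁ * k'⁻¹) * p := by rw [hk'e]; group
        _ = w := by rw [hk'z, mul_assoc, ← hpw.eq, inv_mul_cancel_left]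
    · rintro ⟨⟨w, b⟩, ⟨hw, hb⟩, rfl⟩
      obtain ⟨e, he, rfl⟩ := hw
      obtain ⟨j, hj⟩ := htrans _ (hORW ⟨e, he, rfl⟩).1 (hORW ⟨e, he, rfl⟩).2 b hb
      refine ⟨x ^ j * e, ⟨mul_mem (pow_mem hxU j) he.1, mul_mem (pow_mem hxS j) (hRX he)⟩, ?_⟩
      rw [show x ^ j * e * z₁ * (x ^ j * e)⁻¹ = x ^ j * (e * z₁ * e⁻¹) * (x ^ j)⁻¹ by group, hj]
  have hinj : Set.InjOn (fun p : G × G => p.1 * p.2) (OR ×ˢ (B : Set G)) := by
    rintro ⟨a, b⟩ ⟨ha, hb⟩ ⟨a', b'⟩ ⟨ha', hb'⟩ (he : a * b = a' * b')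
    have h1 : a'⁻¹ * a = b' * b⁻¹ := by
      rw [eq_mul_inv_iff_mul_eq, mul_assoc, he, inv_mul_cancel_left]
    have h2 : a'⁻¹ * a = 1 := mem_bot.1 (hB0 ▸ Subgroup.mem_inf.2 ⟨h1 ▸ mul_mem hb' (inv_mem hb),
      mul_mem (inv_mem (hORW ha').1.2) (hORW ha).1.2⟩)
    exact Prod.ext (inv_mul_eq_one.1 h2).symm (mul_inv_eq_one.1 (h1 ▸ h2)).symm
  have hncard : {a : G | ∃ k ∈ S, k * z₁ * k⁻¹ = a}.ncard = l * OR.ncard := by
    have h1 : Nat.card (↥((fun p : G × G => p.1 * p.2) '' (OR ×ˢ (B : Set G)))) = Nat.card ↥(OR ×ˢ (B : Set G)) :=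
      Nat.card_image_of_injOn hinj
    rw [horb, ← Nat.card_coe_set_eq, h1, Nat.card_coe_set_eq, Set.ncard_prod, mul_comm,
      ← Nat.card_coe_set_eq (B : Set G)]
    change Nat.card ↥B * _ = _
    rw [hBc]
  have hScard := c.card_eq_of_orbit hz₁Y hz₁.2 hoz₁ hUzS inf_le_left hncard
  obtain ⟨m, b, q, hm, hb, hq, hU', hG, χ, hχ, hdeg, δ, -, hδ⟩ := c.block
  set a₀ := Nat.card ↥⁅U ⊓ centralizer ({z₁} : Set G), zpowers u⁆ with ha₀
  have hmb : m * b = d * l * a₀ := by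
    refine Nat.eq_of_mul_eq_mul_right (Nat.card_pos (α := ↥(fixR t u))) ?_
    have h3 := Subgroup.relIndex_mul_relIndex _ _ _ bot_le (inf_le_left : S ≤ U)
    rw [Subgroup.relIndex_bot_left, Subgroup.relIndex_bot_left, ← hd, hScard] at h3
    rw [← hU', ← h3]
    ring
  have hw := c.weights_le hz₁Y hz₁.2 hoz₁ (hYU (hBY (hγB z₁ hz₁Y))) (hcent _ (hγB z₁ hz₁Y) z₁ hz₁Y).symm
    (hBinv _ (hγB z₁ hz₁Y)) (hBl _ (hγB z₁ hz₁Y)) (hγ1 z₁ hz₁ hz₁1) ((hcent _ (hγB z₁ hz₁Y) x hxY).symm)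
    (show x * z₁ * x⁻¹ = z₁ * γ z₁ by simp only [hγ]; group) hχ hdeg hδ
  rw [mul_assoc 2 l] at hw
  have hw' : 2 * (l * a₀) + 2 * l ≤ 2 * b + 4 := hw
  have h3l := c.three_le
  have hla : l ∣ a₀ := by
    have hyD : y ∈ ⁅U ⊓ centralizer ({z₁} : Set G), zpowers u⁆ :=
      c.hyp.mem_commutator_of_inverted (K := U ⊓ centralizer ({z₁} : Set G))
        ⟨hYU (hBY hyB), mem_centralizer_singleton_iff.2 (hcent y hyB z₁ hz₁Y).eq⟩
        (Odd.of_dvd_nat hodd (U.orderOf_dvd_natCard (hYU (hBY hyB)))) (hBinv y hyB)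
    rw [← hoy]
    exact Subgroup.orderOf_dvd_natCard _ hyD
  have hdlt : d + 2 ≤ l := by
    obtain ⟨li, hli⟩ := c.odd_prime
    omega
  have hmd : m < d := by
    refine Nat.lt_of_mul_lt_mul_right (a := l * a₀) ?_
    calc m * (l * a₀) < m * b := Nat.mul_lt_mul_of_pos_left (by omega) (by obtain ⟨i, rfl⟩ := hm; omega)
      _ = d * (l * a₀) := by rw [hmb, mul_assoc]
  have hm1 : m = 1 := eq_one_of_sq c.prime hm (by omega) (c.arith hm hb hq hU' hG).2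
  subst hm1
  rw [one_mul] at hmb
  rw [one_pow, one_mul] at hG
  obtain ⟨j, hj⟩ := hla
  have hj0 : 0 < j := by
    rcases Nat.eq_zero_or_pos j with rfl | h
    · have : 0 < a₀ := Nat.card_pos
      omega
    · exact h
  obtain ⟨q₀, hpow, he, hdvd⟩ := c.dvd_of_normalizes hz₁Y hz₁.2 hoz₁ (fun g hg => by
    rw [← hWpz]
    exact mem_normalizer_fintype fun a ha => Subgroup.mem_inf.2 ⟨(mem_normalizer_iff.1 (hUW hg.1) a).1 ha.1,
      mul_mem (mul_mem hg ha.2) (inv_mem hg)⟩) hq hG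
  rw [hmb] at hdvd
  exact singer_bound_two hpow he (hj.trans (mul_comm l j)) hj0 c.prime (by omega) ⟨di, hdi⟩ hdlt hdvd

end Ctx

end Cfsg.Agent.Invol.GW.Klein
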