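import Cfsg.Agent.Lib.Invol.GW.Klein.Sylow
import Cfsg.Agent.Lib.Invol.GW.Klein.LinearPSL

/-!
# Gorenstein–Walter, Klein four: subgroups of linear kind

`L` of linear kind over `V` has one class of involutions and is insoluble; a normal subgroup of `L` contains `V`
or lies in the core, and one containing `V` fuses it; an abelian group of odd order centralised by `t`, inverted
by `u` and disjoint from the core is cyclic.
-/

set_option autoImplicit false
set_option linter.unusedSectionVars false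
set_option linter.style.haveILetI false

namespace Cfsg.Agent.Invol.GW.Klein

open Subgroup
open scoped Pointwise commutatorElement

universe u

variable {G : Type u} [Group G]

/-- The defining map of a subgroup of linear kind, with its domain inside the group. -/
theorem LinearKind.exists_hom [Finite G] {H : Subgroup G} (hk : LinearKind H) :
    ∃ (F : Type) (_ : Field F) (_ : Fintype F) (N : Subgroup G)
      (π : ↥N →* Matrix.ProjectiveSpecialLinearGroup (Fin 2) F),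
      Odd (Fintype.card F) ∧ 5 ≤ Fintype.card F ∧ N ≤ H ∧ H ≤ normalizer (N : Set G) ∧
      (∀ x ∈ H, x * x = 1 → x ∈ N) ∧ oddOf H ≤ N ∧ Function.Surjective π ∧
      ∀ x : ↥N, π x = 1 ↔ (x : G) ∈ oddOf H := by
  obtain ⟨N, F, hF, hFf, hN, hidx, hON, hodd, h5, π, hπ, hker⟩ := hk
  let e := Subgroup.equivMapOfInjective N H.subtype H.subtype_injective
  refine ⟨F, hF, hFf, N.map H.subtype, π.comp e.symm.toMonoidHom, hodd, h5, map_subtype_le _, ?_, ?_,
    map_mono hON, hπ.comp e.symm.surjective, fun x => ?_⟩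
  · intro g hg
    refine mem_normalizer_iff.2 fun x => ⟨?_, ?_⟩
    · rintro ⟨y, hy, rfl⟩
      exact ⟨⟨g, hg⟩ * y * ⟨g, hg⟩⁻¹, hN.conj_mem y hy _, rfl⟩
    · rintro ⟨y, hy, hyx⟩
      refine ⟨⟨g, hg⟩⁻¹ * y * ⟨g, hg⟩, by simpa using hN.conj_mem y hy ⟨g, hg⟩⁻¹, ?_⟩
      show g⁻¹ * (y : G) * g = x
      rw [show (y : G) = g * x * g⁻¹ from hyx]
      group
  · intro x hx h2
    refine ⟨⟨x, hx⟩, ?_, rfl⟩
    haveI := hN
    obtain ⟨k, hk⟩ := hidx
    have h3 : (⟨x, hx⟩ : ↥H) ^ N.index ∈ N := N.pow_index_mem _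
    rwa [hk, pow_succ, pow_mul, pow_two, show (⟨x, hx⟩ : ↥H) * ⟨x, hx⟩ = 1 from Subtype.ext h2, one_pow,
      one_mul] at h3
  · have hxe : (x : G) = H.subtype (e.symm x : ↥N) :=
      congrArg Subtype.val (e.apply_symm_apply x).symm
    rw [MonoidHom.comp_apply, ← MonoidHom.mem_ker, hker, mem_subgroupOf, oddOf, hxe,
      Subgroup.mem_map_iff_mem H.subtype_injective]
    rfl

theorem normalizer_le_normalizer_oddOf [Finite G] (K : Subgroup G) :
    normalizer (K : Set G) ≤ normalizer (oddOf K : Set G) := by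
  haveI : (Cfsg.oddCore ↥K).Characteristic := Grp.instCharPPrimeCore
  exact Isolated.normalizer_le_map_char K _

theorem oddOf_le_oddOf [Finite G] {H K : Subgroup G} (hKH : K ≤ H) (hn : H ≤ normalizer (K : Set G)) :
    oddOf K ≤ oddOf H :=
  le_oddOf ((oddOf_le K).trans hKH) (hn.trans (normalizer_le_normalizer_oddOf K)) (odd_card_oddOf K)

namespace Hyp

variable [Finite G] {V : Sylow 2 G} {t u : G} (h : Hyp V t u)
include h

/-- The image of `V` in a linear quotient. -/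
theorem map_ne_one {H : Subgroup G} {F : Type} [Field F] {N : Subgroup G}
    {π : ↥N →* Matrix.ProjectiveSpecialLinearGroup (Fin 2) F}
    (hker : ∀ x : ↥N, π x = 1 ↔ (x : G) ∈ oddOf H) {v : G} (hv : v ∈ (V : Subgroup G)) (hvN : v ∈ N)
    (hv1 : v ≠ 1) : π ⟨v, hvN⟩ ≠ 1 := fun e =>
  hv1 (eq_one_of_odd (odd_card_oddOf H) ((hker _).1 e) (h.mul_self hv))

/-- A normal subgroup of a group of linear kind containing `V` maps onto `PSL₂`. -/
theorem map_inf_eq_top {H K : Subgroup G} (hn : H ≤ normalizer (K : Set G))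
    (hVK : (V : Subgroup G) ≤ K) {F : Type} [Field F] [Fintype F] (h5 : 5 ≤ Fintype.card F) {N : Subgroup G}
    (hNH : N ≤ H) (hVN : (V : Subgroup G) ≤ N) {π : ↥N →* Matrix.ProjectiveSpecialLinearGroup (Fin 2) F}
    (hπ : Function.Surjective π) (hker : ∀ x : ↥N, π x = 1 ↔ (x : G) ∈ oddOf H) :
    (K.subgroupOf N).map π = ⊤ := by
  haveI := PSL.isSimple (F := F) h5
  haveI : (K.subgroupOf N).Normal := ⟨fun x hx g => by
    rw [mem_subgroupOf] at hx ⊢
    exact (mem_normalizer_iff.1 (hn (hNH g.2)) _).1 hx⟩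
  have hnorm : ((K.subgroupOf N).map π).Normal := (inferInstance : (K.subgroupOf N).Normal).map π hπ
  refine hnorm.eq_bot_or_eq_top.resolve_left fun e => ?_
  refine h.map_ne_one hker h.ht (hVN h.ht) h.ht1 ?_
  rw [← mem_bot, ← e]
  exact mem_map_of_mem π (mem_subgroupOf.2 (hVK h.ht))

/-- A normal subgroup over `V` of a group of linear kind is insoluble. -/
theorem not_isSolvable_of_linearKind {L K : Subgroup G} (hk : LinearKind L) (hKL : K ≤ L)
    (hn : L ≤ normalizer (K : Set G)) (hVK : (V : Subgroup G) ≤ K) : ¬ Group.IsSolvable ↥K := by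
  obtain ⟨F, _, _, N, π, -, h5, hNL, -, hmem, -, hπ, hker⟩ := hk.exists_hom
  have hVN : (V : Subgroup G) ≤ N := fun v hv => hmem v (hKL (hVK hv)) (h.mul_self hv)
  have htop := h.map_inf_eq_top hn hVK h5 hNL hVN hπ hker
  intro hs
  haveI : Group.IsSolvable ↥(K.subgroupOf N) := by
    let f : ↥(K.subgroupOf N) →* ↥K :=
      (N.subtype.comp (K.subgroupOf N).subtype).codRestrict K fun x => mem_subgroupOf.1 x.2
    exact Grp.isSolvable_of_injective f
      (fun a b e => Subtype.ext (Subtype.ext (congrArg (fun z : ↥K => (z : G)) e :))) hs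
  refine PSL.not_isSolvable (F := F) h5 (Group.isSolvable_of_surjective (f := π.comp (K.subgroupOf N).subtype) ?_)
  rw [← MonoidHom.range_eq_top, MonoidHom.range_comp, Subgroup.range_subtype, htop]

/-- A normal subgroup over `V` of a group of linear kind fuses. -/
theorem not_threeClass_of_normal {L K : Subgroup G} (hk : LinearKind L) (hKL : K ≤ L)
    (hn : L ≤ normalizer (K : Set G)) (hVK : (V : Subgroup G) ≤ K) : ¬ ThreeClass (V : Subgroup G) K := by
  intro hth
  obtain ⟨F, _, _, N, π, -, h5, hNL, -, hmem, -, hπ, hker⟩ := hk.exists_hom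
  have hVN : (V : Subgroup G) ≤ N := fun v hv => hmem v (hKL (hVK hv)) (h.mul_self hv)
  have htop := h.map_inf_eq_top hn hVK h5 hNL hVN hπ hker
  have hO := oddOf_le_oddOf hKL hn
  have hV : ∀ y, ∃ b, ∃ hb : b ∈ (V : Subgroup G), π ⟨b, hVN hb⟩ = y := fun y => by
    obtain ⟨x, hx, rfl⟩ := Subgroup.mem_map.1 (htop.symm ▸ mem_top y : y ∈ (K.subgroupOf N).map π)
    obtain ⟨a, ha, b, hb, hab⟩ := exists_mul_of_sup (hVK.trans (le_normalizer_oddOf K))
      (hth (mem_subgroupOf.1 hx))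
    refine ⟨b, hb, ?_⟩
    have haN : a ∈ N := by
      have := mul_mem x.2 (inv_mem (hVN hb))
      rwa [← hab, mul_inv_cancel_right] at this
    rw [show x = (⟨a, haN⟩ : ↥N) * ⟨b, hVN hb⟩ from Subtype.ext hab.symm, map_mul,
      (hker ⟨a, haN⟩).2 (hO ha), one_mul]
  refine PSL.not_commute (F := F) h5 fun y z => ?_
  obtain ⟨a, ha, rfl⟩ := hV y
  obtain ⟨b, hb, rfl⟩ := hV z
  rw [← map_mul, ← map_mul]
  exact congrArg π (Subtype.ext (h.comm ha hb).eq)

theorem not_threeClass_of_linearKind {L : Subgroup G} (hk : LinearKind L) (hVL : (V : Subgroup G) ≤ L) :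
    ¬ ThreeClass (V : Subgroup G) L :=
  h.not_threeClass_of_normal hk le_rfl le_normalizer hVL

/-- A normal subgroup over `V` of a group of linear kind moves `t` to `u` in `N(V)` and is insoluble. -/
theorem exists_fuse_normal {L K : Subgroup G} (hk : LinearKind L) (hKL : K ≤ L)
    (hn : L ≤ normalizer (K : Set G)) (hVK : (V : Subgroup G) ≤ K) :
    (∃ n ∈ K ⊓ normalizer ((V : Subgroup G) : Set G), n * t * n⁻¹ = u ∧ n * u * n⁻¹ = t * u) ∧
      ¬ Group.IsSolvable ↥K :=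
  ⟨h.exists_fuse hVK (h.not_threeClass_of_normal hk hKL hn hVK),
    h.not_isSolvable_of_linearKind hk hKL hn hVK⟩

/-- A normal subgroup of a group of linear kind contains `V` or lies in the core. -/
theorem le_or_le_oddOf {L K : Subgroup G} (hk : LinearKind L) (hVL : (V : Subgroup G) ≤ L) (hKL : K ≤ L)
    (hn : L ≤ normalizer (K : Set G)) : (V : Subgroup G) ≤ K ∨ K ≤ oddOf L := by
  haveI : Fact (Nat.Prime 2) := ⟨Nat.prime_two⟩
  by_cases h2 : 2 ∣ Nat.card ↥K
  · refine Or.inl ?_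
    obtain ⟨x, hx⟩ := exists_prime_orderOf_dvd_card' 2 h2
    have hx2 : orderOf (x : G) = 2 := by rw [Subgroup.orderOf_coe, hx]
    obtain ⟨g, hg, hgx⟩ := exists_conj_mem_sylow V hVL (hKL x.2) hx2
    have hv : g * (x : G) * g⁻¹ ∈ K := (mem_normalizer_iff.1 (hn hg) _).1 x.2
    have hv1 : g * (x : G) * g⁻¹ ≠ 1 := fun e => by
      rw [conj_eq_one_iff.1 e, orderOf_one] at hx2
      omega
    obtain ⟨n, ⟨hnL, -⟩, hnt, hnu⟩ := h.exists_fuse hVL (h.not_threeClass_of_linearKind hk hVL)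
    have hstep : ∀ {v : G}, v ∈ K → n * v * n⁻¹ ∈ K := fun {_} hv =>
      (mem_normalizer_iff.1 (hn hnL) _).1 hv
    have hn3 : n * (t * u) * n⁻¹ = t := by
      rw [show n * (t * u) * n⁻¹ = (n * t * n⁻¹) * (n * u * n⁻¹) by group, hnt, hnu,
        (h.comm h.ht h.hu).eq, ← mul_assoc, h.mul_self h.hu, one_mul]
    have hall : t ∈ K ∧ u ∈ K := by
      rcases h.mem_iff.1 hgx with e | e | e | e
      · exact absurd e hv1
      · rw [e] at hv
        exact ⟨hv, hnt ▸ hstep hv⟩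
      · rw [e] at hv
        exact ⟨hn3 ▸ hstep (hnu ▸ hstep hv), hv⟩
      · rw [e] at hv
        exact ⟨hn3 ▸ hstep hv, hnt ▸ hstep (hn3 ▸ hstep hv)⟩
    intro v hv
    rcases h.mem_iff.1 hv with rfl | rfl | rfl | rfl
    exacts [one_mem _, hall.1, hall.2, mul_mem hall.1 hall.2]
  · exact Or.inr (le_oddOf hKL hn (Nat.odd_iff.2 (by omega)))

/-- The linear quotient at `V`: the order modulo eight, and the images of `t` and `u`. -/
theorem linear_quotient {H : Subgroup G} {F : Type} [Field F] [Fintype F] (hodd : Odd (Fintype.card F))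
    {N : Subgroup G} (hVN : (V : Subgroup G) ≤ N) {π : ↥N →* Matrix.ProjectiveSpecialLinearGroup (Fin 2) F}
    (hπ : Function.Surjective π) (hker : ∀ x : ↥N, π x = 1 ↔ (x : G) ∈ oddOf H) :
    (Fintype.card F % 8 = 3 ∨ Fintype.card F % 8 = 5) ∧ orderOf (π ⟨t, hVN h.ht⟩) = 2 ∧
      orderOf (π ⟨u, hVN h.hu⟩) = 2 ∧ Commute (π ⟨u, hVN h.hu⟩) (π ⟨t, hVN h.ht⟩) ∧
      π ⟨u, hVN h.hu⟩ ≠ π ⟨t, hVN h.ht⟩ := by
  haveI : Fact (Nat.Prime 2) := ⟨Nat.prime_two⟩
  have hord : ∀ {v : G} (hv : v ∈ (V : Subgroup G)), v ≠ 1 → orderOf (π ⟨v, hVN hv⟩) = 2 := fun {v} hv hv1 =>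
    orderOf_eq_prime (by rw [pow_two, ← map_mul,
      show (⟨v, hVN hv⟩ : ↥N) * ⟨v, hVN hv⟩ = 1 from Subtype.ext (h.mul_self hv), map_one])
      (h.map_ne_one hker hv (hVN hv) hv1)
  refine ⟨PSL.mod_eight hodd fun h8 => ?_, hord h.ht h.ht1, hord h.hu h.hu1,
    (show Commute (⟨u, hVN h.hu⟩ : ↥N) ⟨t, hVN h.ht⟩ from Subtype.ext (h.comm h.hu h.ht).eq).map π, ?_⟩
  · have h8G : 2 ^ 3 ∣ Nat.card G := by
      rw [show 2 ^ 3 = 8 from rfl]
      refine h8.trans ((Subgroup.card_dvd_of_surjective π hπ).trans (Subgroup.card_subgroup_dvd_card N))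
    have h4 := V.card_eq_multiplicity
    rw [h.card_V] at h4
    have hf : (Nat.card G).factorization 2 = 2 :=
      (Nat.pow_right_injective le_rfl (show 2 ^ 2 = 2 ^ (Nat.card G).factorization 2 from h4)).symm
    have := (Nat.prime_two.pow_dvd_iff_le_factorization Nat.card_pos.ne').1 h8G
    omega
  · intro e
    refine h.map_ne_one hker h.tu_mem (hVN h.tu_mem) h.tu_ne_one ?_
    rw [show (⟨t * u, hVN h.tu_mem⟩ : ↥N) = ⟨t, hVN h.ht⟩ * ⟨u, hVN h.hu⟩ from rfl, map_mul, e, ← map_mul,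
      show (⟨t, hVN h.ht⟩ : ↥N) * ⟨t, hVN h.ht⟩ = 1 from Subtype.ext (h.mul_self h.ht), map_one]

/-- An odd abelian group centralised by `t`, inverted by `u` and disjoint from the core is cyclic. -/
theorem isCyclic_of_inverted {H : Subgroup G} (hVH : (V : Subgroup G) ≤ H) (hk : LinearKind H)
    {A : Subgroup G} (hA : A ≤ H) (hodd : Odd (Nat.card ↥A)) (ht : ∀ a ∈ A, Commute a t)
    (hu : ∀ a ∈ A, u * a * u⁻¹ = a⁻¹) (hAO : A ⊓ oddOf H = ⊥) : IsCyclic ↥A := by
  obtain ⟨F, _, _, N, π, hqodd, -, -, hHN, hmem, -, hπ, hker⟩ := hk.exists_hom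
  have hVN : (V : Subgroup G) ≤ N := fun v hv => hmem v (hVH hv) (h.mul_self hv)
  obtain ⟨-, hto, -, -, -⟩ := h.linear_quotient hqodd hVN hπ hker
  obtain ⟨T, hT, -, hTm, -, -, -⟩ := PSL.exists_torus hqodd hto
  have hAN : A ≤ N := fun a ha => by
    obtain ⟨k, hk⟩ := Odd.of_dvd_nat hodd (A.orderOf_dvd_natCard ha)
    have h1 : a * a ∈ N := by
      have h2 : a * u * a⁻¹ * u⁻¹ ∈ N :=
        mul_mem ((mem_normalizer_iff.1 (hHN (hA ha)) u).1 (hVN h.hu)) (inv_mem (hVN h.hu))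
      rwa [show a * u * a⁻¹ * u⁻¹ = a * (u * a * u⁻¹)⁻¹ by group, hu a ha, inv_inv] at h2
    have h3 : (a * a) ^ (k + 1) = a := by
      rw [← pow_two, ← pow_mul, show 2 * (k + 1) = orderOf a + 1 by omega, pow_succ, pow_orderOf_eq_one, one_mul]
    exact h3 ▸ pow_mem h1 _
  let f : ↥A →* ↥T := (π.comp (Subgroup.inclusion hAN)).codRestrict T fun a => hTm _
    (Odd.of_dvd_nat (Odd.of_dvd_nat hodd (A.orderOf_dvd_natCard a.2))
      ((orderOf_map_dvd _ a).trans (by rw [Subgroup.orderOf_coe])))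
    ((show Commute (Subgroup.inclusion hAN a) ⟨t, hVN h.ht⟩ from Subtype.ext (ht a a.2).eq).map π)
  refine isCyclic_of_injective f ((injective_iff_map_eq_one f).2 fun a ha => Subtype.ext ?_)
  have h1 : (a : G) ∈ oddOf H := (hker (Subgroup.inclusion hAN a)).1 (congrArg Subtype.val ha)
  exact mem_bot.1 (hAO ▸ Subgroup.mem_inf.2 ⟨a.2, h1⟩)

end Hyp

end Cfsg.Agent.Invol.GW.Klein
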