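import Cfsg.Agent.Lib.Invol.GW.Klein.CoreCentral
import Cfsg.Agent.Lib.Invol.GW.Klein.Linear

/-!
# Gorenstein–Walter, Klein four: centralisers of elements of order `l` of `R`

When `O_l(U)` is nontrivial every element of order `l` of `R` has a centraliser of linear kind.
-/

set_option autoImplicit false
set_option linter.unusedSectionVars false

namespace Cfsg.Agent.Invol.GW.Klein

open Subgroup
open scoped Pointwise commutatorElement

universe u

variable {G : Type u} [Group G] [Finite G]

namespace Hyp

variable {V : Sylow 2 G} {t u : G} (h : Hyp V t u)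
include h

theorem isSolvable_of_a4Kind {L : Subgroup G} (hVL : (V : Subgroup G) ≤ L)
    (hL : A4Kind (V : Subgroup G) L) : Group.IsSolvable ↥L := by
  set N : Subgroup G := oddOf L ⊔ (V : Subgroup G) with hN
  have hNs : Group.IsSolvable ↥N := isSolvable_sup (hVL.trans (le_normalizer_oddOf L))
    (isSolvable_of_odd (odd_card_oddOf L)) (have := V.isPGroup'.isNilpotent; inferInstance)
  have hNL : N ≤ L := sup_le (oddOf_le L) hVL
  haveI : (N.subgroupOf L).Normal := normal_subgroupOf_of_le_normalizer hL.1
  haveI : Group.IsSolvable ↥(N.subgroupOf L) :=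
    Grp.isSolvable_of_injective (subgroupOfEquivOfLe hNL).toMonoidHom (subgroupOfEquivOfLe hNL).injective hNs
  have h3 : Nat.card (↥L ⧸ N.subgroupOf L) = 3 := by rw [← Subgroup.index]; exact hL.2
  haveI : Fact (Nat.Prime 3) := ⟨Nat.prime_three⟩
  haveI := isCyclic_of_prime_card h3
  haveI : Group.IsSolvable (↥L ⧸ N.subgroupOf L) := inferInstance
  exact Group.isSolvable_of_ker_le_range (N.subgroupOf L).subtype
    (QuotientGroup.mk' (N.subgroupOf L)) (by rw [QuotientGroup.ker_mk', Subgroup.range_subtype])

theorem V_le_centralizer_fixR : (V : Subgroup G) ≤ centralizer (fixR t u : Set G) := fun _ hv =>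
  mem_centralizer_iff.2 fun _ hx => (h.commute_of_mem_fixR hx hv).eq

theorem V_le_centralizer {z : G} (hz : z ∈ fixR t u) : (V : Subgroup G) ≤ centralizer ({z} : Set G) :=
  fun _ hv => mem_centralizer_singleton_iff.2 (h.commute_of_mem_fixR hz hv).symm.eq

variable (hC : IsCoatom (centralizer ({t} : Set G))) (hA : NoLinear V t u)
include hC hA

/-- The centraliser of an element of order `l` of `R` is of linear kind. -/
theorem centralizer_linearKind {l : ℕ} [Fact l.Prime] (hY : opOf l (coreCent t) ≠ ⊥) {z : G}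
    (hz : z ∈ fixR t u) (ho : orderOf z = l) :
    LinearKind (centralizer ({z} : Set G)) ∧ ¬ ThreeClass (V : Subgroup G) (centralizer ({z} : Set G)) := by
  have hlr : l ∣ Nat.card ↥(fixR t u) := ho ▸ (fixR t u).orderOf_dvd_natCard hz
  obtain ⟨P, hP, -, hzP⟩ := Grp.exists_invariant_sylow_ge (p := l) (⊥ : Subgroup G) (fixR t u) bot_le (by simp)
    (Or.inl inferInstance) (U := zpowers z) (zpowers_le.2 hz)
    (IsPGroup.of_card (n := 1) (by rw [Nat.card_zpowers, ho, pow_one])) bot_le
  obtain ⟨hVP, hk⟩ := h.normalizer_linearKind hC hA hlr hY hP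
  obtain ⟨⟨n, hn, hnt, -⟩, hns⟩ := h.exists_fuse_normal hk (centralizer_le_normalizer _)
    (fun g hg => mem_normalizer_iff.2 fun x => by
      have key : ∀ g ∈ normalizer (P : Set G), ∀ x ∈ centralizer (P : Set G),
          g * x * g⁻¹ ∈ centralizer (P : Set G) := by
        intro g hg x hx
        refine mem_centralizer_iff.2 fun y hy => ?_
        have := (show Commute (g⁻¹ * y * g⁻¹⁻¹) x from
          mem_centralizer_iff.1 hx _ ((mem_normalizer_iff.1 (inv_mem hg) y).1 hy)).conj g
        rwa [show g * (g⁻¹ * y * g⁻¹⁻¹) * g⁻¹ = y by group] at this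
      exact ⟨key g hg x, fun hx => by simpa [mul_assoc] using key g⁻¹ (inv_mem hg) _ hx⟩) hVP
  have hle : centralizer (P : Set G) ≤ centralizer ({z} : Set G) :=
    Subgroup.centralizer_le (Set.singleton_subset_iff.2 (hzP (mem_zpowers z)))
  have hVz := h.V_le_centralizer hz
  have hth := h.not_threeClass hVz (hle hn.1) hnt
  refine ⟨?_, hth⟩
  have hne : centralizer ({z} : Set G) ≠ ⊤ := fun e => by
    haveI := h.simple
    have hzc : z ∈ center G := mem_center_iff.2 fun g =>
      mem_centralizer_singleton_iff.1 (e ▸ mem_top g)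
    rcases (inferInstance : (center G).Normal).eq_bot_or_eq_top with e' | e'
    · rw [e', mem_bot] at hzc
      rw [hzc, orderOf_one] at ho
      exact (Fact.out : l.Prime).one_lt.ne ho
    · refine h.centralizer_ne_top (eq_top_iff.2 fun g _ => ?_)
      exact mem_centralizer_singleton_iff.2 (mem_center_iff.1 (e' ▸ mem_top t) g)
  rcases h.known _ hne hVz with hk' | hk' | hk'
  · exact absurd hk' hth
  · exact absurd (Grp.isSolvable_of_le hle (h.isSolvable_of_a4Kind hVz hk')) hns
  · exact hk'

/-- The core of the centraliser of an element of order `l` of `O_l(U) ⊓ R` lies in `R`. -/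
theorem oddOf_le_fixR {l : ℕ} [Fact l.Prime] {z : G} (hzY : z ∈ opOf l (coreCent t)) (hz : z ∈ fixR t u)
    (ho : orderOf z = l) : oddOf (centralizer ({z} : Set G)) ≤ fixR t u := by
  have hz1 : z ≠ 1 := fun e => (Fact.out : l.Prime).one_lt.ne (by rw [← ho, e, orderOf_one])
  have hY : opOf l (coreCent t) ≠ ⊥ := fun e => hz1 (by rwa [e, mem_bot] at hzY)
  exact h.oddOf_centralizer_le hC hzY hz hz1 (h.centralizer_linearKind hC hA hY hz ho).2

end Hyp

end Cfsg.Agent.Invol.GW.Klein
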