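import Cfsg.Agent.Lib.Invol.GW.Klein.Setup

/-!
# Gorenstein–Walter, Klein four: a simple group with a four group as Sylow 2-subgroup gives the configuration
-/

set_option autoImplicit false
set_option linter.unusedSectionVars false

namespace Cfsg.Agent.Invol.GW.Klein

open Subgroup

universe u

variable {G : Type u} [Group G] [Finite G]

/-- A simple group with a four group as Sylow 2-subgroup has one class of involutions. -/
theorem one_class_of_simple [IsSimpleGroup G] (V : Sylow 2 G) (hV : IsKleinFour (V : Subgroup G)) (s s' : G)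
    (hs : orderOf s = 2) (hs' : orderOf s' = 2) : IsConj s s' := by
  haveI : Fact (Nat.Prime 2) := ⟨Nat.prime_two⟩
  rcases threeClass_or_fuse V hV (le_top : (V : Subgroup G) ≤ ⊤) with hth | ⟨n, ⟨-, hnN⟩, a, ha, hna⟩
  · exfalso
    haveI : (oddOf (⊤ : Subgroup G)).Normal :=
      normalizer_eq_top_iff.1 (top_le_iff.1 (le_normalizer_oddOf ⊤))
    rcases (inferInstance : (oddOf (⊤ : Subgroup G)).Normal).eq_bot_or_eq_top with e | e
    · -- then the group is abelian of order four
      have hVtop : (V : Subgroup G) = ⊤ := top_le_iff.1 (by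
        have h1 := hth
        rwa [ThreeClass, e, bot_sup_eq] at h1)
      haveI := hV
      have hcomm : ∀ a b : G, a * b = b * a := fun a b =>
        klein_comm V hV (show a ∈ (V : Subgroup G) by rw [hVtop]; exact mem_top a) (show b ∈ (V : Subgroup G) by rw [hVtop]; exact mem_top b)
      letI : CommGroup G := { (inferInstance : Group G) with mul_comm := hcomm }
      have h4 : Nat.card G = 4 := by rw [← hV.card_four, hVtop, Subgroup.card_top]
      have := IsSimpleGroup.prime_card (α := G)
      rw [h4] at this
      exact absurd this (by decide)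
    · have hodd := odd_card_oddOf (⊤ : Subgroup G)
      rw [e, Subgroup.card_top] at hodd
      have h2 : 2 ∣ Nat.card G := hs ▸ orderOf_dvd_natCard s
      obtain ⟨k, hk⟩ := hodd
      omega
  · -- a fused pair makes all of `V` one class
    have ha1 : a ≠ 1 := fun e => hna (by rw [e]; group)
    have hb : n * a * n⁻¹ ∈ (V : Subgroup G) := (mem_normalizer_iff.1 hnN a).1 ha
    have key : ∀ x : G, orderOf x = 2 → IsConj a x := by
      intro x hx
      obtain ⟨g, hg⟩ := exists_conj_mem_sylow (p := 2) (n := 1) (by rw [hx, pow_one]) V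
      exact (klein_all_conj V hV ha hb ha1 (Ne.symm hna) (isConj_iff.2 ⟨n, rfl⟩) hg
        (by simpa using ne_one_of_orderOf_two hx)).trans (isConj_iff.2 ⟨g, rfl⟩).symm
    exact (key s hs).symm.trans (key s' hs')

/-- The configuration from a simple group and its known proper subgroups. -/
theorem exists_hyp [IsSimpleGroup G] (V : Sylow 2 G) (hV : IsKleinFour (V : Subgroup G))
    (known : ∀ L : Subgroup G, L ≠ ⊤ → (V : Subgroup G) ≤ L →
      ThreeClass (V : Subgroup G) L ∨ A4Kind (V : Subgroup G) L ∨ LinearKind L) :
    ∃ t u : G, Hyp V t u := by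
  haveI := hV
  haveI : Nontrivial (V : Subgroup G) := Finite.one_lt_card_iff_nontrivial.1 (by rw [hV.card_four]; norm_num)
  obtain ⟨x, hx⟩ := exists_ne (1 : (V : Subgroup G))
  obtain ⟨y, hy, hyx⟩ : ∃ y : (V : Subgroup G), y ≠ 1 ∧ y ≠ x := by
    haveI : Fintype (V : Subgroup G) := Fintype.ofFinite _
    classical
    by_contra hne
    push Not at hne
    have hle : (Finset.univ : Finset (V : Subgroup G)) ⊆ {1, x} := fun y _ => by
      by_cases h1 : y = 1
      · simp [h1]
      · simp [hne y h1]
    have := (Finset.card_le_card hle).trans Finset.card_le_two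
    rw [Finset.card_univ, ← Nat.card_eq_fintype_card, hV.card_four] at this
    omega
  exact ⟨x, y, ⟨inferInstance, hV, x.2, y.2, fun e => hx (Subtype.ext e), fun e => hy (Subtype.ext e),
    fun e => hyx (Subtype.ext e).symm, one_class_of_simple V hV, known⟩⟩

end Cfsg.Agent.Invol.GW.Klein
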