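import Cfsg.Agent.Lib.Invol.GW.Klein.Cores

/-!
# An orbit of lines of a plane

`U` normalises the plane `M / N₀`; the conjugates of the line `P` miss the line `Q`.  There are at most `l` of them,
and if there are `l` then `U` normalises `Q`.
-/

set_option autoImplicit false
set_option linter.unusedSectionVars false

namespace Cfsg.Agent.Invol.GW.Klein

open Subgroup

universe u

variable {G : Type u} [Group G]

/-- An element of odd order inverts only elements of square one. -/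
theorem mul_self_of_inverted {w x : G} (hw : Odd (orderOf w)) (h : w * x * w⁻¹ = x⁻¹) : x * x = 1 := by
  have hev : ∀ j : ℕ, w ^ (2 * j) * x * (w ^ (2 * j))⁻¹ = x := by
    intro j
    induction j with
    | zero => simp
    | succ j ih =>
      calc w ^ (2 * (j + 1)) * x * (w ^ (2 * (j + 1)))⁻¹
          = w * (w * (w ^ (2 * j) * x * (w ^ (2 * j))⁻¹) * w⁻¹) * w⁻¹ := by
            rw [show 2 * (j + 1) = 2 * j + 1 + 1 by ring, pow_succ', pow_succ']
            simp [mul_assoc]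
        _ = x := by rw [ih, h, ← inv_inv (w * x⁻¹ * w⁻¹), show (w * x⁻¹ * w⁻¹)⁻¹ = w * x * w⁻¹ by group, h,
              inv_inv]
  obtain ⟨j, hj⟩ := hw
  have h1 : w ^ (2 * j + 1) * x * (w ^ (2 * j + 1))⁻¹ = x⁻¹ := by
    calc w ^ (2 * j + 1) * x * (w ^ (2 * j + 1))⁻¹
        = w * (w ^ (2 * j) * x * (w ^ (2 * j))⁻¹) * w⁻¹ := by rw [pow_succ']; simp [mul_assoc]
      _ = x⁻¹ := by rw [hev, h]
  rw [← hj, pow_orderOf_eq_one, one_mul, inv_one, mul_one] at h1
  exact mul_eq_one_iff_eq_inv.2 h1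

variable [Finite G]

/-- Inversion modulo a normalised subgroup by an element of odd order is trivial. -/
theorem mem_of_inverted_mod {N : Subgroup G} {w x : G} (hw : Odd (orderOf w)) (hx : Odd (orderOf x))
    (hwN : w ∈ normalizer (N : Set G)) (hxN : x ∈ normalizer (N : Set G)) (h : w * x * w⁻¹ * x ∈ N) : x ∈ N := by
  let M := normalizer (N : Set G)
  haveI : (N.subgroupOf M).Normal := normal_subgroupOf_of_le_normalizer le_rfl
  set π := QuotientGroup.mk' (N.subgroupOf M)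
  have hinv : π ⟨w, hwN⟩ * π ⟨x, hxN⟩ * (π ⟨w, hwN⟩)⁻¹ = (π ⟨x, hxN⟩)⁻¹ := by
    refine mul_eq_one_iff_eq_inv.1 ?_
    rw [← map_inv, ← map_mul, ← map_mul, ← map_mul]
    exact (QuotientGroup.eq_one_iff _).2 (mem_subgroupOf.2 h)
  have h1 := mul_self_of_inverted (Odd.of_dvd_nat hw
    ((orderOf_map_dvd π _).trans (Subgroup.orderOf_mk w hwN).dvd)) hinv
  have h2 : Odd (orderOf (π ⟨x, hxN⟩)) :=
    Odd.of_dvd_nat hx ((orderOf_map_dvd π _).trans (Subgroup.orderOf_mk x hxN).dvd)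
  have h3 : orderOf (π ⟨x, hxN⟩) = 1 := by
    have h4 : orderOf (π ⟨x, hxN⟩) ∣ 2 := orderOf_dvd_of_pow_eq_one (by rw [pow_two]; exact h1)
    rcases (Nat.dvd_prime Nat.prime_two).1 h4 with e | e
    · exact e
    · rw [e] at h2
      exact absurd h2 (by decide)
  exact mem_subgroupOf.1 ((QuotientGroup.eq_one_iff _).1 (orderOf_eq_one_iff.1 h3))

theorem ncard_sdiff {A B : Subgroup G} (h : B ≤ A) :
    ((A : Set G) \ (B : Set G)).ncard + Nat.card ↥B = Nat.card ↥A := by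
  rw [← Nat.card_coe_set_eq ((A : Set G) \ (B : Set G)), Nat.card_coe_set_eq,
    Set.ncard_sdiff (SetLike.coe_subset_coe.2 h) (Set.toFinite _), ← Nat.card_coe_set_eq (A : Set G),
    ← Nat.card_coe_set_eq (B : Set G)]
  exact Nat.sub_add_cancel (Nat.le_of_dvd Nat.card_pos (card_dvd_of_le h))

/-- The conjugates of the line `P` missing `Q`: at most `l`, and `l` only when `U` normalises `Q`. -/
theorem orbit_bound {U M P N₀ Q : Subgroup G} {l d : ℕ} (hl : 1 < l) (hUM : U ≤ normalizer (M : Set G))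
    (hUN : U ≤ normalizer (N₀ : Set G)) (hPM : P ≤ M) (hQM : Q ≤ M) (hNP : N₀ ≤ P)
    (hP : Nat.card ↥P = l * Nat.card ↥N₀) (hQ : Nat.card ↥Q = l * Nat.card ↥N₀)
    (hM : Nat.card ↥M = l * (l * Nat.card ↥N₀))
    (hgen : ∀ k ∈ U, ∀ x ∈ P, x ∉ N₀ → k * x * k⁻¹ ∈ P → k ∈ normalizer (P : Set G))
    (hsep : ∀ k ∈ U, ∀ x ∈ P, x ∉ N₀ → k * x * k⁻¹ ∉ Q)
    (hd : (U ⊓ normalizer (P : Set G)).relIndex U = d) : d ≤ l ∧ (d = l → U ≤ normalizer (Q : Set G)) := by
  classical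
  set S := (U ⊓ normalizer (P : Set G)).subgroupOf U
  have hdS : Nat.card (↥U ⧸ S) = d := by rw [← hd]; rfl
  let f : (↥U ⧸ S) × ↥((P : Set G) \ (N₀ : Set G)) → ↥((M : Set G) \ (Q : Set G)) := fun p =>
    ⟨(p.1.out : G) * (p.2 : G) * (p.1.out : G)⁻¹,
      (mem_normalizer_iff.1 (hUM p.1.out.2) _).1 (hPM p.2.2.1), hsep _ p.1.out.2 _ p.2.2.1 p.2.2.2⟩
  have hf : Function.Injective f := by
    rintro ⟨q, x, hx⟩ ⟨q', x', hx'⟩ e
    have e1 : (q.out : G) * x * (q.out : G)⁻¹ = (q'.out : G) * x' * (q'.out : G)⁻¹ := congrArg Subtype.val e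
    have h1 : ((q.out : G)⁻¹ * q'.out) * x' * ((q.out : G)⁻¹ * q'.out)⁻¹ = x := by
      calc ((q.out : G)⁻¹ * q'.out) * x' * ((q.out : G)⁻¹ * q'.out)⁻¹
          = (q.out : G)⁻¹ * ((q'.out : G) * x' * (q'.out : G)⁻¹) * q.out := by group
        _ = x := by rw [← e1]; group
    have hk : (q.out : G)⁻¹ * q'.out ∈ normalizer (P : Set G) :=
      hgen _ (mul_mem (inv_mem q.out.2) q'.out.2) x' hx'.1 hx'.2 (h1 ▸ hx.1)
    have hq : q = q' := by
      rw [← Quotient.out_eq q, ← Quotient.out_eq q']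
      exact QuotientGroup.eq.2 (mem_subgroupOf.2 (Subgroup.mem_inf.2 ⟨mul_mem (inv_mem q.out.2) q'.out.2, hk⟩))
    subst hq
    exact Prod.ext rfl (Subtype.ext (by simpa using e1))
  have hle := Nat.card_le_card_of_injective f hf
  rw [Nat.card_prod, hdS, Nat.card_coe_set_eq, Nat.card_coe_set_eq] at hle
  have hp := ncard_sdiff hNP
  have hq := ncard_sdiff hQM
  rw [hP] at hp
  rw [hQ, hM] at hq
  have hpos : 0 < Nat.card ↥N₀ := Nat.card_pos
  have hpc : ((P : Set G) \ (N₀ : Set G)).ncard = (l - 1) * Nat.card ↥N₀ := by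
    rw [Nat.sub_mul, one_mul]
    omega
  have hqc : ((M : Set G) \ (Q : Set G)).ncard = l * ((l - 1) * Nat.card ↥N₀) := by
    rw [Nat.sub_mul, one_mul, Nat.mul_sub]
    omega
  rw [hpc, hqc] at hle
  have hdl : d ≤ l := Nat.le_of_mul_le_mul_right hle (Nat.mul_pos (by omega) hpos)
  refine ⟨hdl, fun hdl' g hg => ?_⟩
  have hbij : Function.Bijective f := by
    rw [Nat.bijective_iff_injective_and_card]
    refine ⟨hf, ?_⟩
    rw [Nat.card_prod, hdS, Nat.card_coe_set_eq, Nat.card_coe_set_eq, hpc, hqc, hdl']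
  refine mem_normalizer_fintype fun y hy => ?_
  by_contra hne
  obtain ⟨⟨q, x, hx⟩, e⟩ := hbij.2 ⟨g * y * g⁻¹, (mem_normalizer_iff.1 (hUM hg) y).1 (hQM hy), hne⟩
  have e1 : (q.out : G) * x * (q.out : G)⁻¹ = g * y * g⁻¹ := congrArg Subtype.val e
  refine hsep (g⁻¹ * q.out) (mul_mem (inv_mem hg) q.out.2) x hx.1 hx.2 ?_
  rw [show g⁻¹ * (q.out : G) * x * (g⁻¹ * q.out)⁻¹ = g⁻¹ * ((q.out : G) * x * (q.out : G)⁻¹) * g by group, e1,
    show g⁻¹ * (g * y * g⁻¹) * g = y by group]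
  exact hy

end Cfsg.Agent.Invol.GW.Klein
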