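import Cfsg.Agent.Lib.Invol.GW.Klein.Cores

/-!
# Gorenstein–Walter, Klein four: the Sylow subgroups at a prime dividing the core of `C(t)`

The centraliser of `t` is maximal.  If `Y` is the nontrivial `l`-core of `U`, then a `t`-invariant `l`-group
normalised by `Ω₁Z(Y)` is centralised by `t` (`trick`); an invariant Sylow subgroup `Q` of `U` not inside
`R` is then a Sylow subgroup of the group and `t` is the only involution centralising it.  So an `l`-group whose
normaliser fuses `V` lies in `R`.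
-/

set_option autoImplicit false
set_option linter.unusedSectionVars false

namespace Cfsg.Agent.Invol.GW.Klein

open Subgroup
open scoped Pointwise commutatorElement

universe u

variable {G : Type u} [Group G] [Finite G]

namespace Hyp

variable {V : Sylow 2 G} {t u : G} (h : Hyp V t u)
include h

theorem isSolvable_coreCent : Group.IsSolvable ↥(coreCent t) := isSolvable_of_odd h.odd_coreCent

theorem card_V : Nat.card (V : Subgroup G) = 4 := h.klein.card_four

theorem coprime_V {K : Subgroup G} (hK : Odd (Nat.card ↥K)) :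
    (Nat.card (V : Subgroup G)).Coprime (Nat.card ↥K) := by
  rw [h.card_V, show (4 : ℕ) = 2 ^ 2 from rfl]
  exact (Nat.coprime_two_left.2 hK).pow_left 2

theorem V_le_normalizer_coreCent : (V : Subgroup G) ≤ normalizer (coreCent t : Set G) :=
  h.le_centralizer.trans h.le_normalizer_coreCent

/-- An element of odd order of `O V` lies in `O`. -/
theorem mem_of_odd {O : Subgroup G} (hn : (V : Subgroup G) ≤ normalizer (O : Set G)) {x : G}
    (hx : x ∈ O ⊔ (V : Subgroup G)) (ho : Odd (orderOf x)) : x ∈ O := by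
  obtain ⟨a, ha, b, hb, rfl⟩ := exists_mul_of_sup hn hx
  obtain ⟨k, hk⟩ := ho
  have h2 : ((a * b) ^ 2) ^ (k + 1) = a * b := by
    rw [← pow_mul, show 2 * (k + 1) = orderOf (a * b) + 1 by omega, pow_succ, pow_orderOf_eq_one, one_mul]
  have h3 : (a * b) ^ 2 ∈ O := by
    rw [pow_two, show a * b * (a * b) = a * (b * a * b⁻¹) * (b * b) by group, h.mul_self hb, mul_one]
    exact mul_mem ha ((mem_normalizer_iff.1 (hn hb) a).1 ha)
  exact h2 ▸ pow_mem h3 _

/-- An odd group normalised by `V` does not move its elements. -/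
theorem eq_of_conj {O : Subgroup G} (hO : Odd (Nat.card ↥O)) (hn : (V : Subgroup G) ≤ normalizer (O : Set G))
    {a v w : G} (ha : a ∈ O) (hv : v ∈ (V : Subgroup G)) (hw : w ∈ (V : Subgroup G))
    (he : a * v * a⁻¹ = w) : v = w := by
  have hmem : a * (v * a⁻¹ * v⁻¹) ∈ O := mul_mem ha ((mem_normalizer_iff.1 (hn hv) _).1 (inv_mem ha))
  rw [h.inv_eq hv, show a * (v * a⁻¹ * v) = a * v * a⁻¹ * v by group, he] at hmem
  exact ((mul_eq_one_iff_eq_inv.1 (eq_one_of_odd hO hmem (h.mul_self (mul_mem hw hv)))).trans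
    (h.inv_eq hv)).symm

theorem not_threeClass {L : Subgroup G} (hVL : (V : Subgroup G) ≤ L) {n : G} (hn : n ∈ L)
    (hnt : n * t * n⁻¹ = u) : ¬ ThreeClass (V : Subgroup G) L := by
  intro hL
  obtain ⟨a, ha, b, hb, hab⟩ := exists_mul_of_sup (hVL.trans (le_normalizer_oddOf L)) (hL hn)
  refine h.htu (h.eq_of_conj (odd_card_oddOf L) (hVL.trans (le_normalizer_oddOf L)) ha h.ht h.hu ?_)
  rwa [← hab, show a * b * t * (a * b)⁻¹ = a * (b * t * b⁻¹) * a⁻¹ by group, (h.comm hb h.ht).eq,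
    mul_inv_cancel_right] at hnt

theorem mem_fixR_of_commute {x : G} (ho : Odd (orderOf x)) (h1 : Commute x t) (h2 : Commute x u) :
    x ∈ fixR t u := h.mem_fixR.2 ⟨h.mem_coreCent_of_odd h1 ho, h2⟩

/-- An odd subgroup centralised by `V` lies in `R`. -/
theorem le_fixR {K : Subgroup G} (hK : Odd (Nat.card ↥K))
    (hc : ∀ x ∈ K, ∀ v ∈ (V : Subgroup G), Commute x v) : K ≤ fixR t u := fun x hx =>
  h.mem_fixR_of_commute (Odd.of_dvd_nat hK (K.orderOf_dvd_natCard hx)) (hc x hx t h.ht) (hc x hx u h.hu)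

/-- The subgroup `⟨u⟩` inverts nothing but through `V`: in the `A₄` case the centraliser of `t` is in the core. -/
theorem coreCent_inf_le_oddOf {L : Subgroup G} (hVL : (V : Subgroup G) ≤ L)
    (hL : A4Kind (V : Subgroup G) L) {n : G} (hn : n ∈ L) (hnt : n * t * n⁻¹ = u) :
    coreCent t ⊓ L ≤ oddOf L := by
  intro x hx
  have hVn : (V : Subgroup G) ≤ normalizer (oddOf L : Set G) := hVL.trans (le_normalizer_oddOf L)
  have hxo : Odd (orderOf x) := Odd.of_dvd_nat h.odd_coreCent ((coreCent t).orderOf_dvd_natCard hx.1)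
  refine h.mem_of_odd hVn ?_ hxo
  by_contra hxN
  set N : Subgroup G := oddOf L ⊔ (V : Subgroup G) with hN
  have hNL : N ≤ L := sup_le (oddOf_le L) hVL
  haveI : (N.subgroupOf L).Normal := normal_subgroupOf_of_le_normalizer hL.1
  haveI : Fact (Nat.Prime 3) := ⟨Nat.prime_three⟩
  have h3 : Nat.card (↥L ⧸ N.subgroupOf L) = 3 := by rw [← Subgroup.index]; exact hL.2
  have hgen := zpowers_eq_top_of_prime_card h3 (g := ((⟨x, hx.2⟩ : ↥L) : ↥L ⧸ N.subgroupOf L))
    (fun e => hxN (mem_subgroupOf.1 ((QuotientGroup.eq_one_iff _).1 e)))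
  obtain ⟨i, hi⟩ := Subgroup.mem_zpowers_iff.1
    (hgen.symm ▸ mem_top (((⟨n, hn⟩ : ↥L) : ↥L ⧸ N.subgroupOf L)) :
      ((⟨n, hn⟩ : ↥L) : ↥L ⧸ N.subgroupOf L) ∈
        Subgroup.zpowers ((⟨x, hx.2⟩ : ↥L) : ↥L ⧸ N.subgroupOf L))
  rw [← QuotientGroup.mk_zpow, eq_comm, ← mul_inv_eq_one, ← QuotientGroup.mk_inv, ← QuotientGroup.mk_mul,
    QuotientGroup.eq_one_iff, mem_subgroupOf] at hi
  obtain ⟨a, ha, b, hb, hab⟩ := exists_mul_of_sup hVn hi
  refine h.htu (h.eq_of_conj (odd_card_oddOf L) hVn ha h.ht h.hu ?_)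
  have hxt : Commute (x ^ i) t := (h.commute_of_mem hx.1).zpow_left i
  have hn' : n = a * b * x ^ i := by rw [hab]; simp
  calc a * t * a⁻¹ = a * (b * (x ^ i * t * (x ^ i)⁻¹) * b⁻¹) * a⁻¹ := by
        rw [hxt.eq, mul_inv_cancel_right, (h.comm hb h.ht).eq, mul_inv_cancel_right]
    _ = n * t * n⁻¹ := by rw [hn']; group
    _ = u := hnt

/-! ## The trick -/

variable (hC : IsCoatom (centralizer ({t} : Set G)))
include hC

/-- A `t`-invariant `l`-group normalised by `Ω₁Z(O_l(U))` is centralised by `t`. -/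
theorem trick {l : ℕ} [Fact l.Prime] (hY : opOf l (coreCent t) ≠ ⊥) {T : Subgroup G} (hT : IsPGroup l T)
    (ht : t ∈ normalizer (T : Set G))
    (hB : omZ l (opOf l (coreCent t)) ≤ normalizer (T : Set G)) : T ≤ centralizer ({t} : Set G) := by
  set B := omZ l (opOf l (coreCent t)) with hBdef
  have hBU : B ≤ coreCent t := (omZ_le _ _).trans (opOf_le _ _)
  have hl : Odd l := by
    obtain ⟨k, hk⟩ := IsPGroup.iff_card.1 (isPGroup_opOf l (coreCent t))
    have hodd : Odd (Nat.card ↥(opOf l (coreCent t))) := odd_of_le (opOf_le _ _) h.odd_coreCent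
    rw [hk] at hodd
    rcases Nat.eq_zero_or_pos k with rfl | hk0
    · exact absurd (Subgroup.card_eq_one.1 (by rw [hk, pow_zero])) hY
    · exact Odd.of_dvd_nat hodd (dvd_pow_self l hk0.ne')
  have hCB : centralizer ({t} : Set G) ≤ normalizer (B : Set G) :=
    (h.le_normalizer_coreCent.trans (normalizer_le_normalizer_opOf l _)).trans (normalizer_le_omZ l _)
  have hN : normalizer (B : Set G) = centralizer ({t} : Set G) :=
    h.normalizer_eq hC (hBU.trans h.coreCent_le) (omZ_ne_bot (isPGroup_opOf l _) hY) hCB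
  have hz : zpowers t ≤ centralizer (T : Set G) := by
    refine Grp.thompson_PQ (p := l) B (zpowers t) ((isPGroup_opOf l _).to_le (omZ_le _ _)) ?_
      (fun x hx => mem_centralizer_iff.2 fun y hy => ?_) T hT hB (zpowers_le.2 ht) ?_
    · rw [Nat.card_zpowers, h.orderOf_eq h.ht h.ht1]
      exact Nat.coprime_two_left.2 hl
    · obtain ⟨i, rfl⟩ := Subgroup.mem_zpowers_iff.1 hy
      exact ((h.commute_of_mem (hBU hx)).zpow_right i).eq.symm
    · intro x hx
      rw [← Grp.centralizer_singleton_eq_zpowers]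
      exact hN.le (centralizer_le_normalizer _ hx.2)
  exact fun x hx => mem_centralizer_singleton_iff.2
    (mem_centralizer_iff.1 (hz (mem_zpowers t)) x hx)

variable {l : ℕ} [Fact l.Prime] (hY : opOf l (coreCent t) ≠ ⊥) {Q : Subgroup G}
  (hQ : Grp.IsSylowIn l Q (coreCent t)) (hQV : (V : Subgroup G) ≤ normalizer (Q : Set G))
  (hQR : ¬ Q ≤ fixR t u)
include hY hQ hQV hQR

theorem sylow_normalizer : ThreeClass (V : Subgroup G) (normalizer (Q : Set G)) := by
  by_contra hth
  obtain ⟨n, ⟨hnX, -⟩, hnt, -⟩ := h.exists_fuse hQV hth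
  refine hQR fun y hy => h.mem_fixR.2 ⟨hQ.1 hy, ?_⟩
  have := (h.commute_of_mem (hQ.1 ((mem_normalizer_iff.1 (inv_mem hnX) y).1 hy))).conj n
  rwa [hnt, show n * (n⁻¹ * y * n⁻¹⁻¹) * n⁻¹ = y by group] at this

theorem omZ_le_sylow : omZ l (opOf l (coreCent t)) ≤ Q := (omZ_le _ _).trans (opOf_le_isSylowIn hQ)

/-- The invariant Sylow subgroup of `U` is one of the core of its normaliser. -/
theorem isSylowIn_core : Grp.IsSylowIn l Q (oddOf (normalizer (Q : Set G))) := by
  have hVX : (V : Subgroup G) ≤ normalizer (Q : Set G) := hQV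
  have hodd := odd_card_oddOf (normalizer (Q : Set G))
  have hQO : Q ≤ oddOf (normalizer (Q : Set G)) :=
    le_oddOf le_normalizer (le_refl _) (odd_of_le hQ.1 h.odd_coreCent)
  obtain ⟨T, hT, hTV, hQT⟩ := Grp.exists_invariant_sylow_ge (V : Subgroup G) _
    (hVX.trans (le_normalizer_oddOf _)) (h.coprime_V hodd) (Or.inr (isSolvable_of_odd hodd)) hQO hQ.2.1 hQV
  have hTC : T ≤ centralizer ({t} : Set G) :=
    h.trick hC hY hT.2.1 (hTV h.ht) ((h.omZ_le_sylow hC hY hQ hQV hQR).trans (hQT.trans le_normalizer))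
  have hTU : T ≤ coreCent t := fun x hx => h.mem_coreCent_of_odd (mem_centralizer_singleton_iff.1 (hTC hx))
    (Odd.of_dvd_nat (odd_of_le hT.1 hodd) (T.orderOf_dvd_natCard hx))
  exact (hQ.eq_of_le hQT hTU hT.2.1) ▸ hT

/-- The invariant Sylow subgroup of `U` is a Sylow subgroup of the group. -/
theorem exists_sylow : ∃ S : Sylow l G, (S : Subgroup G) = Q := by
  obtain ⟨S, hS⟩ := hQ.2.1.exists_le_sylow
  refine ⟨S, le_antisymm ?_ hS⟩
  by_contra hne
  have hlt : Q < (S : Subgroup G) := lt_of_le_of_ne hS fun e => hne e.ge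
  have hnc := @Group.normalizerCondition_of_isNilpotent ↥(S : Subgroup G) _ S.isPGroup'.isNilpotent
  obtain ⟨x, hx, hxQ⟩ := Set.exists_of_ssubset (hnc (Q.subgroupOf (S : Subgroup G))
    (lt_top_iff_ne_top.mpr fun e => hlt.not_ge (Subgroup.subgroupOf_eq_top.mp e)))
  have hxn : (x : G) ∈ normalizer (Q : Set G) := mem_normalizer_fintype fun y hy => by
    have := (mem_normalizer_iff.1 hx ⟨y, hS hy⟩).1 (mem_subgroupOf.2 hy)
    exact mem_subgroupOf.1 this
  have hl : Odd l := by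
    obtain ⟨k, hk⟩ := IsPGroup.iff_card.1 (hQ.2.1)
    have hodd : Odd (Nat.card ↥Q) := odd_of_le hQ.1 h.odd_coreCent
    rw [hk] at hodd
    rcases Nat.eq_zero_or_pos k with rfl | hk0
    · rw [pow_zero] at hk
      refine absurd ?_ hQR
      rw [Subgroup.card_eq_one.1 hk]
      exact bot_le
    · exact Odd.of_dvd_nat hodd (dvd_pow_self l hk0.ne')
  have hxo : Odd (orderOf (x : G)) := by
    obtain ⟨k, hk⟩ := S.isPGroup' x
    exact Odd.of_dvd_nat (hl.pow (n := k)) (orderOf_dvd_of_pow_eq_one (congrArg Subtype.val hk))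
  have hxO : (x : G) ∈ oddOf (normalizer (Q : Set G)) := h.mem_of_odd
    (hQV.trans (le_normalizer_oddOf _)) (h.sylow_normalizer hC hY hQ hQV hQR hxn) hxo
  have heq := (h.isSylowIn_core hC hY hQ hQV hQR).eq_of_le (Y := Q ⊔ zpowers (x : G)) le_sup_left
    (sup_le (le_oddOf le_normalizer (le_refl _) (odd_of_le hQ.1 h.odd_coreCent)) (zpowers_le.2 hxO))
    (S.isPGroup'.to_le (sup_le hS (zpowers_le.2 x.2)))
  exact hxQ (mem_subgroupOf.2 (heq.ge (mem_sup_right (mem_zpowers _))))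

theorem centralizer_le : centralizer (Q : Set G) ≤ centralizer ({t} : Set G) := by
  have hB := h.omZ_le_sylow hC hY hQ hQV hQR
  rw [← h.normalizer_eq hC ((hB.trans hQ.1).trans h.coreCent_le) (omZ_ne_bot (isPGroup_opOf l _) hY)
    ((h.le_normalizer_coreCent.trans (normalizer_le_normalizer_opOf l _)).trans (normalizer_le_omZ l _))]
  exact (Subgroup.centralizer_le hB).trans (centralizer_le_normalizer _)

/-- `t` is the only involution centralising it. -/
theorem eq_of_centralizes {s : G} (hs : orderOf s = 2) (hc : ∀ y ∈ Q, Commute s y) : s = t := by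
  have hsC : s ∈ centralizer ({t} : Set G) :=
    h.centralizer_le hC hY hQ hQV hQR (mem_centralizer_iff.2 fun y hy => (hc y hy).eq.symm)
  obtain ⟨a, ha, b, hb, rfl⟩ := h.exists_mul hsC
  have hss : a * b * (a * b) = 1 := by rw [← pow_two, ← hs, pow_orderOf_eq_one]
  have hba : b * a * b⁻¹ = a⁻¹ := by
    rw [h.inv_eq hb]
    exact eq_inv_of_mul_eq_one_right (by simpa [mul_assoc] using hss)
  have haX : a * b ∈ normalizer (Q : Set G) :=
    centralizer_le_normalizer _ (mem_centralizer_iff.2 fun y hy => (hc y hy).eq.symm)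
  have haN : a ∈ normalizer (Q : Set G) := by simpa using mul_mem haX (inv_mem (hQV hb))
  obtain ⟨k, hk⟩ := Odd.of_dvd_nat h.odd_coreCent ((coreCent t).orderOf_dvd_natCard ha)
  set c := a ^ (k + 1) with hcdef
  have hca : c * c = a := by
    rw [hcdef, ← pow_add, show k + 1 + (k + 1) = orderOf a + 1 by omega, pow_succ, pow_orderOf_eq_one, one_mul]
  have hbc : b * c⁻¹ * b⁻¹ = c := by
    rw [hcdef, ← inv_pow, ← conj_pow, show b * a⁻¹ * b⁻¹ = (b * a * b⁻¹)⁻¹ by group, hba, inv_inv]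
  have hsb : c * b * c⁻¹ = a * b := by
    rw [show c * b * c⁻¹ = c * (b * c⁻¹ * b⁻¹) * b by group, hbc, hca]
  have hbQ : ∀ y ∈ Q, Commute b y := by
    intro y hy
    have hcy : c * y * c⁻¹ ∈ Q := (mem_normalizer_iff.1 (pow_mem haN _) y).1 hy
    have := (hc _ hcy).conj c⁻¹
    rwa [← hsb, show c⁻¹ * (c * b * c⁻¹) * c⁻¹⁻¹ = b by group,
      show c⁻¹ * (c * y * c⁻¹) * c⁻¹⁻¹ = y by group] at this
  have hb1 : b = t := by
    rcases h.mem_iff.1 hb with rfl | rfl | rfl | rfl
    · rw [mul_one] at hs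
      have h2 : Odd (orderOf a) := Odd.of_dvd_nat h.odd_coreCent ((coreCent t).orderOf_dvd_natCard ha)
      rw [hs] at h2
      exact absurd h2 (by decide)
    · rfl
    · exact absurd (fun y hy => h.mem_fixR.2 ⟨hQ.1 hy, (hbQ y hy).symm⟩) hQR
    · exact absurd (fun y hy => h.fixR_swap ▸ h.swap.mem_fixR.2 ⟨hQ.1 hy, (hbQ y hy).symm⟩) hQR
  subst hb1
  rw [← hsb, (h.commute_of_mem (pow_mem ha _)).eq, mul_inv_cancel_right]

/-- Every `l`-subgroup is centralised by an involution. -/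
theorem exists_invol_centralizes {T : Subgroup G} (hT : IsPGroup l T) :
    ∃ s : G, orderOf s = 2 ∧ ∀ y ∈ T, Commute s y := by
  obtain ⟨S, hS⟩ := h.exists_sylow hC hY hQ hQV hQR
  obtain ⟨S', hS'⟩ := hT.exists_le_sylow
  obtain ⟨g, hg⟩ := MulAction.exists_smul_eq G S S'
  refine ⟨g * t * g⁻¹, ?_, fun y hy => ?_⟩
  · rw [show orderOf (g * t * g⁻¹) = orderOf t from MulEquiv.orderOf_eq (MulAut.conj g) t,
      h.orderOf_eq h.ht h.ht1]
  · have hy' := hS' hy
    rw [← hg, Sylow.coe_subgroup_smul, hS] at hy'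
    obtain ⟨q, hq, rfl⟩ := hy'
    exact (h.commute_of_mem (hQ.1 hq)).symm.conj g

/-- An `l`-group whose normaliser contains `V` and fuses it lies in `R`. -/
theorem le_fixR_of_fuse {T : Subgroup G} (hT : IsPGroup l T) (hTV : (V : Subgroup G) ≤ normalizer (T : Set G))
    {n : G} (hn : n ∈ normalizer (T : Set G)) (hnt : n * t * n⁻¹ = u) : T ≤ fixR t u := by
  obtain ⟨s, hs, hsT⟩ := h.exists_invol_centralizes hC hY hQ hQV hQR hT
  have hsX : s ∈ normalizer (T : Set G) :=
    centralizer_le_normalizer _ (mem_centralizer_iff.2 fun y hy => (hsT y hy).eq.symm)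
  obtain ⟨x, hx, hxV⟩ := exists_conj_mem_sylow V hTV hsX hs
  obtain ⟨m, ⟨hm, -⟩, hmt, hmu⟩ := h.exists_fuse hTV (h.not_threeClass hTV hn hnt)
  -- a fused set of involutions of `V` is all of them
  have hmove : ∀ {v : G}, (∀ y ∈ T, Commute v y) → ∀ {g : G}, g ∈ normalizer (T : Set G) →
      ∀ y ∈ T, Commute (g * v * g⁻¹) y := by
    intro v hv g hg y hy
    have := (hv _ ((mem_normalizer_iff.1 (inv_mem hg) y).1 hy)).conj g
    rwa [show g * (g⁻¹ * y * g⁻¹⁻¹) * g⁻¹ = y by group] at this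
  have hv0 := hmove hsT hx
  have hv1 : x * s * x⁻¹ ≠ 1 := by
    rw [ne_eq, conj_eq_one_iff]
    intro e
    rw [e, orderOf_one] at hs
    omega
  have hm3 : m * (t * u) * m⁻¹ = t := by
    rw [show m * (t * u) * m⁻¹ = (m * t * m⁻¹) * (m * u * m⁻¹) by group, hmt, hmu,
      (h.comm h.ht h.hu).eq, ← mul_assoc, h.mul_self h.hu, one_mul]
  have hall : (∀ y ∈ T, Commute t y) ∧ ∀ y ∈ T, Commute u y := by
    rcases h.mem_iff.1 hxV with e | e | e | e
    · exact absurd e hv1
    · rw [e] at hv0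
      exact ⟨hv0, hmt ▸ hmove hv0 hm⟩
    · rw [e] at hv0
      have h2 := hmove hv0 hm
      rw [hmu] at h2
      have h3 := hmove h2 hm
      rw [hm3] at h3
      exact ⟨h3, hv0⟩
    · rw [e] at hv0
      have h3 := hmove hv0 hm
      rw [hm3] at h3
      exact ⟨h3, hmt ▸ hmove h3 hm⟩
  have hodd : Odd (Nat.card ↥T) := by
    obtain ⟨S, hS⟩ := h.exists_sylow hC hY hQ hQV hQR
    obtain ⟨S', hS'⟩ := hT.exists_le_sylow
    have : Odd (Nat.card ↥(S' : Subgroup G)) := by
      rw [S'.card_eq_multiplicity, ← S.card_eq_multiplicity, hS]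
      exact odd_of_le hQ.1 h.odd_coreCent
    exact odd_of_le hS' this
  exact fun y hy => h.mem_fixR_of_commute (Odd.of_dvd_nat hodd (T.orderOf_dvd_natCard hy))
    (hall.1 y hy).symm (hall.2 y hy).symm

/-- An invariant Sylow subgroup of the core of a fusing subgroup over `V` lies in `R`. -/
theorem sylow_core_le_fixR {L : Subgroup G} (hVL : (V : Subgroup G) ≤ L)
    (hL : ¬ ThreeClass (V : Subgroup G) L) {X : Subgroup G} (hX : Grp.IsSylowIn l X (oddOf L))
    (hXV : (V : Subgroup G) ≤ normalizer (X : Set G)) : X ≤ fixR t u := by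
  obtain ⟨n, ⟨hnL, hnV⟩, hnt, -⟩ := h.exists_fuse hVL hL
  have hOn := le_normalizer_oddOf L
  obtain ⟨c, ⟨hc, hcV⟩, hcX⟩ := Grp.invariant_sylow_conj (V : Subgroup G) (oddOf L) (hVL.trans hOn)
    (h.coprime_V (odd_card_oddOf L)) (Or.inr (isSolvable_of_odd (odd_card_oddOf L))) (X := MulAut.conj n • X)
    (hX.smul (Grp.mem_normalizer_iff_smul.1 (hOn hnL))) hX
    (fun v hv => by
      rw [Grp.mem_normalizer_iff_smul]
      have hv' : n⁻¹ * v * n ∈ (V : Subgroup G) := by
        simpa using (mem_normalizer_iff.1 (inv_mem hnV) v).1 hv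
      have h1 := Grp.mem_normalizer_iff_smul.1 (hXV hv')
      calc MulAut.conj v • MulAut.conj n • X = MulAut.conj n • MulAut.conj (n⁻¹ * v * n) • X := by
            rw [Grp.conj_smul_conj_smul, Grp.conj_smul_conj_smul]; group
        _ = MulAut.conj n • X := by rw [h1])
    hXV
  have hct : Commute c u := (mem_centralizer_iff.1 hcV u h.hu).symm
  refine h.le_fixR_of_fuse hC hY hQ hQV hQR hX.2.1 hXV (n := c * n) ?_ ?_
  · rw [Grp.mem_normalizer_iff_smul, ← Grp.conj_smul_conj_smul]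
    exact hcX
  · rw [show c * n * t * (c * n)⁻¹ = c * (n * t * n⁻¹) * c⁻¹ by group, hnt, hct.eq, mul_inv_cancel_right]

end Hyp

end Cfsg.Agent.Invol.GW.Klein
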