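import Cfsg.Agent.Lib.Invol.GW.Klein.Setup
import Cfsg.Agent.Lib.Invol.GW.Klein.ThreeClassBasic
import Cfsg.Agent.Lib.Grp.SL2Basic

/-!
A proper subgroup over the four group is constrained, or the four group centralises its Fitting subgroup and one of
its involutions centralises, modulo the core, any given nilpotent subgroup of odd order that it normalises.
-/

set_option autoImplicit false
set_option linter.unusedSectionVars false

namespace Cfsg.Agent.Invol.GW.ThreeClass

open Subgroup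
open scoped commutatorElement

universe u

theorem sl_mul_self_eq_one {F : Type*} [Field F] [Fintype F] {c : Matrix.SpecialLinearGroup (Fin 2) F}
    (hc : c ∈ center (Matrix.SpecialLinearGroup (Fin 2) F)) : c * c = 1 := by
  obtain ⟨r, hr, hr'⟩ := Matrix.SpecialLinearGroup.mem_center_iff.1 hc
  rcases Grp.SL2.isScalar_of_coe (x := c) (c := r) (by
    rw [← hr', Matrix.scalar_apply, Matrix.smul_one_eq_diagonal]) with rfl | rfl
  · exact one_mul 1
  · exact neg_mul_neg 1 1 |>.trans (one_mul 1)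

/-- In `PSL₂` the centraliser of an element of odd order is commutative. -/
theorem psl_commute {F : Type*} [Field F] [Fintype F]
    {x a b : Matrix.ProjectiveSpecialLinearGroup (Fin 2) F} (hx : x ≠ 1) (hodd : Odd (orderOf x))
    (ha : Commute a x) (hb : Commute b x) : Commute a b := by
  obtain ⟨X, rfl⟩ := QuotientGroup.mk_surjective x
  obtain ⟨A, rfl⟩ := QuotientGroup.mk_surjective a
  obtain ⟨B, rfl⟩ := QuotientGroup.mk_surjective b
  have key : ∀ C : Matrix.SpecialLinearGroup (Fin 2) F,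
      Commute (QuotientGroup.mk C : Matrix.ProjectiveSpecialLinearGroup (Fin 2) F) (QuotientGroup.mk X) →
      Commute C (X * X) := by
    intro C hC
    set c := C * X * C⁻¹ * X⁻¹ with hc
    have hcz : c ∈ center (Matrix.SpecialLinearGroup (Fin 2) F) := by
      rw [← QuotientGroup.eq_one_iff, hc, QuotientGroup.mk_mul, QuotientGroup.mk_mul, QuotientGroup.mk_mul,
        QuotientGroup.mk_inv, QuotientGroup.mk_inv, hC.eq, mul_inv_cancel_right, mul_inv_cancel]
    have hcX : Commute X c := Subgroup.mem_center_iff.1 hcz X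
    refine commute_of_conj ?_
    calc C * (X * X) * C⁻¹ = (c * X) * (c * X) := by rw [hc]; group
      _ = c * c * (X * X) := by
        rw [mul_assoc c X (c * X), ← mul_assoc X c X, hcX.eq, mul_assoc c X X, ← mul_assoc, ← mul_assoc]
      _ = X * X := by rw [sl_mul_self_eq_one hcz, one_mul]
  have hns : ¬ Grp.SL2.IsScalar (X * X) := by
    intro h
    have h2 : (X * X) * (X * X) = 1 := by
      rcases h with e | e <;> rw [e]
      · exact one_mul 1
      · exact neg_mul_neg 1 1 |>.trans (one_mul 1)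
    refine hx (orderOf_eq_one_iff.1 ?_)
    have h4 : orderOf (QuotientGroup.mk X : Matrix.ProjectiveSpecialLinearGroup (Fin 2) F) ∣ 2 ^ 2 :=
      orderOf_dvd_of_pow_eq_one (by
        rw [← QuotientGroup.mk_pow, show X ^ (2 ^ 2) = X ^ 2 * X ^ 2 from pow_add X 2 2, pow_two X, h2, QuotientGroup.mk_one])
    exact Nat.eq_one_of_dvd_coprimes ((Nat.coprime_two_right.2 hodd).pow_right 2) dvd_rfl h4
  have h := Grp.SL2.commute_trans hns (key A ha) (key B hb).symm
  exact h.map (QuotientGroup.mk' (center (Matrix.SpecialLinearGroup (Fin 2) F)))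

variable {G : Type u} [Group G] [Finite G] {V : Sylow 2 G} {t u : G}

open Klein Transfer.Loc

theorem isSolvable_of_extension {X : Type*} [Group X] (N : Subgroup X) [N.Normal] [Group.IsSolvable N]
    [Group.IsSolvable (X ⧸ N)] : Group.IsSolvable X :=
  Group.isSolvable_of_ker_le_range N.subtype (QuotientGroup.mk' N) (by simp)

theorem isSolvable_sup {A B : Subgroup G} (hBA : B ≤ normalizer (A : Set G)) (hA : Group.IsSolvable A)
    (hB : Group.IsSolvable B) : Group.IsSolvable ↥(A ⊔ B) := by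
  haveI : (A.subgroupOf (A ⊔ B)).Normal :=
    (normal_subgroupOf_iff_le_normalizer le_sup_left).2 (sup_le le_normalizer hBA)
  haveI : Group.IsSolvable (A.subgroupOf (A ⊔ B)) :=
    Group.isSolvable_of_surjective (f := (subgroupOfEquivOfLe (le_sup_left : A ≤ A ⊔ B)).symm.toMonoidHom)
      (subgroupOfEquivOfLe (le_sup_left : A ≤ A ⊔ B)).symm.surjective
  haveI : Group.IsSolvable (↥(A ⊔ B) ⧸ A.subgroupOf (A ⊔ B)) := by
    refine Group.isSolvable_of_surjective
      (f := (QuotientGroup.mk' (A.subgroupOf (A ⊔ B))).comp (inclusion le_sup_right : B →* ↥(A ⊔ B))) ?_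
    intro q
    obtain ⟨⟨x, hx⟩, rfl⟩ := QuotientGroup.mk_surjective q
    obtain ⟨a, ha, b, hb, rfl⟩ := Klein.exists_mul_of_sup hBA hx
    refine ⟨⟨b, hb⟩, (QuotientGroup.eq.2 ?_)⟩
    show b⁻¹ * (a * b) ∈ A
    rw [← mul_assoc]
    exact conj_mem' (hBA hb) ha
  exact isSolvable_of_extension (A.subgroupOf (A ⊔ B))

theorem eq_one_of_sq_odd {X : Type*} [Group X] {x : X} (ho : Odd (orderOf x)) (h : x * x = 1) : x = 1 := by
  obtain ⟨k, hk⟩ := ho
  have h2 : x ^ 2 = 1 := by rw [pow_two]; exact h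
  have := pow_orderOf_eq_one x
  rwa [hk, pow_succ, pow_mul, h2, one_pow, one_mul] at this

/-- An involution of a normal subgroup of odd index commuting modulo the core with the trace of `A` commutes modulo
the core with `A`. -/
theorem commutator_mem {H A : Subgroup G} {N : Subgroup H} [N.Normal] {Q : Type*} [Group Q] {π : N →* Q}
    (h : Hyp V t u) (hAH : A ≤ H) (hAV : (V : Subgroup G) ≤ normalizer (A : Set G))
    (hAodd : Odd (Nat.card A)) (hO : H ≤ normalizer (oddOf H : Set G)) {hVH : (V : Subgroup G) ≤ H}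
    {v : G} (hv : v ∈ (V : Subgroup G)) (hVN : ∀ v (hv : v ∈ (V : Subgroup G)), (⟨v, hVH hv⟩ : H) ∈ N)
    (hmem1 : ∀ y : N, π y = 1 ↔ H.subtype.comp N.subtype y ∈ oddOf H)
    (hcom : ∀ y' ∈ A.comap (H.subtype.comp N.subtype), Commute (π ⟨⟨v, hVH hv⟩, hVN v hv⟩) (π y'))
    {a : G} (ha : a ∈ A) : v * a * v⁻¹ * a⁻¹ ∈ oddOf H := by
  obtain ⟨c, hc, r, hr, hvc, hvr, rfl⟩ := decomp (h.mul_self hv) hAodd (hAV hv) ha
  let v' : H := ⟨v, hVH hv⟩
  let r' : H := ⟨r, hAH hr⟩
  have hr2 : r' * r' ∈ N := by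
    have h1 : r' * v' * r'⁻¹ * v'⁻¹ ∈ N :=
      N.mul_mem ((inferInstance : N.Normal).conj_mem _ (hVN v hv) r') (N.inv_mem (hVN v hv))
    have e : r' * r' = r' * v' * r'⁻¹ * v'⁻¹ := Subtype.ext (by
      show r * r = r * v * r⁻¹ * v⁻¹
      rw [show r * v * r⁻¹ * v⁻¹ = r * (v * r * v⁻¹)⁻¹ by group, hvr, inv_inv])
    rwa [e]
  obtain ⟨k, hk⟩ := exists_sqrt (x := r') (by rw [← Subgroup.orderOf_coe]; exact odd_orderOf hAodd hr)
  have hrN : r' ∈ N := by
    rw [← hk, ← (Commute.refl r').mul_pow]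
    exact N.pow_mem hr2 k
  have h1 := hcom ⟨r', hrN⟩ (show r ∈ A from hr)
  have h2 : v * r * v⁻¹ * r⁻¹ ∈ oddOf H := (hmem1 (⟨v', hVN v hv⟩ * ⟨r', hrN⟩ * ⟨v', hVN v hv⟩⁻¹ *
    ⟨r', hrN⟩⁻¹)).1 (by rw [map_mul, map_mul, map_mul, map_inv, map_inv, h1.eq, mul_inv_cancel_right,
      mul_inv_cancel])
  have h3 := conj_mem (hO (hAH hc)) h2
  rwa [show c * (v * r * v⁻¹ * r⁻¹) * c⁻¹ = v * (c * r) * v⁻¹ * (c * r)⁻¹ by
    rw [show v * (c * r) * v⁻¹ = (v * c * v⁻¹) * (v * r * v⁻¹) by group, hvc.eq, mul_inv_cancel_right]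
    group] at h3

theorem fittingOf_le_of_normal {H L : Subgroup G} (hL : L ≤ H) (hn : H ≤ normalizer (L : Set G)) :
    Cfsg.fittingOf L ≤ Cfsg.fittingOf H := by
  rw [fittingOf_eq, fittingOf_eq]
  refine iSup_mono fun r => ?_
  haveI := Fact.mk r.2
  exact le_O ((O_le _ _).trans hL) (le_normalizer_core hn) (O_isPGroup _ _)

/-- An element of the core centralising the Fitting subgroup lies in it. -/
theorem mem_fittingOf_of_core {H : Subgroup G} {m : G} (hm : m ∈ oddOf H)
    (hc : m ∈ centralizer (Cfsg.fittingOf H : Set G)) : m ∈ Cfsg.fittingOf H := by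
  have hle := fittingOf_le_of_normal (oddOf_le H) (le_normalizer_oddOf H)
  haveI := isSolvable_of_odd (odd_card_oddOf H)
  exact hle (centralizer_fittingOf_le (oddOf H) ⟨hm, centralizer_le hle hc⟩)

theorem local_dichotomy (h : Hyp V t u) {H : Subgroup G} (hH : H ≠ ⊤) (hVH : (V : Subgroup G) ≤ H) :
    H ⊓ centralizer (Cfsg.fittingOf H : Set G) ≤ Cfsg.fittingOf H ∨
      ((V : Subgroup G) ≤ centralizer (Cfsg.fittingOf H : Set G) ∧
        ∀ A : Subgroup G, A ≤ H → Odd (Nat.card A) → Group.IsNilpotent A →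
          (V : Subgroup G) ≤ normalizer (A : Set G) →
          ∃ v ∈ (V : Subgroup G), v ≠ 1 ∧ ∀ a ∈ A, v * a * v⁻¹ * a⁻¹ ∈ oddOf H) := by
  by_cases hcon : H ⊓ centralizer (Cfsg.fittingOf H : Set G) ≤ Cfsg.fittingOf H
  · exact Or.inl hcon
  refine Or.inr ?_
  haveI : Fact (Nat.Prime 2) := ⟨Nat.prime_two⟩
  have hO := le_normalizer_oddOf H
  have hsol : ¬ Group.IsSolvable H := fun hs => hcon (by haveI := hs; exact centralizer_fittingOf_le H)
  have hnot : ¬ Klein.ThreeClass (V : Subgroup G) H := by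
    intro hth
    refine hsol ?_
    haveI := isSolvable_of_odd (odd_card_oddOf H)
    haveI : Group.IsSolvable (V : Subgroup G) := by
      have := V.isPGroup'.isNilpotent
      infer_instance
    haveI := isSolvable_sup (hVH.trans hO) (inferInstanceAs (Group.IsSolvable (oddOf H)))
      (inferInstanceAs (Group.IsSolvable (V : Subgroup G)))
    exact Grp.isSolvable_of_le hth inferInstance
  obtain ⟨n, ⟨hnH, -⟩, hnt, hnu⟩ := h.exists_fuse hVH hnot
  set Γ := H ⊓ centralizer (Cfsg.fittingOf H : Set G) with hΓ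
  have hΓn : H ≤ normalizer (Γ : Set G) := Grp.le_normalizer_inf' le_normalizer
    ((le_normalizer_fittingOf H).trans normalizer_le_normalizer_centralizer)
  have hVΓ : (V : Subgroup G) ≤ Γ := by
    have h2 : 2 ∣ Nat.card Γ := by
      by_contra hd
      refine hcon fun x hx => mem_fittingOf_of_core ?_ hx.2
      exact le_oddOf inf_le_left hΓn (Nat.odd_iff.2 (Nat.two_dvd_ne_zero.1 hd)) hx
    obtain ⟨i, hi⟩ := exists_prime_orderOf_dvd_card' 2 h2
    have hi' : orderOf (i : G) = 2 := by rw [Subgroup.orderOf_coe, hi]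
    -- conjugate the involution into `V` inside `H`
    obtain ⟨Q, hQ⟩ : ∃ Q : Sylow 2 H, (⟨(i : G), i.2.1⟩ : H) ∈ (Q : Subgroup H) := by
      obtain ⟨Q, hQ⟩ := (IsPGroup.of_card (p := 2) (n := 1) (G := zpowers (⟨(i : G), i.2.1⟩ : H)) (by
        rw [Nat.card_zpowers, ← Subgroup.orderOf_coe, pow_one]; exact hi')).exists_le_sylow
      exact ⟨Q, hQ (mem_zpowers _)⟩
    obtain ⟨g, hg⟩ := MulAction.exists_smul_eq H Q (V.subtype hVH)
    have hmem : (g : G) * i * (g : G)⁻¹ ∈ (V : Subgroup G) := by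
      have h1 : g * (⟨(i : G), i.2.1⟩ : H) * g⁻¹ ∈ ((g • Q : Sylow 2 H) : Subgroup H) :=
        Grp.mem_smul_conj.2 (by simpa [mul_assoc] using hQ)
      rw [hg] at h1
      exact h1
    have hΓm : (g : G) * i * (g : G)⁻¹ ∈ Γ := conj_mem (hΓn g.2) i.2
    have hne : (g : G) * i * (g : G)⁻¹ ≠ 1 := by
      rw [ne_eq, conj_eq_one_iff]
      intro e
      rw [e, orderOf_one] at hi'
      omega
    have hn' : ∀ x ∈ Γ, n * x * n⁻¹ ∈ Γ := fun x hx => conj_mem (hΓn hnH) hx
    have htu' : n * (t * u) * n⁻¹ = t := by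
      rw [show n * (t * u) * n⁻¹ = (n * t * n⁻¹) * (n * u * n⁻¹) by group, hnt, hnu, (h.comm h.ht h.hu).eq,
        ← mul_assoc, h.mul_self h.hu, one_mul]
    have htΓ : t ∈ Γ := by
      rcases h.mem_iff.1 hmem with e | e | e | e
      · exact absurd e hne
      · exact e ▸ hΓm
      · rw [e] at hΓm
        have := hn' _ (hn' _ hΓm)
        rwa [hnu, htu'] at this
      · rw [e] at hΓm
        have := hn' _ hΓm
        rwa [htu'] at this
    intro x hx
    rcases h.mem_iff.1 hx with rfl | rfl | rfl | rfl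
    exacts [one_mem _, htΓ, hnt ▸ hn' _ htΓ, mul_mem htΓ (hnt ▸ hn' _ htΓ)]
  refine ⟨hVΓ.trans inf_le_right, fun A hAH hAodd hAnil hAV => ?_⟩
  obtain ⟨N, F, _, _, hNn, hNi, hON, -, -, π, hπ, hker⟩ : LinearKind H := by
    rcases h.known H hH hVH with hth | hA4 | hL
    · exact absurd hth hnot
    · refine absurd ?_ hsol
      haveI := isSolvable_of_odd (odd_card_oddOf H)
      haveI : Group.IsSolvable (V : Subgroup G) := by
        have := V.isPGroup'.isNilpotent
        infer_instance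
      haveI hs := isSolvable_sup (hVH.trans hO) (inferInstanceAs (Group.IsSolvable (oddOf H)))
        (inferInstanceAs (Group.IsSolvable (V : Subgroup G)))
      have hle : oddOf H ⊔ (V : Subgroup G) ≤ H := sup_le (oddOf_le H) hVH
      haveI : ((oddOf H ⊔ (V : Subgroup G)).subgroupOf H).Normal := normal_subgroupOf_of_le_normalizer hA4.1
      haveI : Group.IsSolvable ((oddOf H ⊔ (V : Subgroup G)).subgroupOf H) :=
        Group.isSolvable_of_surjective (f := (subgroupOfEquivOfLe hle).symm.toMonoidHom)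
          (subgroupOfEquivOfLe hle).symm.surjective
      haveI : Group.IsSolvable (H ⧸ (oddOf H ⊔ (V : Subgroup G)).subgroupOf H) := by
        haveI : Fact (Nat.Prime 3) := ⟨Nat.prime_three⟩
        have := isCyclic_of_prime_card (α := H ⧸ (oddOf H ⊔ (V : Subgroup G)).subgroupOf H) (p := 3) hA4.2
        infer_instance
      exact isSolvable_of_extension ((oddOf H ⊔ (V : Subgroup G)).subgroupOf H)
    · exact hL
  haveI := hNn
  -- elements of odd index normal subgroups
  have hVN : ∀ v (hv : v ∈ (V : Subgroup G)), (⟨v, hVH hv⟩ : H) ∈ N := by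
    intro v hv
    rw [← QuotientGroup.eq_one_iff]
    refine eq_one_of_sq_odd ?_ ?_
    · exact Odd.of_dvd_nat hNi (orderOf_dvd_natCard _)
    · rw [← QuotientGroup.mk_mul]
      exact (QuotientGroup.eq_one_iff _).2 (by
        rw [show (⟨v, hVH hv⟩ : H) * ⟨v, hVH hv⟩ = 1 from Subtype.ext (h.mul_self hv)]
        exact one_mem N)
  let ι : N →* G := H.subtype.comp N.subtype
  have hι : Function.Injective ι := H.subtype_injective.comp N.subtype_injective
  have hmem1 : ∀ y : N, π y = 1 ↔ ι y ∈ oddOf H := by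
    intro y
    rw [← MonoidHom.mem_ker, hker, mem_subgroupOf]
    exact ⟨fun hy => ⟨y, hy, rfl⟩, fun ⟨z, hz, e⟩ => by rwa [H.subtype_injective e] at hz⟩
  set A₀ := A.comap ι
  have hA₀odd : Odd (Nat.card A₀) :=
    hAodd.of_dvd_nat ((Nat.card_congr (equivMapOfInjective A₀ ι hι).toEquiv).symm ▸
      card_dvd_of_le (map_comap_le ι A))
  set V₀ := (V : Subgroup G).comap ι
  set P := A₀.map π
  set W := V₀.map π
  have hPodd : Odd (Nat.card P) := hA₀odd.of_dvd_nat (card_map_dvd _ π)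
  have hPnil : Group.IsNilpotent P := by
    haveI : Group.IsNilpotent A₀ := Group.nilpotent_of_mulEquiv
      (Subgroup.equivMapOfInjective A₀ ι hι).symm (_h := Grp.isNilpotent_of_le (map_comap_le ι A) hAnil)
    exact Grp.isNilpotent_map inferInstance π
  by_cases hP : P = ⊥
  · refine ⟨t, h.ht, h.ht1, fun a ha => ?_⟩
    exact commutator_mem h hAH hAV hAodd hO h.ht hVN hmem1 (fun y hy => by
      have h1 : π y ∈ P := mem_map_of_mem π hy
      rw [hP, mem_bot] at h1
      rw [h1]; exact Commute.one_right _) ha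
  set Z := P ⊓ centralizer (P : Set (Matrix.ProjectiveSpecialLinearGroup (Fin 2) F))
  have hWP : W ≤ normalizer (P : Set (Matrix.ProjectiveSpecialLinearGroup (Fin 2) F)) := by
    rintro _ ⟨w, hw, rfl⟩
    refine mem_normalizer_of ?_
    rintro _ ⟨y, hy, rfl⟩
    refine ⟨w * y * w⁻¹, ?_, by simp⟩
    show ι (w * y * w⁻¹) ∈ A
    rw [map_mul, map_mul, map_inv]
    exact conj_mem (hAV hw) hy
  have hWZ : W ≤ normalizer (Z : Set (Matrix.ProjectiveSpecialLinearGroup (Fin 2) F)) :=
    Grp.le_normalizer_inf' hWP (hWP.trans normalizer_le_normalizer_centralizer)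
  have hZne : Z ≠ ⊥ := by
    haveI : Nontrivial P := (nontrivial_iff_ne_bot _).2 hP
    obtain ⟨c, hc, hc1⟩ := (bot_or_exists_ne_one _).resolve_left
      (Grp.inf_center_ne_bot (⊤ : Subgroup P) top_ne_bot)
    intro e
    refine hc1 (Subtype.ext ?_)
    have : (c : Matrix.ProjectiveSpecialLinearGroup (Fin 2) F) ∈ Z :=
      ⟨c.2, mem_centralizer_iff.2 fun y hy => congrArg Subtype.val (mem_center_iff.1 hc.2 ⟨y, hy⟩)⟩
    rwa [e, mem_bot] at this
  -- some involution of the four group fixes a point of the centre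
  haveI : IsMulCommutative W := ⟨⟨by
    rintro ⟨_, a, ha, rfl⟩ ⟨_, b, hb, rfl⟩
    refine Subtype.ext ?_
    show π a * π b = π b * π a
    rw [← map_mul, ← map_mul, show a * b = b * a from hι (by rw [map_mul, map_mul]; exact (h.comm ha hb).eq)]⟩⟩
  have hinj : ∀ y ∈ V₀, π y = 1 → y = 1 := fun y hy e =>
    hι ((eq_one_of_odd (odd_card_oddOf H) ((hmem1 y).1 e) (h.mul_self hy)).trans (map_one ι).symm)
  have hWsq : ∀ w ∈ W, w * w = 1 := by
    rintro _ ⟨y, hy, rfl⟩
    rw [← map_mul, show y * y = 1 from hι (by rw [map_mul, map_one]; exact h.mul_self hy), map_one]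
  have hWnc : ¬ IsCyclic W := by
    intro hc
    obtain ⟨g, hg⟩ := hc.exists_generator
    let y₁ : N := ⟨⟨t, hVH h.ht⟩, hVN t h.ht⟩
    let y₂ : N := ⟨⟨u, hVH h.hu⟩, hVN u h.hu⟩
    have hg2 : g * g = 1 := Subtype.ext (hWsq g g.2)
    have hne : ∀ y : N, y ∈ V₀ → y ≠ 1 → π y = (g : Matrix.ProjectiveSpecialLinearGroup (Fin 2) F) := by
      intro y hy hy1
      obtain ⟨k, hk⟩ := hg ⟨π y, mem_map_of_mem π hy⟩
      rcases Int.even_or_odd' k with ⟨j, rfl | rfl⟩
      · refine absurd (hinj y hy ?_) hy1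
        have : g ^ (2 * j) = 1 := by rw [zpow_mul, zpow_two, hg2, one_zpow]
        simp only at hk
        rw [this] at hk
        exact (congrArg Subtype.val hk).symm
      · have : g ^ (2 * j + 1) = g := by rw [zpow_add, zpow_mul, zpow_two, hg2, one_zpow, one_mul, zpow_one]
        simp only at hk
        rw [this] at hk
        exact (congrArg Subtype.val hk).symm
    have h1 := hne y₁ h.ht (fun e => h.ht1 (congrArg ι e))
    have h2 := hne y₂ h.hu (fun e => h.hu1 (congrArg ι e))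
    have h3 : y₁ * y₂⁻¹ = 1 := hinj _ (V₀.mul_mem h.ht (V₀.inv_mem h.hu)) (by
      rw [map_mul, map_inv, h1, h2, mul_inv_cancel])
    exact h.htu (congrArg ι (mul_inv_eq_one.1 h3))
  have hcop : (Nat.card W).Coprime (Nat.card Z) := by
    refine Nat.coprime_of_dvd fun p hp h1 h2 => ?_
    have hp2 : p = 2 := by
      haveI := Fact.mk hp
      obtain ⟨w, hw⟩ := exists_prime_orderOf_dvd_card' p h1
      exact (Nat.prime_dvd_prime_iff_eq hp Nat.prime_two).1 (hw ▸ orderOf_dvd_of_pow_eq_one (by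
        rw [pow_two]; exact Subtype.ext (hWsq w w.2)))
    exact Nat.two_dvd_ne_zero.2 (Nat.odd_iff.1 (hPodd.of_dvd_nat (card_dvd_of_le inf_le_left))) (hp2 ▸ h2)
  obtain ⟨w, ⟨hwW, hw1⟩, z, hz, hzw, hz1⟩ : ∃ w, (w ∈ W ∧ w ≠ 1) ∧ ∃ z ∈ Z, Commute z w ∧ z ≠ 1 := by
    by_contra hcc
    push Not at hcc
    refine hZne (eq_bot_iff.2 ?_)
    rw [← Grp.generated_by_centralizers W Z hWnc hWZ hcop]
    refine iSup₂_le fun w hw z hz => mem_bot.2 ?_
    exact hcc w hw z hz.1 (mem_centralizer_singleton.1 hz.2)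
  obtain ⟨y, hy, rfl⟩ := hwW
  refine ⟨ι y, hy, fun e => hw1 (by rw [hι (e.trans (map_one ι).symm), map_one]), fun a ha => ?_⟩
  refine commutator_mem h hAH hAV hAodd hO hy hVN hmem1 (fun y' hy' => ?_) ha
  exact psl_commute hz1 (odd_orderOf (hPodd.of_dvd_nat (card_dvd_of_le inf_le_left)) hz) hzw.symm
    (mem_centralizer_iff.1 hz.2 _ (mem_map_of_mem π hy'))

end Cfsg.Agent.Invol.GW.ThreeClass
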