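import Cfsg.Agent.Lib.Invol.GW.Klein.ThreeClassData
import Cfsg.Agent.Lib.Invol.GW.Klein.ThreeClassLocal

/-!
The cores of the core of a three-class maximal subgroup: normalisers, self-centralisation, moved primes.
-/

set_option autoImplicit false
set_option linter.unusedSectionVars false

namespace Cfsg.Agent.Invol.GW.ThreeClass

open Subgroup Klein Transfer.Loc
open scoped Pointwise

universe u

variable {G : Type u} [Group G] [Finite G]

/-- The `r`-core of the core of `M`. -/
abbrev F (r : ℕ) (M : Subgroup G) : Subgroup G := O r (oddOf M)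

/-- The primes whose core in the core of `M` is moved by `t`. -/
def mu (t : G) (M : Subgroup G) : Set ℕ := {p | p.Prime ∧ ∃ x ∈ F p M, ¬ Commute t x}

theorem mu_subset (t : G) (M : Subgroup G) : mu t M ⊆ {p | p ∣ Nat.card G} := by
  rintro p ⟨hp, x, hx, hxt⟩
  haveI := Fact.mk hp
  obtain ⟨k, hk⟩ := IsPGroup.iff_card.1 (O_isPGroup p (oddOf M))
  rcases Nat.eq_zero_or_pos k with rfl | hk0
  · refine absurd ?_ hxt
    rw [pow_zero] at hk
    rw [Subgroup.mem_bot.1 ((card_eq_one.1 hk).le hx)]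
    exact Commute.one_right t
  · exact ((dvd_pow_self p hk0.ne').trans (dvd_of_eq hk.symm)).trans (card_subgroup_dvd_card _)

theorem mu_finite (t : G) (M : Subgroup G) : (mu t M).Finite :=
  (Set.finite_Iic (Nat.card G)).subset fun _ hp => Nat.le_of_dvd Nat.card_pos (mu_subset t M hp)

theorem mem_F_of_ppow {p : ℕ} [hp : Fact p.Prime] {P : Subgroup G} (hP : IsPGroup p P) {x : G} (hx : x ∈ P) :
    ∃ k : ℕ, x ^ p ^ k = 1 := by
  obtain ⟨k, hk⟩ := hP ⟨x, hx⟩
  exact ⟨k, congrArg Subtype.val hk⟩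

theorem eq_bot_of_coprime_pGroups {p q : ℕ} [Fact p.Prime] [Fact q.Prime] (h : p ≠ q) {A B : Subgroup G}
    (hA : IsPGroup p A) (hB : IsPGroup q B) : A ⊓ B = ⊥ :=
  Cfsg.Agent.Grp.inf_eq_bot_of_coprime (coprime_O h hA hB)

/-- Two elements of groups of coprime prime power order normalising each other's groups commute. -/
theorem commute_of_primes {p q : ℕ} [Fact p.Prime] [Fact q.Prime] (h : p ≠ q) {A B : Subgroup G}
    (hA : IsPGroup p A) (hB : IsPGroup q B) {a b : G} (ha : a ∈ A) (hb : b ∈ B)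
    (haB : a ∈ normalizer (B : Set G)) (hbA : b ∈ normalizer (A : Set G)) : Commute a b :=
  commute_of_inf (eq_bot_of_coprime_pGroups h hA hB) ha hb haB hbA

theorem orderOf_coprime {p q : ℕ} [hp : Fact p.Prime] [hq : Fact q.Prime] (h : p ≠ q) {A : Subgroup G}
    (hA : IsPGroup p A) {a : G} (ha : a ∈ A) : (orderOf a).Coprime q :=
  (coprime_of_isPGroup hA ((Nat.coprime_primes hp.out hq.out).2 h)).coprime_dvd_left
    (A.orderOf_dvd_natCard ha)

namespace TC

variable {V : Subgroup G} {t u n : G} {M : Subgroup G} (T : TC V t u n M)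
include T

theorem F_le_K (r : ℕ) : F r M ≤ oddOf M := O_le r _

theorem F_le_M (r : ℕ) : F r M ≤ M := (O_le r _).trans (oddOf_le M)

theorem M_le_normalizer_F (r : ℕ) : M ≤ normalizer (F r M : Set G) := le_normalizer_core T.M_le_normalizer

theorem V_le_normalizer_F (r : ℕ) : (V : Subgroup G) ≤ normalizer (F r M : Set G) :=
  T.V_le.trans (T.M_le_normalizer_F r)

theorem odd_F (r : ℕ) : Odd (Nat.card (F r M)) := T.odd_K.of_dvd_nat (card_dvd_of_le (O_le r _))

theorem F_two : F 2 M = ⊥ := by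
  haveI : Fact (Nat.Prime 2) := ⟨Nat.prime_two⟩
  obtain ⟨k, hk⟩ := IsPGroup.iff_card.1 (O_isPGroup 2 (oddOf M))
  rcases Nat.eq_zero_or_pos k with rfl | hk0
  · exact card_eq_one.1 (by simpa using hk)
  · exact absurd ((dvd_pow_self 2 hk0.ne').trans (dvd_of_eq hk.symm))
      (Nat.two_dvd_ne_zero.2 (Nat.odd_iff.1 (T.odd_F 2)))

theorem normalizer_F {r : ℕ} (h : F r M ≠ ⊥) : normalizer (F r M : Set G) = M :=
  T.normalizer_eq h (T.F_le_M r) (T.M_le_normalizer_F r)

theorem Z_le_M (r : ℕ) : Z r (oddOf M) ≤ M := inf_le_left.trans (T.F_le_M r)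

theorem normalizer_Z {r : ℕ} [Fact r.Prime] (h : F r M ≠ ⊥) : normalizer (Z r (oddOf M) : Set G) = M :=
  T.normalizer_eq (Z_ne_bot h) (T.Z_le_M r) (Grp.le_normalizer_inf' (T.M_le_normalizer_F r)
    ((T.M_le_normalizer_F r).trans normalizer_le_normalizer_centralizer))

/-- A subgroup of `F_r` containing its centraliser there has centraliser in `M`. -/
theorem centralizer_le_of_selfCent {r : ℕ} [Fact r.Prime] (h : F r M ≠ ⊥) {B : Subgroup G} (hB : B ≤ F r M)
    (hBC : F r M ⊓ centralizer (B : Set G) ≤ B) : centralizer (B : Set G) ≤ M := by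
  have hZB : Z r (oddOf M) ≤ B := fun z hz => hBC ⟨hz.1, centralizer_le hB hz.2⟩
  exact ((centralizer_le hZB).trans (centralizer_le_normalizer _)).trans (T.normalizer_Z h).le

theorem mem_fittingOf {x : G} (hx : x ∈ oddOf M)
    (hc : ∀ r : ℕ, r.Prime → ∀ y ∈ F r M, Commute x y) : x ∈ Cfsg.fittingOf (oddOf M) := by
  haveI := isSolvable_of_odd T.odd_K
  refine centralizer_fittingOf_le (oddOf M) ⟨hx, ?_⟩
  have h : Cfsg.fittingOf (oddOf M) ≤ centralizer ({x} : Set G) := by
    rw [fittingOf_eq]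
    exact iSup_le fun r y hy => ThreeClass.mem_centralizer_singleton.2 (hc r r.2 y hy).symm
  exact mem_centralizer_iff.2 fun y hy => (ThreeClass.mem_centralizer_singleton.1 (h hy)).eq

/-- An element of prime power order centralising every core lies in its own. -/
theorem mem_F {p : ℕ} [Fact p.Prime] {P : Subgroup G} (hP : IsPGroup p P) {x : G} (hxP : x ∈ P)
    (hx : x ∈ oddOf M) (hc : ∀ r : ℕ, r.Prime → ∀ y ∈ F r M, Commute x y) : x ∈ F p M := by
  obtain ⟨k, hk⟩ := mem_F_of_ppow hP hxP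
  exact mem_O_of_mem_fittingOf (T.mem_fittingOf hx hc) hk

/-- No involution of the four group centralises all the cores. -/
theorem exists_moved_core {v : G} (hv : v ∈ (V : Subgroup G)) (hv1 : v ≠ 1) :
    ∃ p : ℕ, p.Prime ∧ ∃ x ∈ F p M, ¬ Commute v x := by
  by_contra hcon
  push Not at hcon
  obtain ⟨k, hk, hvk⟩ := T.exists_moved hv hv1
  refine hvk ?_
  haveI := isSolvable_of_odd T.odd_K
  have hfit : Cfsg.fittingOf (oddOf M) ≤ centralizer ({v} : Set G) := by
    rw [fittingOf_eq]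
    exact iSup_le fun r y hy => ThreeClass.mem_centralizer_singleton.2 (hcon r r.2 y hy).symm
  refine Grp.centralizes_of_centralizes T.odd_K (T.hyp.mul_self hv)
    (fun f hf => conj_mem (T.V_le_normalizer hv) hf)
    (fun f hf w hw => conj_mem (le_normalizer_fittingOf _ hf) hw)
    (fun w hw => (ThreeClass.mem_centralizer_singleton.1 (hfit hw)).symm.eq)
    (fun c hc hcc => centralizer_fittingOf_le (oddOf M) ⟨hc, mem_centralizer_iff.2 fun w hw => (hcc w hw).symm⟩)
    k hk

theorem mu_nonempty : ∃ p, p ∈ mu t M := by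
  obtain ⟨p, hp, h⟩ := T.exists_moved_core T.hyp.ht T.hyp.ht1
  exact ⟨p, hp, h⟩

theorem F_ne_bot_of_mu {p : ℕ} (hp : p ∈ mu t M) : F p M ≠ ⊥ := by
  obtain ⟨-, x, hx, hxt⟩ := hp
  intro e
  rw [e, Subgroup.mem_bot] at hx
  exact hxt (hx ▸ Commute.one_right t)

/-- A moved prime gives an element inverted by `t` and fixed by `u` or by `t * u`. -/
theorem exists_inverted {p : ℕ} (hp : p ∈ mu t M) :
    ∃ x ∈ F p M, x ≠ 1 ∧ t * x * t⁻¹ = x⁻¹ ∧ (Commute u x ∨ Commute (t * u) x) := by
  by_contra hcon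
  push Not at hcon
  obtain ⟨-, y, hy, hyt⟩ := hp
  refine hyt ?_
  have key : ∀ v ∈ (V : Subgroup G), v ≠ 1 → F p M ⊓ centralizer ({v} : Set G) ≤ centralizer ({t} : Set G) := by
    intro v hv hv1 z hz
    rcases T.hyp.mem_iff.1 hv with e | e | e | e
    · exact absurd e hv1
    · exact e ▸ hz.2
    all_goals
      refine ThreeClass.mem_centralizer_singleton.2 (Commute.symm ?_)
      refine commute_of_no_inverted T.tt (X := F p M ⊓ centralizer ({v} : Set G))
        (T.odd_F p |>.of_dvd_nat (card_dvd_of_le inf_le_left)) ?_ (fun r hr hrt => ?_) hz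
      · refine mem_normalizer_of fun w hw => ⟨conj_mem (T.V_le_normalizer_F p T.hyp.ht) hw.1,
          ThreeClass.mem_centralizer_singleton.2 ?_⟩
        have := (ThreeClass.mem_centralizer_singleton.1 hw.2).conj t
        rwa [(T.hyp.comm T.hyp.ht hv).eq, mul_inv_cancel_right] at this
      · by_contra hr1
        have hc := hcon r hr.1 hr1 hrt
        have := (ThreeClass.mem_centralizer_singleton.1 hr.2).symm
        rw [e] at this
        first
          | exact hc.1 this
          | exact hc.2 this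
  haveI := T.hyp.klein
  haveI : IsMulCommutative (V : Subgroup G) := ⟨⟨fun a b => Subtype.ext (T.hyp.comm a.2 b.2).eq⟩⟩
  have h := Grp.generated_by_centralizers (V : Subgroup G) (F p M) IsKleinFour.not_isCyclic
    (T.V_le_normalizer_F p) (by rw [IsKleinFour.card_four]; exact (Nat.coprime_two_left.2 (T.odd_F p)).pow_left 2)
  exact (ThreeClass.mem_centralizer_singleton.1 ((h.ge.trans (iSup₂_le fun v hv => key v hv.1 hv.2)) hy)).symm

/-- The elements of `M` centralising all the cores lie in the core. -/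
theorem mem_K_of_centralizing {x : G} (hx : x ∈ M) (hc : ∀ r : ℕ, r.Prime → ∀ y ∈ F r M, Commute x y) :
    x ∈ oddOf M := by
  haveI : Fact (Nat.Prime 2) := ⟨Nat.prime_two⟩
  set C := M ⊓ centralizer (Cfsg.fittingOf (oddOf M) : Set G) with hC
  have hxC : x ∈ C := by
    refine ⟨hx, ?_⟩
    have h : Cfsg.fittingOf (oddOf M) ≤ centralizer ({x} : Set G) := by
      rw [fittingOf_eq]
      exact iSup_le fun r y hy => ThreeClass.mem_centralizer_singleton.2 (hc r r.2 y hy).symm
    exact mem_centralizer_iff.2 fun y hy => (ThreeClass.mem_centralizer_singleton.1 (h hy)).eq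
  have hCn : M ≤ normalizer (C : Set G) := by
    refine Grp.le_normalizer_inf' le_normalizer ?_
    intro g hg
    refine normalizer_le_normalizer_centralizer (mem_normalizer_of fun y hy => ?_)
    have h : Cfsg.fittingOf (oddOf M) ≤ (Cfsg.fittingOf (oddOf M)).comap (MulAut.conj g).toMonoidHom := by
      conv_lhs => rw [fittingOf_eq]
      refine iSup_le fun r z hz => ?_
      haveI := Fact.mk r.2
      exact O_le_fittingOf _ (conj_mem (T.M_le_normalizer_F r hg) hz)
    exact h hy
  by_contra hxK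
  have heven : Even (Nat.card C) := by
    rw [← Nat.not_odd_iff_even]
    exact fun ho => hxK (T.mem_K hx (odd_orderOf ho hxC))
  obtain ⟨i, hi⟩ := exists_prime_orderOf_dvd_card' 2 heven.two_dvd
  obtain ⟨D, hD⟩ := (IsPGroup.of_card (p := 2) (n := 2) (G := V.subgroupOf M) (by
    haveI := T.hyp.klein
    rw [Nat.card_congr (subgroupOfEquivOfLe T.V_le).toEquiv, IsKleinFour.card_four]; rfl)).exists_le_sylow
  obtain ⟨D₀, hD₀⟩ := (IsPGroup.of_card (p := 2) (n := 1) (G := zpowers (⟨(i : G), i.2.1⟩ : M)) (by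
    rw [Nat.card_zpowers, ← Subgroup.orderOf_coe]
    show orderOf ((i : C) : G) = _
    rw [Subgroup.orderOf_coe, hi, pow_one])).exists_le_sylow
  obtain ⟨g, hg⟩ := MulAction.exists_smul_eq M D₀ D
  have hgi : g * (⟨(i : G), i.2.1⟩ : M) * g⁻¹ ∈ (D : Subgroup M) := by
    rw [← hg]
    exact Grp.mem_smul_conj.2 (by simpa [mul_assoc] using hD₀ (mem_zpowers _))
  set Dg := (D : Subgroup M).map M.subtype with hDg
  have hVD : V ≤ Dg := fun v hv => ⟨⟨v, T.V_le hv⟩, hD (mem_subgroupOf.2 hv), rfl⟩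
  have hne : Dg ⊓ C ≠ ⊥ := by
    intro e
    have h1 : (g : G) * i * (g : G)⁻¹ ∈ Dg ⊓ C := ⟨⟨_, hgi, rfl⟩, conj_mem (hCn g.2) i.2⟩
    rw [e, Subgroup.mem_bot, conj_eq_one_iff] at h1
    rw [← Subgroup.orderOf_coe, h1, orderOf_one] at hi
    omega
  have hDp : IsPGroup 2 Dg := D.isPGroup'.map _
  refine exists_fixed (hDp.to_le inf_le_left) (hDp.to_le hVD)
    (Grp.le_normalizer_inf' (hVD.trans le_normalizer) (T.V_le.trans hCn)) hne (eq_bot_iff.2 fun c hc' => ?_)
  obtain ⟨⟨hcD, hcC⟩, hcV⟩ := hc'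
  have hcV' : c ∈ V := T.hyp.selfCent Dg hDp hVD c hcD fun v hv => (mem_centralizer_iff.1 hcV v hv).symm
  rw [Subgroup.mem_bot]
  by_contra hc1
  obtain ⟨p, hp, y, hy, hcy⟩ := T.exists_moved_core hcV' hc1
  haveI := Fact.mk hp
  exact hcy (mem_centralizer_iff.1 hcC.2 y (O_le_fittingOf _ hy)).symm

/-- A subgroup with the three-class property is constrained. -/
theorem constrained : M ⊓ centralizer (Cfsg.fittingOf M : Set G) ≤ Cfsg.fittingOf M := by
  rintro x ⟨hx, hc⟩
  refine mem_fittingOf_of_core (T.mem_K_of_centralizing hx fun r hr y hy => ?_) hc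
  haveI := Fact.mk hr
  exact (mem_centralizer_iff.1 hc y
    (fittingOf_le_of_normal (oddOf_le M) T.M_le_normalizer (O_le_fittingOf _ hy))).symm

end TC

end Cfsg.Agent.Invol.GW.ThreeClass
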