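import Cfsg.Agent.Lib.Invol.GW.Klein.ThreeClassSteps
import Cfsg.Agent.Lib.Invol.GW.Klein.ThreeClassLocal

/-!
With a Klein four Sylow subgroup no three-class maximal subgroup lies properly over the centraliser of an involution.
-/

set_option autoImplicit false
set_option linter.unusedSectionVars false

namespace Cfsg.Agent.Invol.GW.ThreeClass

open Subgroup Klein Transfer.Loc
open scoped Pointwise

universe u

variable {G : Type u} [Group G] [Finite G] {V : Sylow 2 G} {t u : G}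

theorem qdFree_of_klein (h : Klein.Hyp V t u) {p : ℕ} [Fact p.Prime] (hp : p ≠ 2) :
    ¬ Cfsg.Involves ↥(Cfsg.qd p) G := by
  haveI : Fact (Nat.Prime 2) := ⟨Nat.prime_two⟩
  refine Transfer.qdFree_of_sylow_two_comm hp fun S => ?_
  refine IsPGroup.isMulCommutative_of_card_eq_prime_sq (p := 2) ?_
  haveI := h.klein
  rw [Sylow.card_eq_multiplicity, ← Sylow.card_eq_multiplicity V, IsKleinFour.card_four]
  norm_num

theorem base_of_klein (h : Klein.Hyp V t u) : Base (V : Subgroup G) t u :=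
  ⟨h.simple, h.klein, h.ht, h.hu, h.ht1, h.hu1, h.htu, fun _ _ hp => qdFree_of_klein h hp,
    fun D hD hVD x hx _ => (V.3 hD hVD) ▸ hx⟩

theorem three_of_klein (h : Klein.Hyp V t u) {L : Subgroup G} (hVL : (V : Subgroup G) ≤ L)
    (hL : Klein.ThreeClass (V : Subgroup G) L) : Three t L := by
  have hn := hVL.trans (le_normalizer_oddOf L)
  refine ⟨fun x hx ho => h.mem_of_odd hn (hL hx) ho, fun g hg => ?_⟩
  obtain ⟨a, ha, b, hb, rfl⟩ := Klein.exists_mul_of_sup hn (hL hg)
  rw [show a * b * t * (a * b)⁻¹ * t⁻¹ = a * (b * t * b⁻¹) * a⁻¹ * t⁻¹ by group, (h.comm hb h.ht).eq,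
    mul_inv_cancel_right, show a * t * a⁻¹ * t⁻¹ = a * (t * a⁻¹ * t⁻¹) by group]
  exact mul_mem ha (conj_mem (hn h.ht) (inv_mem ha))

/-- A subgroup with all odd cores in `M` containing self-centralising parts of the cores of `M` is constrained. -/
theorem constrained_of_parts (h : Klein.Hyp V t u) {u' n : G} {M H : Subgroup G}
    (T : TC (V : Subgroup G) t u' n M) (hH : H ≠ ⊤) (hVH : (V : Subgroup G) ≤ H) {B : ℕ → Subgroup G}
    (hB : Parts (V : Subgroup G) M B) (hBH : ∀ r : ℕ, r.Prime → B r ≤ H) :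
    H ⊓ centralizer (Cfsg.fittingOf H : Set G) ≤ Cfsg.fittingOf H := by
  rcases local_dichotomy h hH hVH with hc | ⟨hVF, hA⟩
  · exact hc
  exfalso
  set A := ⨆ r : Nat.Primes, B (r : ℕ)
  have hAK : A ≤ Cfsg.fittingOf (oddOf M) := by
    rw [fittingOf_eq]; exact iSup_mono fun r => hB.le r r.2
  obtain ⟨v, hv, hv1, hva⟩ := hA A (iSup_le fun r => hBH r r.2)
    (T.odd_K.of_dvd_nat (card_dvd_of_le (hAK.trans (fittingOf_le _))))
    (Grp.isNilpotent_of_le hAK (fittingOf_isNilpotent _))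
    (fun x hx => mem_normalizer_of fun y hy => by
      have h : A ≤ A.comap (MulAut.conj x).toMonoidHom := iSup_le fun r z hz =>
        mem_iSup_of_mem r (conj_mem (hB.inv r r.2 hx) hz)
      exact h hy)
  refine hv1 (T.eq_one_of_parts hB hv fun r hr b hb => ?_)
  have hbA : b ∈ A := mem_iSup_of_mem (⟨r, hr⟩ : Nat.Primes) hb
  set m := v * b * v⁻¹ * b⁻¹ with hm
  have hmO := hva b hbA
  have hvo : ∀ o ∈ Cfsg.fittingOf H, Commute v o := fun o ho => (mem_centralizer_iff.1 (hVF hv) o ho).symm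
  have hmF : m ∈ Cfsg.fittingOf H := by
    refine mem_fittingOf_of_core hmO (mem_centralizer_iff.2 fun o ho => ?_)
    set o' := b⁻¹ * o * b with ho'
    have hbo' : b * o' * b⁻¹ = o := by rw [ho']; group
    have ho'' : o' ∈ Cfsg.fittingOf H := conj_mem' (le_normalizer_fittingOf H (hBH r hr hb)) ho
    have h1 : (v * b * v⁻¹) * o' * (v * b * v⁻¹)⁻¹ = o := by
      calc (v * b * v⁻¹) * o' * (v * b * v⁻¹)⁻¹ = v * (b * (v⁻¹ * o' * v) * b⁻¹) * v⁻¹ := by group
        _ = v * (b * o' * b⁻¹) * v⁻¹ := by rw [(hvo o' ho'').inv_left.eq]; group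
        _ = o := by rw [hbo', (hvo o ho).eq, mul_inv_cancel_right]
    have h2 : m * o * m⁻¹ = o := by
      calc m * o * m⁻¹ = (v * b * v⁻¹) * (b⁻¹ * o * b) * (v * b * v⁻¹)⁻¹ := by rw [hm]; group
        _ = o := by rw [← ho', h1]
    exact (commute_of_conj h2).symm.eq
  have hvm : v * m * v⁻¹ = m⁻¹ := by
    rw [hm, show v * (v * b * v⁻¹ * b⁻¹) * v⁻¹ = (v * v) * b * v⁻¹ * b⁻¹ * v⁻¹ by group, T.hyp.mul_self hv,
      T.hyp.inv_eq hv]
    simp [mul_assoc, T.hyp.inv_eq hv]
  rw [(hvo m hmF).eq, mul_inv_cancel_right] at hvm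
  have h1 := Klein.eq_one_of_odd (odd_card_oddOf H) hmO (mul_eq_one_iff_eq_inv.2 hvm)
  exact commute_of_conj (mul_inv_eq_one.1 h1)

theorem loc_of_klein (h : Klein.Hyp V t u) : Loc (V : Subgroup G) t := by
  refine ⟨fun H _ hlt => ?_, fun u' n M H T hH hVH B hB hBH _ _ _ _ _ _ =>
    constrained_of_parts h T hH.1 hVH hB hBH⟩
  have hVH : (V : Subgroup G) ≤ H := h.le_centralizer.trans hlt.le
  by_cases hthree : Klein.ThreeClass (V : Subgroup G) H
  · exact Or.inl (three_of_klein h hVH hthree)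
  refine Or.inr fun W hodd hn hinv => eq_bot_iff.2 fun w hw => Subgroup.mem_bot.2 ?_
  obtain ⟨m, ⟨hmH, -⟩, hmt, hmu⟩ := h.exists_fuse hVH hthree
  have hconj : ∀ a b : G, m * a * m⁻¹ = b → (∀ w ∈ W, a * w * a⁻¹ = w⁻¹) →
      ∀ w ∈ W, b * w * b⁻¹ = w⁻¹ := by
    intro a b hab ha w hw
    have h1 := ha _ (conj_mem' (hn hmH) hw)
    calc b * w * b⁻¹ = m * (a * (m⁻¹ * w * m) * a⁻¹) * m⁻¹ := by rw [← hab]; group
      _ = w⁻¹ := by rw [h1]; group
  have huw := hconj t u hmt hinv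
  have h3 := hconj u (t * u) hmu huw w hw
  have h4 : t * u * w * (t * u)⁻¹ = w := by
    calc t * u * w * (t * u)⁻¹ = t * (u * w * u⁻¹) * t⁻¹ := by group
      _ = (t * w * t⁻¹)⁻¹ := by rw [huw w hw]; group
      _ = w := by rw [hinv w hw, inv_inv]
  exact eq_one_of_fixed_inverted (odd_orderOf hodd hw) (commute_of_conj h4) h3

theorem step_of_klein (h : Klein.Hyp V t u) : Step (V : Subgroup G) t :=
  fun u' n M H T _ _ p _ x hx _ hxt hxu _ hH hXH B hB hBH _ _ =>
    constrained_of_parts h T hH.1 ((T.V_le_normalizer_zpowers (hxt ▸ inv_mem (mem_zpowers x))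
      (by rw [hxu.eq, mul_inv_cancel_right]; exact mem_zpowers x)).trans hXH) hB hBH

/-- No three-class maximal subgroup lies properly over the centraliser of an involution. -/
theorem no_threeClass_over (h : Klein.Hyp V t u) {M : Subgroup G} (hM : IsCoatom M)
    (hC : centralizer ({t} : Set G) ≤ M) (hthree : Klein.ThreeClass (V : Subgroup G) M) :
    centralizer ({t} : Set G) = M := by
  obtain ⟨n, hn, hnt, hnu⟩ := h.exists_h
  exact eq_centralizer_of_loc (base_of_klein h) hn hnt hnu (loc_of_klein h) (step_of_klein h) hM hC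
    (three_of_klein h (h.le_centralizer.trans hC) hthree)

end Cfsg.Agent.Invol.GW.ThreeClass
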