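import Cfsg.Agent.Lib.Invol.GW.Klein.ThreeClassUnique

/-!
A three-class maximal subgroup over `C(t)` with the most moved primes: normalisers of the parts of its cores.
-/

set_option autoImplicit false
set_option linter.unusedSectionVars false

namespace Cfsg.Agent.Invol.GW.ThreeClass

open Subgroup Klein Transfer.Loc
open scoped Pointwise

universe u

variable {G : Type u} [Group G] [Finite G]

/-- `M` has as many moved primes as any three-class maximal subgroup properly over `C(t)`. -/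
def Max (V : Subgroup G) (t : G) (M : Subgroup G) : Prop :=
  ∀ L : Subgroup G, IsCoatom L → Three t L → centralizer ({t} : Set G) < L → V ≤ L →
    (mu t L).ncard ≤ (mu t M).ncard

/-- What is needed on the local subgroups: over `C(t)` they have the three-class property or leave `t` no inverted
normal subgroup of odd order, and those containing a whole moved core are constrained. -/
structure Loc (V : Subgroup G) (t : G) : Prop where
  above : ∀ H : Subgroup G, IsCoatom H → centralizer ({t} : Set G) < H → Three t H ∨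
    ∀ W : Subgroup G, Odd (Nat.card W) → H ≤ normalizer (W : Set G) →
      (∀ w ∈ W, t * w * t⁻¹ = w⁻¹) → W = ⊥
  full : ∀ (u n : G) (M H : Subgroup G), TC V t u n M → IsCoatom H → V ≤ H →
    (∀ B : ℕ → Subgroup G, Parts V M B → (∀ r : ℕ, r.Prime → B r ≤ H) →
    (∀ (s : ℕ) [Fact s.Prime], O s H ≤ oddOf M) → O 2 H = ⊥ →
    ∀ p ∈ mu t M, F p M ≤ H →
    (centralizer ({t} : Set G) ≤ H ∨ ∀ w : G, (∀ x ∈ F p M, t * x * t⁻¹ = x⁻¹ → Commute x w) → w ∈ M) →
    H ⊓ centralizer (Cfsg.fittingOf H : Set G) ≤ Cfsg.fittingOf H)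

theorem mem_normalizer_zpowers {g x : G} (h : g * x * g⁻¹ ∈ zpowers x) :
    g ∈ normalizer (zpowers x : Set G) := by
  refine mem_normalizer_of fun y hy => ?_
  obtain ⟨i, rfl⟩ := mem_zpowers_iff.1 hy
  rw [← conj_zpow]
  exact zpow_mem h i

theorem commute_of_mem_centralizer {X : Subgroup G} {g x : G} (hg : g ∈ centralizer (X : Set G)) (hx : x ∈ X) :
    Commute g x :=
  (mem_centralizer_iff.1 hg x hx).symm

theorem mem_centralizer_of_commute {X : Subgroup G} {g : G} (h : ∀ x ∈ X, Commute g x) :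
    g ∈ centralizer (X : Set G) :=
  mem_centralizer_iff.2 fun x hx => (h x hx).symm.eq

/-- An involution both centralising and inverting an element of odd order. -/
theorem eq_one_of_fixed_inverted {z x : G} (ho : Odd (orderOf x)) (hc : Commute z x)
    (hi : z * x * z⁻¹ = x⁻¹) : x = 1 := by
  rw [hc.eq, mul_inv_cancel_right] at hi
  exact eq_one_of_sq_odd ho (mul_eq_one_iff_eq_inv.2 hi)

theorem exists_coatom_ge {X : Subgroup G} (h : X ≠ ⊤) : ∃ H : Subgroup G, IsCoatom H ∧ X ≤ H :=
  (eq_top_or_exists_le_coatom X).resolve_left h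

theorem odd_O {s : ℕ} [hs : Fact s.Prime] (hs2 : s ≠ 2) (X : Subgroup G) : Odd (Nat.card (O s X)) :=
  Nat.Coprime.odd_of_right (coprime_of_isPGroup (O_isPGroup s X) ((Nat.coprime_primes hs.out Nat.prime_two).2 hs2))

namespace TC

variable {V : Subgroup G} {t u n : G} {M : Subgroup G} (T : TC V t u n M)
include T

theorem V_le_normalizer_zpowers {x : G} (ht : t * x * t⁻¹ ∈ zpowers x) (hu : u * x * u⁻¹ ∈ zpowers x) :
    (V : Subgroup G) ≤ normalizer (zpowers x : Set G) := by
  intro v hv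
  rcases T.hyp.mem_iff.1 hv with rfl | rfl | rfl | rfl
  exacts [one_mem _, mem_normalizer_zpowers ht, mem_normalizer_zpowers hu,
    mul_mem (mem_normalizer_zpowers ht) (mem_normalizer_zpowers hu)]

theorem normalizer_ne_top {X : Subgroup G} (hX : X ≠ ⊥) (hXM : X ≤ M) : normalizer (X : Set G) ≠ ⊤ := by
  intro htop
  haveI := T.hyp.simple
  haveI : X.Normal := normalizer_eq_top_iff.1 htop
  rcases (inferInstance : X.Normal).eq_bot_or_eq_top with e | e
  · exact hX e
  · exact T.ne_top (top_le_iff.1 (e ▸ hXM))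

theorem le_shift : centralizer ({u} : Set G) ≤ MulAut.conj n • M := T.shift.le_M

theorem mem_F_shift {r : ℕ} [Fact r.Prime] {y : G} (hy : y ∈ F r M) :
    n * y * n⁻¹ ∈ F r (MulAut.conj n • M) := by
  rw [F, T.O_shift r]
  exact mem_conj.2 hy

theorem exists_of_mem_F_shift {r : ℕ} [Fact r.Prime] {y : G} (hy : y ∈ F r (MulAut.conj n • M)) :
    ∃ x ∈ F r M, y = n * x * n⁻¹ := by
  rw [F, T.O_shift r] at hy
  exact ⟨_, Grp.mem_smul_conj.1 hy, by group⟩

theorem F_shift_eq_bot {r : ℕ} [Fact r.Prime] (h : F r M = ⊥) : F r (MulAut.conj n • M) = ⊥ :=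
  eq_bot_iff.2 fun y hy => by
    obtain ⟨x, hx, rfl⟩ := T.exists_of_mem_F_shift hy
    rw [h, Subgroup.mem_bot] at hx
    rw [hx, Subgroup.mem_bot, mul_one, mul_inv_cancel]

theorem F_shift_ne_bot {r : ℕ} [Fact r.Prime] (h : F r M ≠ ⊥) : F r (MulAut.conj n • M) ≠ ⊥ := fun e =>
  h (eq_bot_iff.2 fun y hy => by
    have := T.mem_F_shift hy
    rw [e, Subgroup.mem_bot, conj_eq_one_iff] at this
    exact this)

theorem commute_shift {v v' y : G} (h : n * v * n⁻¹ = v') (hc : Commute v y) : Commute v' (n * y * n⁻¹) :=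
  h ▸ hc.conj n

/-- Step 2: the only maximal subgroup over `C(t)` and all the cores. -/
theorem eq_of_cores (hl : Loc V t) (hmax : Max V t M) (htwo : Two M) {H : Subgroup G} (hH : IsCoatom H)
    (hCH : centralizer ({t} : Set G) ≤ H) (hFH : ∀ r : ℕ, r.Prime → F r M ≤ H) : H = M := by
  have hVH : (V : Subgroup G) ≤ H := T.hyp.le_centralizer.trans hCH
  refine T.eq_of_parts htwo hH hVH T.parts_F hFH (fun s hs hs2 hFs hinf hinv _ => ?_) fun hHK h2 => by
    obtain ⟨p, hp⟩ := T.mu_nonempty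
    exact hl.full u n M H T hH hVH _ T.parts_F hFH hHK h2 p hp (hFH p hp.1) (Or.inl hCH)
  by_contra hne
  obtain ⟨w, hw, hw1⟩ := (bot_or_exists_ne_one (O s H)).resolve_left hne
  have hWodd := odd_O hs2 H
  have hlt : centralizer ({t} : Set G) < H := by
    refine lt_of_le_of_ne hCH fun e => T.ne_top ?_
    exact (e ▸ hH).2 M T.lt
  rcases hl.above H hH hlt with hthree | hW
  swap
  · exact hne (hW _ hWodd (le_normalizer_core' H) hinv)
  have T' : TC V t u n H := ⟨T.hyp, T.hn, T.hnt, T.hnu, hH, hthree, hlt⟩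
  refine absurd (hmax H hH hthree hlt hVH) (not_le.2 (Set.ncard_lt_ncard ?_ (mu_finite t H)))
  refine ⟨fun p hp => ?_, fun hsub => ?_⟩
  · obtain ⟨hpp, y, hy, hyt⟩ := hp
    haveI := Fact.mk hpp
    by_contra hnot
    have hfix : ∀ z ∈ F p H, Commute t z := fun z hz => by
      by_contra hz'
      exact hnot ⟨hpp, z, hz, hz'⟩
    obtain ⟨c, -, r, hr, htc, htr, rfl⟩ := decomp T.tt (T.odd_F p) (T.V_le_normalizer_F p T.hyp.ht) hy
    refine hyt ?_
    have hrH := hFH p hpp hr
    have hro := odd_orderOf (T.odd_F p) hr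
    have hrF : r ∈ F p H := by
      refine T'.mem_F (O_isPGroup p _) hr (T'.mem_K hrH hro) fun q hq z hz => ?_
      haveI := Fact.mk hq
      have hrn : r ∈ normalizer (F q H : Set G) := T'.M_le_normalizer_F q hrH
      by_cases hqp : q = p
      · subst hqp
        exact commute_fixed hro htr (hfix z hz) (hfix _ (conj_mem hrn hz))
      refine trick T.tt (O_isPGroup q _) (T'.odd_F q) (T'.V_le_normalizer_F q T.hyp.ht) hrn hro
        (orderOf_coprime (Ne.symm hqp) (O_isPGroup p _) hr) htr (fun w hw htw => ?_) z hz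
      exact commute_of_primes (Ne.symm hqp) (O_isPGroup p _) (O_isPGroup q _) hr hw hrn
        (T.M_le_normalizer_F p (T.le_M (ThreeClass.mem_centralizer_singleton.2 htw.symm)))
    rw [eq_one_of_fixed_inverted hro (hfix r hrF) htr, mul_one]
    exact htc
  · have hWK : O s H ≤ oddOf H := le_oddOf (O_le s H) (le_normalizer_core' H) hWodd
    have hsH : s ∈ mu t H := ⟨hs.out, w,
      le_O hWK ((oddOf_le H).trans (le_normalizer_core' H)) (O_isPGroup s H) hw,
      fun hc => hw1 (eq_one_of_fixed_inverted (odd_orderOf hWodd hw) hc (hinv w hw))⟩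
    exact T.F_ne_bot_of_mu (hsub hsH) hFs

/-- An element commuting with the elements of one moved core inverted by `t` lies in `M`. -/
theorem mem_of_commute_inverted (hl : Loc V t) (hmax : Max V t M) (htwo : Two M) {p : ℕ} (hp : p ∈ mu t M) {w : G}
    (hw : ∀ x ∈ F p M, t * x * t⁻¹ = x⁻¹ → Commute x w) : w ∈ M := by
  set X := closure {x | x ∈ F p M ∧ t * x * t⁻¹ = x⁻¹} with hX
  have hXF : X ≤ F p M := (closure_le _).2 fun x hx => hx.1
  have hgen : ∀ g : G, (∀ x ∈ F p M, t * x * t⁻¹ = x⁻¹ → g * x * g⁻¹ ∈ X) → g ∈ normalizer (X : Set G) := by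
    intro g hg
    refine mem_normalizer_of fun x hx => ?_
    have : X ≤ X.comap (MulAut.conj g).toMonoidHom := (closure_le _).2 fun x hx => hg x hx.1 hx.2
    exact this hx
  have hC : centralizer ({t} : Set G) ≤ normalizer (X : Set G) := fun g hg => hgen g fun x hx hxt => by
    refine subset_closure ⟨conj_mem (T.M_le_normalizer_F p (T.le_M hg)) hx, ?_⟩
    have hc : Commute g t := ThreeClass.mem_centralizer_singleton.1 hg
    calc t * (g * x * g⁻¹) * t⁻¹ = (t * g) * x * (t * g)⁻¹ := by group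
      _ = g * (t * x * t⁻¹) * g⁻¹ := by rw [← hc.eq]; group
      _ = (g * x * g⁻¹)⁻¹ := by rw [hxt]; group
  have hne : X ≠ ⊥ := by
    intro e
    obtain ⟨x, hx, hx1, hxt, -⟩ := T.exists_inverted hp
    exact hx1 (Subgroup.mem_bot.1 (e ▸ subset_closure ⟨hx, hxt⟩))
  obtain ⟨H, hH, hXH⟩ := exists_coatom_ge (T.normalizer_ne_top hne (hXF.trans (T.F_le_M p)))
  have hHM : H = M := by
    refine T.eq_of_cores hl hmax htwo hH (hC.trans hXH) fun r hr y hy => hXH ?_
    haveI := Fact.mk hr
    haveI := Fact.mk hp.1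
    by_cases hrp : r = p
    · subst hrp
      obtain ⟨c, -, i, hi, htc, hti, rfl⟩ := decomp T.tt (T.odd_F r) (T.V_le_normalizer_F r T.hyp.ht) hy
      exact mul_mem (hC (ThreeClass.mem_centralizer_singleton.2 htc.symm))
        (le_normalizer (subset_closure ⟨hi, hti⟩))
    · exact centralizer_le_normalizer _ (centralizer_le hXF (O_commute hrp (oddOf M) hy))
  rw [← hHM]
  refine hXH (centralizer_le_normalizer _ ?_)
  rw [hX, centralizer_closure]
  exact mem_centralizer_iff.2 fun x hx => (hw x hx.1 hx.2).eq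

/-- The uniqueness lemma, when the parts contain one moved core. -/
theorem eq_of_parts' (hl : Loc V t) (hmax : Max V t M) (htwo : Two M) {H : Subgroup G} (hH : IsCoatom H)
    (hVH : (V : Subgroup G) ≤ H) {B : ℕ → Subgroup G} (hB : Parts V M B) (hBH : ∀ r : ℕ, r.Prime → B r ≤ H)
    {p : ℕ} (hp : p ∈ mu t M) (hpB : F p M ≤ B p) : H = M :=
  T.eq_of_parts htwo hH hVH hB hBH (fun _ _ _ _ hinf _ hcom => eq_bot_iff.2 fun w hw => Subgroup.mem_bot.2
    (hinf w hw (T.mem_of_commute_inverted hl hmax htwo hp fun x hx hxt => hcom p hp.1 x (hpB hx) hxt w hw)))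
    fun hHK h2 => hl.full u n M H T hH hVH B hB hBH hHK h2 p hp (hpB.trans (hBH p hp.1))
      (Or.inr fun _ hw => T.mem_of_commute_inverted hl hmax htwo hp hw)

/-- The cores of `M` do not all lie in a conjugate over `C(u)`. -/
theorem not_forall_le (hl : Loc V t) (hmax : Max V t M) (htwo : Two M) :
    ¬ ∀ r : ℕ, r.Prime → F r M ≤ MulAut.conj n • M := by
  intro hle
  obtain ⟨p, hp⟩ := T.mu_nonempty
  exact T.shift_ne (T.eq_of_parts' hl hmax htwo T.shift.coatom T.shift.V_le T.parts_F hle hp le_rfl)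

/-- Normalisers of abelian parts of the cores. -/
theorem normalizer_le_of_part (hl : Loc V t) (hmax : Max V t M) (htwo : Two M) {q : ℕ} [hq : Fact q.Prime] {X : Subgroup G}
    (hX : X ≠ ⊥) (hXF : X ≤ F q M) (hab : X ≤ centralizer (X : Set G))
    (hVX : (V : Subgroup G) ≤ normalizer (X : Set G)) {p : ℕ} (hp : p ∈ mu t M)
    (hc : F p M ≤ centralizer (X : Set G)) :
    normalizer (X : Set G) ≤ M := by
  obtain ⟨H, hH, hXH⟩ := exists_coatom_ge (T.normalizer_ne_top hX (hXF.trans (T.F_le_M q)))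
  let B : ℕ → Subgroup G := fun r => F r M ⊓ centralizer (X : Set G)
  have hcX : ∀ r : ℕ, r.Prime → r ≠ q → F r M ≤ centralizer (X : Set G) := fun r hr hrq => by
    haveI := Fact.mk hr
    exact (O_commute hrq (oddOf M)).trans (centralizer_le hXF)
  have hB : Parts V M B := by
    refine ⟨fun r _ => inf_le_left, fun r hr y hy => ⟨hy.1, ?_⟩,
      fun r _ => Grp.le_normalizer_inf' (T.V_le_normalizer_F r) (hVX.trans normalizer_le_normalizer_centralizer)⟩
    by_cases hrq : r = q
    · subst hrq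
      exact centralizer_le (le_inf hXF hab : X ≤ B r) hy.2
    · exact hcX r hr hrq hy.1
  exact (T.eq_of_parts' hl hmax htwo hH (hVX.trans hXH) hB
    (fun r _ => inf_le_right.trans ((centralizer_le_normalizer _).trans hXH)) hp
    (le_inf le_rfl hc : F p M ≤ B p)) ▸ hXH

theorem normalizer_le_of_center (hl : Loc V t) (hmax : Max V t M) (htwo : Two M) {q : ℕ} [hq : Fact q.Prime] {X : Subgroup G}
    (hX : X ≠ ⊥) (hXZ : X ≤ Z q (oddOf M)) (hVX : (V : Subgroup G) ≤ normalizer (X : Set G)) :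
    normalizer (X : Set G) ≤ M := by
  obtain ⟨p, hp⟩ := T.mu_nonempty
  haveI := Fact.mk hp.1
  have hXF : X ≤ F q M := hXZ.trans inf_le_left
  refine T.normalizer_le_of_part hl hmax htwo hX hXF
    ((hXZ.trans inf_le_right).trans (centralizer_le hXF)) hVX hp fun x hx => ?_
  by_cases hpq : p = q
  · subst hpq
    exact centralizer_le hXZ (mem_centralizer_of_commute fun z hz => (commute_of_mem_centralizer hz.2 hx).symm)
  · exact centralizer_le hXF (O_commute hpq (oddOf M) hx)

/-- The same in the conjugate over `C(u)`. -/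
theorem normalizer_le_of_center_shift (hl : Loc V t) (hmax : Max V t M) (htwo : Two M) {q : ℕ} [hq : Fact q.Prime]
    {X : Subgroup G} (hX : X ≠ ⊥) (hXZ : X ≤ Z q (oddOf (MulAut.conj n • M)))
    (hVX : (V : Subgroup G) ≤ normalizer (X : Set G)) :
    normalizer (X : Set G) ≤ MulAut.conj n • M := by
  have hmem : ∀ a ∈ MulAut.conj n⁻¹ • X, n * a * n⁻¹ ∈ X := fun a ha => by
    simpa using Grp.mem_smul_conj.1 ha
  have h1 : normalizer ((MulAut.conj n⁻¹ • X : Subgroup G) : Set G) ≤ M := by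
    refine T.normalizer_le_of_center hl hmax htwo (q := q) (fun e => hX (eq_bot_iff.2 fun a ha => ?_))
      (fun a ha => ?_) fun v hv => ?_
    · have h2 : n⁻¹ * a * n⁻¹⁻¹ ∈ MulAut.conj n⁻¹ • X := mem_conj.2 ha
      rw [e, Subgroup.mem_bot, conj_eq_one_iff] at h2
      exact Subgroup.mem_bot.2 h2
    · obtain ⟨h2, h3⟩ := hXZ (hmem a ha)
      obtain ⟨b, hb, he⟩ := T.exists_of_mem_F_shift h2
      refine ⟨by rwa [mul_left_cancel (mul_right_cancel he)], mem_centralizer_of_commute fun y hy => ?_⟩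
      have h4 := (commute_of_mem_centralizer h3 (T.mem_F_shift hy)).conj n⁻¹
      rwa [show n⁻¹ * (n * a * n⁻¹) * n⁻¹⁻¹ = a by group, show n⁻¹ * (n * y * n⁻¹) * n⁻¹⁻¹ = y by group] at h4
    · refine conj_le_normalizer (g := n⁻¹) hVX ?_
      rw [Grp.mem_smul_conj, inv_inv]
      exact T.conj_V hv
  intro y hy
  rw [Grp.mem_smul_conj]
  refine h1 (conj_le_normalizer (g := n⁻¹) le_rfl ?_)
  have := (mem_conj (g := n⁻¹) (X := normalizer (X : Set G))).2 hy
  simpa using this

end TC

end Cfsg.Agent.Invol.GW.ThreeClass
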