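import Cfsg.Agent.Lib.Invol.GW.Klein.ThreeClassCores
import Cfsg.Agent.Lib.Invol.StableControl

/-!
In a `p`-stable group a quadratic element of a constrained subgroup centralising the other prime cores lies in the
`p`-core.
-/

set_option autoImplicit false
set_option linter.unusedSectionVars false

namespace Cfsg.Agent.Invol.GW.ThreeClass

open Subgroup Transfer.Loc
open scoped commutatorElement

universe u

variable {G : Type u} [Group G] [Finite G]

theorem commutator_eq_bot_of_quad {z : G} {P : Subgroup G}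
    (hq : ∀ y ∈ P, Commute z (z * y * z⁻¹ * y⁻¹)) : ⁅⁅P, zpowers z⁆, zpowers z⁆ = ⊥ := by
  have key : ⁅P, zpowers z⁆ ≤ centralizer ({z} : Set G) := by
    rw [commutator_le]
    intro y hy b hb
    obtain ⟨i, rfl⟩ := (isOfFinOrder_of_finite z).mem_powers_iff_mem_zpowers.2 hb
    obtain ⟨c, hc⟩ : ∃ c, c = z * y * z⁻¹ * y⁻¹ := ⟨_, rfl⟩
    have hzc : Commute z c := hc ▸ hq y hy
    have hpow : ∀ m : ℕ, z ^ m * y * (z ^ m)⁻¹ = c ^ m * y := by
      intro m
      induction m with
      | zero => simp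
      | succ m ih =>
        calc z ^ (m + 1) * y * (z ^ (m + 1))⁻¹ = z * (z ^ m * y * (z ^ m)⁻¹) * z⁻¹ := by rw [pow_succ']; group
          _ = (z * c ^ m) * y * z⁻¹ := by rw [ih]; group
          _ = c ^ m * (z * y * z⁻¹) := by rw [(hzc.pow_right m).eq]; group
          _ = c ^ m * (c * y) := by rw [hc]; group
          _ = c ^ (m + 1) * y := by rw [pow_succ]; group
    refine ThreeClass.mem_centralizer_singleton.2 ?_
    have e : ⁅y, z ^ i⁆ = (c ^ i)⁻¹ := by
      rw [commutatorElement_def, show (c ^ i) = z ^ i * y * (z ^ i)⁻¹ * y⁻¹ by rw [hpow i]; group]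
      group
    show Commute ⁅y, z ^ i⁆ z
    rw [e]
    exact (hzc.pow_right i).inv_right.symm
  rw [commutator_eq_bot_iff_le_centralizer]
  refine key.trans fun x hx => mem_centralizer_iff.2 fun b hb => ?_
  obtain ⟨i, rfl⟩ := mem_zpowers_iff.1 hb
  exact (((ThreeClass.mem_centralizer_singleton.1 hx).symm).zpow_left i).eq

theorem mem_O_of_quad {p : ℕ} [hp : Fact p.Prime] (hst : Cfsg.IsNormalizerPStable p G) {L : Subgroup G}
    (hcon : L ⊓ centralizer (Cfsg.fittingOf L : Set G) ≤ Cfsg.fittingOf L) {z : G} (hzL : z ∈ L) {k : ℕ}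
    (hzp : z ^ p ^ k = 1) (hc : ∀ r : ℕ, r.Prime → r ≠ p → ∀ y ∈ O r L, Commute z y)
    (hq : ∀ y ∈ O p L, Commute z (z * y * z⁻¹ * y⁻¹)) : z ∈ O p L := by
  set P := O p L with hP
  set N := normalizer (P : Set G) with hN
  set C := (centralizer (P : Set G)).subgroupOf N with hC
  have hLN : L ≤ N := le_normalizer_core' L
  have hmem := hst P (O_isPGroup p L) z (hLN hzL) (commutator_eq_bot_of_quad hq)
  haveI : (Cfsg.pCore p (N ⧸ C)).Normal := Grp.pCore_isNormal
  set D₀ := ((Cfsg.pCore p (N ⧸ C)).comap (QuotientGroup.mk' C)).map N.subtype with hD₀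
  have hD₀n : N ≤ normalizer (D₀ : Set G) := map_normal_le_normalizer _
  set E := ⨆ r : Nat.Primes, ⨆ _ : (r : ℕ) ≠ p, O (r : ℕ) L with hE
  have hEn : L ≤ normalizer (E : Set G) := by
    intro g hg
    refine mem_normalizer_of fun x hx => ?_
    have : E ≤ E.comap (MulAut.conj g).toMonoidHom := by
      rw [hE]
      refine iSup₂_le fun r hr y hy => ?_
      exact le_iSup₂ (f := fun (r : Nat.Primes) (_ : (r : ℕ) ≠ p) => O (r : ℕ) L) r hr
        (conj_mem (le_normalizer_core' L hg) hy)
    exact this hx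
  set D := L ⊓ D₀ ⊓ centralizer (E : Set G) with hD
  have hDn : L ≤ normalizer (D : Set G) :=
    Grp.le_normalizer_inf' (Grp.le_normalizer_inf' le_normalizer (hLN.trans hD₀n))
      (hEn.trans normalizer_le_normalizer_centralizer)
  have hzD : z ∈ D := by
    refine ⟨⟨hzL, ⟨z, hLN hzL⟩, hmem, rfl⟩, mem_centralizer_iff.2 fun y hy => ?_⟩
    have h : E ≤ centralizer ({z} : Set G) :=
      iSup₂_le fun r hr x hx => ThreeClass.mem_centralizer_singleton.2 (hc r r.2 hr x hx).symm
    exact (ThreeClass.mem_centralizer_singleton.1 (h hy)).eq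
  have hEP : E ≤ centralizer (P : Set G) := iSup₂_le fun r hr => by
    haveI := Fact.mk r.2
    exact O_commute hr L
  -- elements of `D` of order prime to `p` are central in `D`
  have hcent : ∀ x ∈ D, (orderOf x).Coprime p → ∀ d ∈ D, Commute x d := by
    intro x hx ho d hd
    have hxP : x ∈ centralizer (P : Set G) := by
      obtain ⟨y, hy, rfl⟩ := hx.1.2
      obtain ⟨j, hj⟩ := Grp.pCore_isPGroup (p := p) (G := N ⧸ C) ⟨_, hy⟩
      have h1 : orderOf (QuotientGroup.mk' C y) ∣ p ^ j := orderOf_dvd_of_pow_eq_one (congrArg Subtype.val hj)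
      have h2 : orderOf (QuotientGroup.mk' C y) ∣ orderOf y := orderOf_map_dvd _ y
      have h3 : orderOf (QuotientGroup.mk' C y) = 1 :=
        Nat.eq_one_of_dvd_coprimes ((show (orderOf y).Coprime p by rw [← Subgroup.orderOf_coe]; exact ho).pow_right j)
          h2 h1
      rw [orderOf_eq_one_iff, QuotientGroup.mk'_apply, QuotientGroup.eq_one_iff] at h3
      exact h3
    have hxF : x ∈ Cfsg.fittingOf L := by
      refine hcon ⟨hx.1.1, mem_centralizer_iff.2 fun y hy => ?_⟩
      have h : Cfsg.fittingOf L ≤ centralizer ({x} : Set G) := by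
        rw [fittingOf_eq]
        refine iSup_le fun r y hy => ThreeClass.mem_centralizer_singleton.2 ?_
        by_cases hr : (r : ℕ) = p
        · rw [hr] at hy
          exact mem_centralizer_iff.1 hxP y hy
        · exact mem_centralizer_iff.1 hx.2 y (le_iSup₂ (f := fun (r : Nat.Primes) (_ : (r : ℕ) ≠ p) =>
            O (r : ℕ) L) r hr hy)
      exact (ThreeClass.mem_centralizer_singleton.1 (h hy)).eq
    have hPE : Cfsg.fittingOf L ≤ P ⊔ E := by
      rw [fittingOf_eq]
      refine iSup_le fun r => ?_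
      by_cases hr : (r : ℕ) = p
      · rw [hr]; exact le_sup_left
      · exact le_sup_of_le_right (le_iSup₂ (f := fun (r : Nat.Primes) (_ : (r : ℕ) ≠ p) => O (r : ℕ) L) r hr)
    obtain ⟨a, ha, b, hb, rfl⟩ := Klein.exists_mul_of_sup (hEP.trans (centralizer_le_normalizer _)) (hPE hxF)
    obtain ⟨j, hj⟩ := mem_F_of_ppow (O_isPGroup p L) ha
    have hab : Commute a b := mem_centralizer_iff.1 (hEP hb) a ha
    have h1 : (a * b) ^ p ^ j ∈ E := by
      rw [hab.mul_pow, hj, one_mul]
      exact pow_mem hb _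
    obtain ⟨i, hi⟩ := exists_pow_eq_self_of_coprime (x := a * b) (ho.symm.pow_left j)
    have hxE : a * b ∈ E := hi ▸ pow_mem h1 i
    exact mem_centralizer_iff.1 hd.2 _ hxE
  -- so `D` is nilpotent
  have hnil : Group.IsNilpotent D := by
    have hq' : IsPGroup p (D ⧸ center D) := by
      intro q
      obtain ⟨x, rfl⟩ := QuotientGroup.mk_surjective q
      obtain ⟨j, m, hm, hord⟩ := Nat.exists_eq_pow_mul_and_not_dvd (orderOf_pos x).ne' p hp.out.ne_one
      refine ⟨j, ?_⟩
      rw [← QuotientGroup.mk_pow, QuotientGroup.eq_one_iff, mem_center_iff]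
      intro d
      refine Subtype.ext (hcent _ (x ^ p ^ j).2 ?_ d d.2).symm.eq
      rw [Subgroup.orderOf_coe, orderOf_pow, hord, Nat.gcd_eq_right (dvd_mul_right _ _),
        Nat.mul_div_cancel_left _ (pow_pos hp.out.pos _)]
      exact (hp.out.coprime_iff_not_dvd.2 hm).symm
    haveI := hq'.isNilpotent
    exact Subgroup.isNilpotent_of_ker_le_center (QuotientGroup.mk' (center D)) (by rw [QuotientGroup.ker_mk'])
  have hDL : D ≤ L := inf_le_left.trans inf_le_left
  have hDF : D ≤ Cfsg.fittingOf L := by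
    rw [Cfsg.fittingOf, ← map_subgroupOf_eq_of_le hDL]
    exact map_mono (Grp.le_fittingSubgroup ((normal_subgroupOf_iff_le_normalizer hDL).2 hDn)
      (Group.nilpotent_of_mulEquiv (subgroupOfEquivOfLe hDL).symm))
  exact mem_O_of_mem_fittingOf (hDF hzD) hzp

end Cfsg.Agent.Invol.GW.ThreeClass
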