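import Cfsg.Agent.Lib.Invol.GW.Klein.ThreeClassQuad
import Cfsg.Agent.Lib.Invol.GW.Klein.ThreeClassPGroup

/-!
Uniqueness: a maximal subgroup over the four group containing self-centralising parts of all the cores of `M` is `M`,
as soon as it has no core outside the primes of `M` inverted by `t`.
-/

set_option autoImplicit false
set_option linter.unusedSectionVars false

namespace Cfsg.Agent.Invol.GW.ThreeClass

open Subgroup Klein Transfer.Loc
open scoped Pointwise

universe u

variable {G : Type u} [Group G] [Finite G]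

theorem normalizer_eq_of_coatom (hs : IsSimpleGroup G) {H X : Subgroup G} (hH : IsCoatom H) (hX : X ≠ ⊥)
    (hXH : X ≤ H) (hn : H ≤ normalizer (X : Set G)) : normalizer (X : Set G) = H := by
  refine (hH.le_iff.1 hn).resolve_left fun htop => ?_
  haveI : X.Normal := normalizer_eq_top_iff.1 htop
  rcases (inferInstance : X.Normal).eq_bot_or_eq_top with e | e
  · exact hX e
  · exact hH.1 (top_le_iff.1 (e ▸ hXH))

/-- A family of self-centralising parts of the cores. -/
structure Parts (V : Subgroup G) (M : Subgroup G) (B : ℕ → Subgroup G) : Prop where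
  le : ∀ r : ℕ, r.Prime → B r ≤ F r M
  cent : ∀ r : ℕ, r.Prime → F r M ⊓ centralizer (B r : Set G) ≤ B r
  inv : ∀ r : ℕ, r.Prime → (V : Subgroup G) ≤ normalizer (B r : Set G)

/-- At least two primes have nontrivial cores. -/
def Two (M : Subgroup G) : Prop := ∀ q : ℕ, ∃ p, p.Prime ∧ F p M ≠ ⊥ ∧ p ≠ q

namespace TC

variable {V : Subgroup G} {t u n : G} {M : Subgroup G} (T : TC V t u n M)
include T

theorem parts_F : Parts V M (fun r => F r M) :=
  ⟨fun _ _ => le_rfl, fun _ _ => inf_le_left, fun r _ => T.V_le_normalizer_F r⟩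

/-- An element normalising the cores and commuting with self-centralising parts centralises them. -/
theorem commute_F_of_parts {B : ℕ → Subgroup G} (hB : Parts V M B) {r : ℕ} [hr : Fact r.Prime]
    {A : Subgroup G} (hA : (Nat.card A).Coprime r) (hAF : A ≤ normalizer (F r M : Set G))
    (hAB : ∀ a ∈ A, ∀ b ∈ B r, Commute a b) : ∀ a ∈ A, ∀ y ∈ F r M, Commute a y :=
  pq hA ((O_isPGroup r _).to_le (hB.le r hr.out)) hAB (O_isPGroup r _) hAF
    ((hB.le r hr.out).trans le_normalizer)
    fun w hw hwb a ha => hAB a ha w (hB.cent r hr.out ⟨hw, mem_centralizer_iff.2 fun b hb => (hwb b hb).eq⟩)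

theorem eq_one_of_parts {B : ℕ → Subgroup G} (hB : Parts V M B) {v : G} (hv : v ∈ (V : Subgroup G))
    (hc : ∀ r : ℕ, r.Prime → ∀ b ∈ B r, Commute v b) : v = 1 := by
  by_contra hv1
  obtain ⟨p, hp, x, hx, hvx⟩ := T.exists_moved_core hv hv1
  haveI := Fact.mk hp
  refine hvx (T.commute_F_of_parts hB (A := zpowers v) ?_ ?_ ?_ v (mem_zpowers v) x hx)
  · rw [Nat.card_zpowers, T.hyp.orderOf_eq hv hv1]
    refine (Nat.coprime_primes Nat.prime_two hp).2 ?_
    rintro rfl
    rw [T.F_two, Subgroup.mem_bot] at hx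
    exact hvx (hx ▸ Commute.one_right v)
  · exact zpowers_le.2 (T.V_le_normalizer_F p hv)
  · intro a ha b hb
    obtain ⟨i, rfl⟩ := mem_zpowers_iff.1 ha
    exact (hc p hp b hb).zpow_left i

/-- The uniqueness lemma. -/
theorem eq_of_parts (hone : Two M) {H : Subgroup G} (hH : IsCoatom H) (hVH : (V : Subgroup G) ≤ H)
    {B : ℕ → Subgroup G} (hB : Parts V M B) (hBH : ∀ r : ℕ, r.Prime → B r ≤ H)
    (hW : ∀ (s : ℕ) [Fact s.Prime], s ≠ 2 → F s M = ⊥ → (∀ w ∈ O s H, w ∈ M → w = 1) →
      (∀ w ∈ O s H, t * w * t⁻¹ = w⁻¹) →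
      (∀ r : ℕ, r.Prime → ∀ x ∈ B r, t * x * t⁻¹ = x⁻¹ → ∀ w ∈ O s H, Commute x w) → O s H = ⊥)
    (hloc : (∀ (s : ℕ) [Fact s.Prime], O s H ≤ oddOf M) → O 2 H = ⊥ →
      H ⊓ centralizer (Cfsg.fittingOf H : Set G) ≤ Cfsg.fittingOf H) :
    H = M := by
  haveI : Fact (Nat.Prime 2) := ⟨Nat.prime_two⟩
  have hOn : ∀ (r : ℕ), H ≤ normalizer (O r H : Set G) := fun r => le_normalizer_core' H
  have hBn : ∀ (r s : ℕ), r.Prime → B r ≤ normalizer (O s H : Set G) := fun r s hr => (hBH r hr).trans (hOn s)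
  have hBM : ∀ r : ℕ, r.Prime → B r ≤ M := fun r hr => (hB.le r hr).trans (T.F_le_M r)
  -- the core of `H` at two
  have h2 : O 2 H = ⊥ := by
    refine eq_bot_iff.2 fun w hw => Subgroup.mem_bot.2 ?_
    by_contra hw1
    -- a fixed point of the four group
    have hVp : IsPGroup 2 V := IsPGroup.of_card (n := 2) (by
      haveI := T.hyp.klein
      rw [IsKleinFour.card_four]; rfl)
    have h1 : IsPGroup 2 ↥(O 2 H ⊔ V) := (O_isPGroup 2 H).to_sup_of_normal_left' hVp (hVH.trans (hOn 2))
    obtain ⟨c, ⟨hcO, hcV⟩, hc1⟩ := (bot_or_exists_ne_one _).resolve_left (exists_fixed (O_isPGroup 2 H) hVp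
      (hVH.trans (hOn 2)) (fun e => hw1 (Subgroup.mem_bot.1 (e ▸ hw))))
    have hwV : c ∈ V := T.hyp.selfCent _ h1 le_sup_right c (mem_sup_left hcO) fun v hv =>
      (mem_centralizer_iff.1 hcV v hv).symm
    refine hc1 (T.eq_one_of_parts hB hwV fun r hr b hb => ?_)
    haveI := Fact.mk hr
    by_cases h : r = 2
    · subst h
      have hb' := hB.le 2 Nat.prime_two hb
      rw [T.F_two, Subgroup.mem_bot] at hb'
      exact hb' ▸ Commute.one_right c
    · exact commute_of_primes (Ne.symm h) (O_isPGroup 2 H) ((O_isPGroup r _).to_le (hB.le r hr)) hcO hb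
        (hB.inv r hr hwV) (hBn r 2 hr hb)
  -- cores at primes outside `M`
  have hout : ∀ (s : ℕ) [Fact s.Prime], F s M = ⊥ → O s H = ⊥ := by
    intro s hs hFs
    by_cases hs2 : s = 2
    · rw [hs2]; exact h2
    have hcopy : ∀ w ∈ O s H, Odd (orderOf w) := fun w hw => by
      refine Nat.Coprime.odd_of_right ?_
      exact (orderOf_coprime hs2 (O_isPGroup s H) hw)
    have hinf : ∀ w ∈ O s H, w ∈ M → w = 1 := by
      intro w hw hwM
      have hwK := T.mem_K hwM (hcopy w hw)
      have hwF : w ∈ F s M := by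
        refine T.mem_F (O_isPGroup s H) hw hwK fun r hr y hy => ?_
        haveI := Fact.mk hr
        by_cases hrs : r = s
        · subst hrs
          rw [hFs, Subgroup.mem_bot] at hy
          exact hy ▸ Commute.one_right w
        refine T.commute_F_of_parts hB (A := zpowers w) ?_ (zpowers_le.2 (T.M_le_normalizer_F r hwM)) ?_
          w (mem_zpowers w) y hy
        · rw [Nat.card_zpowers]; exact orderOf_coprime (Ne.symm hrs) (O_isPGroup s H) hw
        · intro a ha b hb
          obtain ⟨i, rfl⟩ := mem_zpowers_iff.1 ha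
          refine Commute.zpow_left ?_ i
          refine commute_of_inf (A := O s H) (B := F r M) (eq_bot_of_coprime_pGroups (Ne.symm hrs)
            (O_isPGroup s H) (O_isPGroup r _)) hw (hB.le r hr hb) (T.M_le_normalizer_F r hwM) (hBn r s hr hb)
      rwa [hFs, Subgroup.mem_bot] at hwF
    have hodd : Odd (Nat.card (O s H)) := Nat.Coprime.odd_of_right
      (coprime_of_isPGroup (O_isPGroup s H) ((Nat.coprime_primes hs.out Nat.prime_two).2 hs2))
    have hinv : ∀ w ∈ O s H, t * w * t⁻¹ = w⁻¹ := fun w hw =>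
      inverted_of_fixed_free T.tt hodd (hOn s (hVH T.hyp.ht))
        (fun c hc hct => hinf c hc (T.le_M (ThreeClass.mem_centralizer_singleton.2 hct.symm))) hw
    exact hW s hs2 hFs hinf hinv fun r hr x hx hxt w hw =>
      commute_inverted (odd_orderOf (T.odd_F r) (hB.le r hr hx)) hxt (hinv w hw)
        (hinv _ (conj_mem (hBn r s hr hx) hw))
  -- all cores of `H` lie in `M`
  have hHM : ∀ (s : ℕ) [Fact s.Prime], O s H ≤ M := by
    intro s hs
    by_cases hFs : F s M = ⊥
    · rw [hout s hFs]; exact bot_le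
    obtain ⟨q, hq, hFq, hqs⟩ := hone s
    haveI := Fact.mk hq
    have hc : ∀ a ∈ B q, ∀ w ∈ O s H, Commute a w :=
      pq (coprime_of_isPGroup ((O_isPGroup q _).to_le (hB.le q hq)) ((Nat.coprime_primes hq hs.out).2 hqs))
        ((O_isPGroup s _).to_le (hB.le s hs.out))
        (fun a ha b hb => mem_centralizer_iff.1 (O_commute (Ne.symm hqs) (oddOf M) (hB.le s hs.out hb)) a
          (hB.le q hq ha))
        (O_isPGroup s H) (hBn q s hq) (hBn s s hs.out) fun w hw hwb a ha => by
          have hwM := T.centralizer_le_of_selfCent hFs (hB.le s hs.out) (hB.cent s hs.out)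
            (mem_centralizer_iff.2 fun b hb => (hwb b hb).eq)
          exact commute_of_primes hqs (O_isPGroup q _) (O_isPGroup s H) (hB.le q hq ha) hw
            (hBn q s hq ha) (T.M_le_normalizer_F q hwM)
    exact fun w hw => T.centralizer_le_of_selfCent hFq (hB.le q hq) (hB.cent q hq)
      (mem_centralizer_iff.2 fun a ha => (hc a ha w hw).eq)
  have hHodd : ∀ (s : ℕ) [Fact s.Prime], ∀ w ∈ O s H, Odd (orderOf w) := by
    intro s hs w hw
    by_cases hs2 : s = 2
    · subst hs2
      rw [h2, Subgroup.mem_bot] at hw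
      simp [hw]
    · exact Nat.Coprime.odd_of_right (orderOf_coprime hs2 (O_isPGroup s H) hw)
  have hHK : ∀ (s : ℕ) [Fact s.Prime], O s H ≤ oddOf M := fun s hs w hw => T.mem_K (hHM s hw) (hHodd s w hw)
  -- `H` is constrained
  have hcon : H ⊓ centralizer (Cfsg.fittingOf H : Set G) ≤ Cfsg.fittingOf H := hloc hHK h2
  -- every prime of `M` occurs in `H`
  have hne : ∀ (p : ℕ) [Fact p.Prime], F p M ≠ ⊥ → O p H ≠ ⊥ := by
    intro p hp hFp e
    refine hFp (le_bot_iff.1 fun y hy => ?_)
    have hBbot : B p ≤ ⊥ := by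
      intro b hb
      obtain ⟨k, hk⟩ := mem_F_of_ppow ((O_isPGroup p _).to_le (hB.le p hp.out)) hb
      rw [← e]
      refine mem_O_of_mem_fittingOf (hcon ⟨hBH p hp.out hb, mem_centralizer_iff.2 fun x hx => ?_⟩) hk
      have h : Cfsg.fittingOf H ≤ centralizer ({b} : Set G) := by
        rw [fittingOf_eq]
        refine iSup_le fun r x hx => ThreeClass.mem_centralizer_singleton.2 ?_
        haveI := Fact.mk r.2
        by_cases hr : (r : ℕ) = p
        · rw [hr, e, Subgroup.mem_bot] at hx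
          exact hx ▸ Commute.one_left b
        · exact commute_of_primes hr (O_isPGroup r H) (O_isPGroup p _) hx (hB.le p hp.out hb)
            (T.M_le_normalizer_F p (hHM r hx)) (hBn p r hp.out hb)
      exact (ThreeClass.mem_centralizer_singleton.1 (h hx)).eq
    exact hBbot (hB.cent p hp.out ⟨hy, mem_centralizer_iff.2 fun b hb => by
      rw [Subgroup.mem_bot.1 (hBbot hb), one_mul, mul_one]⟩)
  -- the cores of different primes commute
  have hcomm : ∀ (p r : ℕ) [Fact p.Prime] [Fact r.Prime], r ≠ p → ∀ a ∈ O r H, ∀ y ∈ F p M, Commute a y := by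
    intro p r hp hr hrp
    exact T.commute_F_of_parts hB (coprime_of_isPGroup (O_isPGroup r H) ((Nat.coprime_primes hr.out hp.out).2 hrp))
      ((hHM r).trans (T.M_le_normalizer_F p)) fun a ha b hb => commute_of_primes hrp (O_isPGroup r H)
        (O_isPGroup p _) ha (hB.le p hp.out hb) (T.M_le_normalizer_F p (hHM r ha)) (hBn p r hp.out hb)
  have hFH : ∀ (p : ℕ) [Fact p.Prime], F p M ≤ H := by
    intro p hp
    obtain ⟨q, hq, hFq, hqp⟩ := hone p
    haveI := Fact.mk hq
    intro y hy
    rw [← normalizer_eq_of_coatom T.hyp.simple hH (hne q hFq) (O_le q H) (hOn q)]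
    exact centralizer_le_normalizer _ (mem_centralizer_iff.2 fun a ha => (hcomm p q hqp a ha y hy).eq)
  have hstab : ∀ (p : ℕ) [Fact p.Prime], p ≠ 2 → Cfsg.IsNormalizerPStable p G := fun p hp hp2 =>
    Grp.Quad.isNormalizerPStable_of_free hp2 (T.hyp.qd p hp2)
  have hne2 : ∀ (p : ℕ), F p M ≠ ⊥ → p ≠ 2 := fun p hp e => hp (e ▸ T.F_two)
  have hquad : ∀ {X : Subgroup G} {z y : G}, z ∈ X ⊓ centralizer (X : Set G) →
      y ∈ normalizer ((X ⊓ centralizer (X : Set G) : Subgroup G) : Set G) →
      Commute z (z * y * z⁻¹ * y⁻¹) := by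
    intro X z y hz hy
    have h1 : z * y * z⁻¹ * y⁻¹ ∈ X ⊓ centralizer (X : Set G) := by
      rw [show z * y * z⁻¹ * y⁻¹ = z * (y * z⁻¹ * y⁻¹) by group]
      exact mul_mem hz (conj_mem hy (inv_mem hz))
    exact mem_centralizer_iff.1 h1.2 z hz.1
  have hZH : ∀ (p : ℕ) [Fact p.Prime], F p M ≠ ⊥ → Z p (oddOf M) ≤ O p H := by
    intro p hp hFp z hz
    obtain ⟨k, hk⟩ := mem_F_of_ppow (O_isPGroup p _) hz.1
    refine mem_O_of_quad (hstab p (hne2 p hFp)) hcon (hFH p hz.1) hk (fun r hr hrp a ha => ?_) fun y hy => ?_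
    · haveI := Fact.mk hr
      exact (hcomm p r hrp a ha z hz.1).symm
    · exact hquad hz ((le_of_eq (T.normalizer_Z hFp).symm) (hHM p hy))
  have hZK : ∀ (q : ℕ) [Fact q.Prime], F q M ≠ ⊥ → Z q H ≤ F q M := by
    intro q hq hFq z hz
    haveI := isSolvable_of_odd T.odd_K
    obtain ⟨k, hk⟩ := mem_F_of_ppow (O_isPGroup q _) hz.1
    refine mem_O_of_quad (hstab q (hne2 q hFq)) (centralizer_fittingOf_le _) (hHK q hz.1) hk
      (fun r hr hrq a ha => ?_) fun y hy => ?_
    · haveI := Fact.mk hr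
      exact hcomm r q (Ne.symm hrq) z hz.1 a ha
    · exact hquad hz (le_normalizer_Z H (hFH q hy))
  have heq : ∀ (p : ℕ) [Fact p.Prime], O p H = F p M := by
    intro p hp
    obtain ⟨q, hq, hFq, hqp⟩ := hone p
    haveI := Fact.mk hq
    refine le_antisymm ?_ ?_
    · set C₁ := oddOf M ⊓ centralizer (F q M : Set G) with hC₁
      have hC₁H : C₁ ≤ H := by
        refine inf_le_right.trans ((centralizer_le (hZK q hFq)).trans ((centralizer_le_normalizer _).trans ?_))
        exact (normalizer_eq_of_coatom T.hyp.simple hH (Z_ne_bot (hne q hFq)) (inf_le_left.trans (O_le q H))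
          (le_normalizer_Z H)).le
      have hC₁n : oddOf M ≤ normalizer (C₁ : Set G) := Grp.le_normalizer_inf' le_normalizer
        ((le_normalizer_core' _).trans normalizer_le_normalizer_centralizer)
      have h1 : O p H ≤ C₁ := le_inf (hHK p) fun a ha => mem_centralizer_iff.2 fun y hy =>
        (hcomm q p (Ne.symm hqp) a ha y hy).symm.eq
      refine (le_O h1 (hC₁H.trans (hOn p)) (O_isPGroup p H)).trans ?_
      exact le_O ((O_le p C₁).trans inf_le_left) (le_normalizer_core hC₁n) (O_isPGroup p C₁)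
    · set C₂ := H ⊓ centralizer (O q H : Set G) with hC₂
      have hC₂M : C₂ ≤ M := inf_le_right.trans ((centralizer_le (hZH q hFq)).trans
        ((centralizer_le_normalizer _).trans (T.normalizer_Z hFq).le))
      have hC₂n : H ≤ normalizer (C₂ : Set G) := Grp.le_normalizer_inf' le_normalizer
        ((hOn q).trans normalizer_le_normalizer_centralizer)
      have h1 : F p M ≤ C₂ := le_inf (hFH p) fun y hy => mem_centralizer_iff.2 fun a ha =>
        (hcomm p q hqp a ha y hy).eq
      refine (le_O h1 (hC₂M.trans (T.M_le_normalizer_F p)) (O_isPGroup p _)).trans ?_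
      exact le_O ((O_le p C₂).trans inf_le_left) (le_normalizer_core hC₂n) (O_isPGroup p C₂)
  obtain ⟨p, hp, hFp, -⟩ := hone 0
  haveI := Fact.mk hp
  rw [← normalizer_eq_of_coatom T.hyp.simple hH (hne p hFp) (O_le p H) (hOn p), heq p, T.normalizer_F hFp]

end TC

end Cfsg.Agent.Invol.GW.ThreeClass
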