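import Cfsg.Agent.Lib.Invol.GW.Klein.Ctx
import Cfsg.Agent.Lib.Invol.GW.Klein.Orbit

/-!
# Gorenstein–Walter, Klein four: translations

An abelian subgroup of `U`, normal in it, whose inverted part is a line normalised by `U` while it meets
`O_l(U) ⊓ R`: `[U, u]` acts by translations, against the weight bound.
-/

set_option autoImplicit false
set_option linter.unusedSectionVars false

namespace Cfsg.Agent.Invol.GW.Klein

open Subgroup
open scoped Pointwise commutatorElement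

universe u

variable {G : Type u} [Group G]

/-- The elements of both normalisers acting trivially on `A` modulo `B`. -/
def trivModSub (A B : Subgroup G) : Subgroup G where
  carrier := {g | g ∈ normalizer (A : Set G) ∧ g ∈ normalizer (B : Set G) ∧ ∀ x ∈ A, g * x * g⁻¹ * x⁻¹ ∈ B}
  one_mem' := ⟨one_mem _, one_mem _, fun x _ => by simp⟩
  mul_mem' := fun {a b} ha hb => ⟨mul_mem ha.1 hb.1, mul_mem ha.2.1 hb.2.1, fun x hx => by
    have h1 := (mem_normalizer_iff.1 ha.2.1 _).1 (hb.2.2 x hx)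
    have h2 := ha.2.2 x hx
    rw [show a * b * x * (a * b)⁻¹ * x⁻¹ = a * (b * x * b⁻¹ * x⁻¹) * a⁻¹ * (a * x * a⁻¹ * x⁻¹) by group]
    exact mul_mem h1 h2⟩
  inv_mem' := fun {a} ha => ⟨inv_mem ha.1, inv_mem ha.2.1, fun x hx => by
    have h1 := ha.2.2 _ ((mem_normalizer_iff.1 (inv_mem ha.1) x).1 hx)
    rw [show a * (a⁻¹ * x * a⁻¹⁻¹) * a⁻¹ * (a⁻¹ * x * a⁻¹⁻¹)⁻¹ = (a⁻¹ * x * a⁻¹⁻¹ * x⁻¹)⁻¹ by group] at h1
    exact inv_mem_iff.1 h1⟩

theorem mem_trivModSub {A B : Subgroup G} {g : G} : g ∈ trivModSub A B ↔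
    g ∈ normalizer (A : Set G) ∧ g ∈ normalizer (B : Set G) ∧ ∀ x ∈ A, g * x * g⁻¹ * x⁻¹ ∈ B := Iff.rfl

variable [Finite G]

namespace Hyp

variable {V : Sylow 2 G} {t u : G} (h : Hyp V t u)
include h

/-- An element of `U` moving a point of `R` to one centralised by `u` is an inverted element centralising it times
one of `R`. -/
theorem exists_factor {g z : G} (hg : g ∈ coreCent t) (hz : z ∈ fixR t u) (hz' : Commute (g⁻¹ * z * g) u) :
    ∃ a ∈ coreCent t, ∃ e ∈ fixR t u, u * a * u⁻¹ = a⁻¹ ∧ Commute a z ∧ g = a * e := by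
  obtain ⟨a, ha, e, he, hinv, hcomm, hge, hmem⟩ := exists_inverted_mul h.odd_coreCent (h.mul_self h.hu)
    (h.V_le_normalizer_coreCent h.hu) hg
  refine ⟨a, ha, e, h.mem_fixR.2 ⟨he, hcomm⟩, hinv, ?_, hge⟩
  obtain ⟨i, rfl⟩ := Subgroup.mem_zpowers_iff.1 hmem
  refine Commute.zpow_left ?_ i
  have h1 := hz'.symm.conj g
  rw [show g * (g⁻¹ * z * g) * g⁻¹ = z by group] at h1
  exact h1.mul_left (h.mem_fixR.1 hz).2.symm

theorem commutator_zpowers_le {K S : Subgroup G} (hS : ∀ k ∈ K, ⁅k, u⁆ ∈ S) : ⁅K, zpowers u⁆ ≤ S := by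
  refine Subgroup.commutator_le.2 fun k hk w hw => ?_
  obtain ⟨i, rfl⟩ := Subgroup.mem_zpowers_iff.1 hw
  rcases Int.even_or_odd i with ⟨j, rfl⟩ | ⟨j, rfl⟩
  · rw [zpow_add, ← (Commute.refl u).mul_zpow, h.mul_self h.hu, one_zpow, commutatorElement_one_right]
    exact one_mem _
  · rw [zpow_add_one, two_mul, zpow_add, ← (Commute.refl u).mul_zpow, h.mul_self h.hu, one_zpow, one_mul]
    exact hS k hk

theorem inverted_conj {e x : G} (he : e ∈ fixR t u) (hx : u * x * u⁻¹ = x⁻¹) :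
    u * (e * x * e⁻¹) * u⁻¹ = (e * x * e⁻¹)⁻¹ := by
  have hue : u * e = e * u := (h.mem_fixR.1 he).2.symm.eq
  calc u * (e * x * e⁻¹) * u⁻¹ = (u * e) * x * (u * e)⁻¹ := by group
    _ = e * (u * x * u⁻¹) * e⁻¹ := by rw [hue]; group
    _ = (e * x * e⁻¹)⁻¹ := by rw [hx]; group

/-- An element of `R` is not conjugate under `U` to an inverted one, modulo a normalised subgroup. -/
theorem not_inverted_conj {N : Subgroup G} (hN : coreCent t ≤ normalizer (N : Set G))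
    (huN : u ∈ normalizer (N : Set G)) {k x : G} (hk : k ∈ coreCent t) (hx : x ∈ fixR t u)
    (h' : u * (k * x * k⁻¹) * u⁻¹ * (k * x * k⁻¹) ∈ N) : x ∈ N := by
  have huk : u * k * u⁻¹ ∈ coreCent t := (mem_normalizer_iff.1 (h.V_le_normalizer_coreCent h.hu) k).1 hk
  have hw : k⁻¹ * (u * k * u⁻¹) ∈ coreCent t := mul_mem (inv_mem hk) huk
  refine mem_of_inverted_mod (w := k⁻¹ * (u * k * u⁻¹))
    (Odd.of_dvd_nat h.odd_coreCent ((coreCent t).orderOf_dvd_natCard hw))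
    (Odd.of_dvd_nat h.odd_fixR ((fixR t u).orderOf_dvd_natCard hx)) (hN hw) (hN hx.1) ?_
  have h1 := (mem_normalizer_iff.1 (inv_mem (hN hk)) _).1 h'
  have hux : u⁻¹ * x * u = x := by rw [mul_assoc, (h.mem_fixR.1 hx).2.eq, inv_mul_cancel_left]
  convert h1 using 1
  calc k⁻¹ * (u * k * u⁻¹) * x * (k⁻¹ * (u * k * u⁻¹))⁻¹ * x
      = k⁻¹ * (u * (k * (u⁻¹ * x * u) * k⁻¹) * u⁻¹) * k * x := by group
    _ = k⁻¹ * (u * (k * x * k⁻¹) * u⁻¹ * (k * x * k⁻¹)) * k⁻¹⁻¹ := by rw [hux]; group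

end Hyp

namespace Ctx

variable {V : Sylow 2 G} {t u : G} {l : ℕ} (c : Ctx V t u l)
include c

/-- Two inverted elements of order `l` of `U ⊓ C(z)` lie in one line. -/
theorem inverted_mem_zpowers {z x y : G} (hzY : z ∈ opOf l (coreCent t)) (hz : z ∈ fixR t u) (ho : orderOf z = l)
    (hx : x ∈ coreCent t) (hxz : Commute x z) (hxu : u * x * u⁻¹ = x⁻¹) (hxl : x ^ l = 1) (hx1 : x ≠ 1)
    (hy : y ∈ coreCent t) (hyz : Commute y z) (hyu : u * y * u⁻¹ = y⁻¹) (hyl : y ^ l = 1) : y ∈ zpowers x := by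
  haveI := c.fact_prime
  obtain ⟨F, _, _, E, a₀, -, -, -, -, -, hcyc, -, -, -⟩ := c.data z hz hzY ho
  have hodd := c.hyp.odd_coreCent
  exact mem_zpowers_of_isCyclic
    (c.hyp.mem_commutator_of_inverted (K := coreCent t ⊓ centralizer ({z} : Set G)) ⟨hx, mem_centralizer_singleton_iff.2 hxz.eq⟩
      (Odd.of_dvd_nat hodd ((coreCent t).orderOf_dvd_natCard hx)) hxu)
    (c.hyp.mem_commutator_of_inverted (K := coreCent t ⊓ centralizer ({z} : Set G)) ⟨hy, mem_centralizer_singleton_iff.2 hyz.eq⟩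
      (Odd.of_dvd_nat hodd ((coreCent t).orderOf_dvd_natCard hy)) hyu) hxl hx1 hyl

/-- Inverted elements of `U ⊓ C(z)` commute. -/
theorem inverted_commute {z x y : G} (hzY : z ∈ opOf l (coreCent t)) (hz : z ∈ fixR t u) (ho : orderOf z = l)
    (hx : x ∈ coreCent t) (hxz : Commute x z) (hxu : u * x * u⁻¹ = x⁻¹)
    (hy : y ∈ coreCent t) (hyz : Commute y z) (hyu : u * y * u⁻¹ = y⁻¹) : Commute x y := by
  obtain ⟨F, _, _, E, a₀, -, -, -, -, -, hcyc, -, -, -⟩ := c.data z hz hzY ho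
  haveI : IsMulCommutative ↥⁅coreCent t ⊓ centralizer ({z} : Set G), zpowers u⁆ := IsCyclic.commutative
  have hodd := c.hyp.odd_coreCent
  exact congrArg Subtype.val (mul_comm'
    (⟨x, c.hyp.mem_commutator_of_inverted (K := coreCent t ⊓ centralizer ({z} : Set G)) ⟨hx, mem_centralizer_singleton_iff.2 hxz.eq⟩
      (Odd.of_dvd_nat hodd ((coreCent t).orderOf_dvd_natCard hx)) hxu⟩ :
        ↥⁅coreCent t ⊓ centralizer ({z} : Set G), zpowers u⁆)
    ⟨y, c.hyp.mem_commutator_of_inverted (K := coreCent t ⊓ centralizer ({z} : Set G)) ⟨hy, mem_centralizer_singleton_iff.2 hyz.eq⟩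
      (Odd.of_dvd_nat hodd ((coreCent t).orderOf_dvd_natCard hy)) hyu⟩)

/-- The factor of an element moving `z` inside `R` keeps an inverted line. -/
theorem conj_line {g z y : G} (hg : g ∈ coreCent t) (hzY : z ∈ opOf l (coreCent t)) (hz : z ∈ fixR t u)
    (ho : orderOf z = l) (hz' : Commute (g⁻¹ * z * g) u) (hy : y ∈ coreCent t) (hyz : Commute y z)
    (hyu : u * y * u⁻¹ = y⁻¹) (hyl : y ^ l = 1) (hy1 : y ≠ 1)
    (he : ∀ e ∈ fixR t u, Commute (e * y * e⁻¹) z) : g * y * g⁻¹ ∈ zpowers y := by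
  obtain ⟨a, ha, e, heR, hau, haz, rfl⟩ := c.hyp.exists_factor hg hz hz'
  have hey : e * y * e⁻¹ ∈ coreCent t := mul_mem (mul_mem heR.1 hy) (inv_mem heR.1)
  have hmem := c.inverted_mem_zpowers hzY hz ho hy hyz hyu hyl hy1 hey (he e heR)
    (c.hyp.inverted_conj heR hyu) (by rw [conj_pow, hyl, mul_one, mul_inv_cancel])
  have hcomm := c.inverted_commute hzY hz ho ha haz hau hey (he e heR) (c.hyp.inverted_conj heR hyu)
  rwa [show a * e * y * (a * e)⁻¹ = a * (e * y * e⁻¹) * a⁻¹ by group, hcomm.eq, mul_inv_cancel_right]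

/-- The order of `U` from an orbit of `z`. -/
theorem card_eq_of_orbit {z : G} (hzY : z ∈ opOf l (coreCent t)) (hz : z ∈ fixR t u) (ho : orderOf z = l)
    {K : Subgroup G} (hK : coreCent t ⊓ centralizer ({z} : Set G) ≤ K) (hKU : K ≤ coreCent t) {s : ℕ}
    (hs : {x : G | ∃ k ∈ K, k * z * k⁻¹ = x}.ncard =
      s * {x : G | ∃ k ∈ fixR t u, k * z * k⁻¹ = x}.ncard) :
    Nat.card ↥K = s * (Nat.card ↥⁅coreCent t ⊓ centralizer ({z} : Set G), zpowers u⁆ *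
      Nat.card ↥(fixR t u)) := by
  obtain ⟨F, _, _, E, a₀, -, -, -, -, -, -, hD, hcard, -⟩ := c.data z hz hzY ho
  rw [hD]
  have h1 := card_conjugates_mul K z
  have h2 := card_conjugates_mul (fixR t u) z
  have hKC : K ⊓ centralizer ({z} : Set G) = coreCent t ⊓ centralizer ({z} : Set G) :=
    le_antisymm (inf_le_inf_right _ hKU) (le_inf hK inf_le_right)
  rw [hKC, hcard, hs] at h1
  rw [← h1, ← h2]
  ring

/-- No translations. -/
theorem translations (X : Subgroup G) [IsMulCommutative ↥X] (hXU : X ≤ coreCent t)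
    (hXl : ∀ x ∈ X, x ^ l = 1) (hUX : coreCent t ≤ normalizer (X : Set G)) (huX : u ∈ normalizer (X : Set G))
    {z y : G} (hzX : z ∈ X) (hzY : z ∈ opOf l (coreCent t)) (hz : z ∈ fixR t u) (ho : orderOf z = l)
    (hyX : y ∈ X) (hyu : u * y * u⁻¹ = y⁻¹) (hy1 : y ≠ 1)
    (hUy : coreCent t ≤ normalizer (zpowers y : Set G)) : False := by
  haveI := c.fact_prime
  set U := coreCent t with hU
  set L := zpowers y with hL
  have hodd := c.hyp.odd_coreCent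
  have hcommX : ∀ a ∈ X, ∀ b ∈ X, Commute a b := fun a ha b hb =>
    congrArg Subtype.val (mul_comm' (⟨a, ha⟩ : ↥X) ⟨b, hb⟩)
  have hLinv : ∀ w ∈ L, u * w * u⁻¹ = w⁻¹ := fun w hw => by
    obtain ⟨i, rfl⟩ := Subgroup.mem_zpowers_iff.1 hw
    rw [← conj_zpow, hyu, inv_zpow]
  have huL : u ∈ normalizer (L : Set G) := mem_normalizer_fintype fun w hw => by
    rw [SetLike.mem_coe, hLinv w hw]; exact inv_mem hw
  have hoy : orderOf y = l := orderOf_eq_prime (hXl y hyX) hy1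
  have hinvL : ∀ w ∈ X, u * w * u⁻¹ = w⁻¹ → w ∈ L := fun w hw hwu =>
    c.inverted_mem_zpowers hzY hz ho (hXU hyX) (hcommX y hyX z hzX) hyu (hXl y hyX) hy1 (hXU hw)
      (hcommX w hw z hzX) hwu (hXl w hw)
  have hmod : ∀ x ∈ X, u * x * u⁻¹ * x⁻¹ ∈ L := fun x hx => hinvL _
    (mul_mem ((mem_normalizer_iff.1 huX x).1 hx) (inv_mem hx)) (by
      have huu : u * u = 1 := c.hyp.mul_self c.hyp.hu
      have hui : u⁻¹ = u := inv_eq_of_mul_eq_one_right huu
      rw [show u * (u * x * u⁻¹ * x⁻¹) * u⁻¹ = (u * u) * x * (u * u)⁻¹ * (u * x * u⁻¹)⁻¹ by group, huu,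
        inv_one, mul_one, one_mul]
      group)
  have hcomm : ∀ g ∈ ⁅U, zpowers u⁆, g ∈ trivModSub X L ∧ g * y * g⁻¹ = y := by
    intro g hg
    have hle : ⁅U, zpowers u⁆ ≤ trivModSub X L ⊓ centralizer ({y} : Set G) :=
      c.hyp.commutator_zpowers_le fun k hk => Subgroup.mem_inf.2
        ⟨mem_trivModSub.2 ⟨?_, ?_, fun x hx => commutator_mem_of_fixed (hUX hk) (hUy hk) huX huL hmod hx⟩,
          mem_centralizer_singleton_iff.2 (commute_commutator_of_inverted (hUy hk) hLinv (mem_zpowers y)).eq⟩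
    · exact ⟨(hle hg).1, by rw [mem_centralizer_singleton_iff.1 (hle hg).2, mul_inv_cancel_right]⟩
    all_goals rw [commutatorElement_def]
    · exact mul_mem (mul_mem (mul_mem (hUX hk) huX) (inv_mem (hUX hk))) (inv_mem huX)
    · exact mul_mem (mul_mem (mul_mem (hUy hk) huL) (inv_mem (hUy hk))) (inv_mem huL)
  obtain ⟨g₀, hg₀, hne⟩ : ∃ g ∈ ⁅U, zpowers u⁆, g * z * g⁻¹ ≠ z := by
    by_contra hall
    push Not at hall
    exact c.not_commutator_le hzY hz ho fun g hg =>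
      mem_centralizer_singleton_iff.2 (mul_inv_eq_iff_eq_mul.1 (hall g hg))
  have hnU : zpowers u ≤ normalizer (U : Set G) := zpowers_le.2 (c.hyp.V_le_normalizer_coreCent c.hyp.hu)
  have hNU : ⁅U, zpowers u⁆ ≤ U := Grp.commutator_le_left_of_le_normalizer hnU
  have hg₀U := hNU hg₀
  set y' := z⁻¹ * (g₀ * z * g₀⁻¹) with hy'
  have hy'L : y' ∈ L := by
    have h1 := (mem_trivModSub.1 (hcomm g₀ hg₀).1).2.2 z hzX
    have h2 : g₀ * z * g₀⁻¹ * z⁻¹ = y' := by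
      rw [hy', (hcommX _ (inv_mem hzX) _ ((mem_normalizer_iff.1 (hUX hg₀U) z).1 hzX)).eq]
    rwa [h2] at h1
  have hy'1 : y' ≠ 1 := fun e => hne (inv_mul_eq_one.1 e).symm
  have hgy' : Commute g₀ y' := by
    obtain ⟨i, hi⟩ := Subgroup.mem_zpowers_iff.1 hy'L
    rw [← hi]
    exact (show Commute g₀ y from mul_inv_eq_iff_eq_mul.1 (hcomm g₀ hg₀).2).zpow_right i
  have hLl : ∀ w ∈ L, w ^ l = 1 := fun w hw => hXl w ((zpowers_le.2 hyX) hw)
  have hgz : g₀ * z * g₀⁻¹ = z * y' := by rw [hy']; group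
  have hgi : ∀ i : ℕ, g₀ ^ i * z * (g₀ ^ i)⁻¹ = z * y' ^ i := fun i => by
    induction i with
    | zero => simp
    | succ i ih =>
      rw [pow_succ', show g₀ * g₀ ^ i * z * (g₀ * g₀ ^ i)⁻¹ = g₀ * (g₀ ^ i * z * (g₀ ^ i)⁻¹) * g₀⁻¹ by group, ih,
        show g₀ * (z * y' ^ i) * g₀⁻¹ = (g₀ * z * g₀⁻¹) * (g₀ * y' ^ i * g₀⁻¹) by group,
        (hgy'.pow_right i).eq, mul_inv_cancel_right, hgz, mul_assoc, pow_succ']
  -- the orbit of `z` is the orbit under `R` times the line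
  set OR := {x : G | ∃ k ∈ fixR t u, k * z * k⁻¹ = x} with hOR
  have horb : {x : G | ∃ k ∈ U, k * z * k⁻¹ = x} = (fun p : G × G => p.1 * p.2) '' (OR ×ˢ (L : Set G)) := by
    ext x
    constructor
    · rintro ⟨k, hk, rfl⟩
      obtain ⟨m, hm, e, he, rfl⟩ := Grp.exists_commutator_mul_fixed (zpowers u) U hnU
        (c.hyp.coprime_zpowers hodd) (Or.inr c.hyp.isSolvable_coreCent) hk
      have heR : e ∈ fixR t u := c.hyp.mem_fixR.2 ⟨he.1,
        (show Commute u e from mem_centralizer_iff.1 he.2 u (mem_zpowers u)).symm⟩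
      have heX : e * z * e⁻¹ ∈ X := (mem_normalizer_iff.1 (hUX he.1) z).1 hzX
      refine ⟨(e * z * e⁻¹, (e * z * e⁻¹)⁻¹ * (m * (e * z * e⁻¹) * m⁻¹)), ⟨⟨e, heR, rfl⟩, ?_⟩, by group⟩
      have h1 := (mem_trivModSub.1 (hcomm m hm).1).2.2 _ heX
      rwa [(hcommX _ ((mem_normalizer_iff.1 (hUX (hNU hm)) _).1 heX) _ (inv_mem heX)).eq] at h1
    · rintro ⟨⟨x', w⟩, ⟨⟨e, he, rfl⟩, hw⟩, rfl⟩
      have hw' : e⁻¹ * w * e ∈ L := by simpa using (mem_normalizer_iff.1 (inv_mem (hUy he.1)) w).1 hw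
      obtain ⟨j, hj⟩ : ∃ j : ℕ, y' ^ j = e⁻¹ * w * e := by
        have h1 : e⁻¹ * w * e ∈ zpowers y' := by
          have hle : L ≤ zpowers y' := by
            refine (Subgroup.eq_of_le_of_card_ge (zpowers_le.2 hy'L) ?_).ge
            rw [Nat.card_zpowers, Nat.card_zpowers, hoy, orderOf_eq_prime (hLl y' hy'L) hy'1]
          exact hle hw'
        exact (mem_powers_iff_mem_zpowers.2 h1)
      refine ⟨e * g₀ ^ j, mul_mem he.1 (pow_mem hg₀U j), ?_⟩
      rw [show e * g₀ ^ j * z * (e * g₀ ^ j)⁻¹ = e * (g₀ ^ j * z * (g₀ ^ j)⁻¹) * e⁻¹ by group, hgi, hj]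
      group
  have hinj : Set.InjOn (fun p : G × G => p.1 * p.2) (OR ×ˢ (L : Set G)) := by
    rintro ⟨a, w⟩ ⟨⟨e, he, rfl⟩, hw⟩ ⟨a', w'⟩ ⟨⟨e', he', rfl⟩, hw'⟩ (hp : e * z * e⁻¹ * w = e' * z * e'⁻¹ * w')
    have hfix : ∀ {e : G}, e ∈ fixR t u → e * z * e⁻¹ ∈ fixR t u := fun he =>
      mul_mem (mul_mem he hz) (inv_mem he)
    have hR : (e' * z * e'⁻¹)⁻¹ * (e * z * e⁻¹) ∈ fixR t u := mul_mem (inv_mem (hfix he')) (hfix he)
    have hd : (e' * z * e'⁻¹)⁻¹ * (e * z * e⁻¹) = w' * w⁻¹ := by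
      rw [eq_mul_inv_iff_mul_eq, mul_assoc, hp]
      group
    have h1 : w' * w⁻¹ = 1 := by
      have h2 := hLinv _ (mul_mem hw' (inv_mem hw))
      rw [← hd] at h2 ⊢
      rw [(c.hyp.mem_fixR.1 hR).2.symm.eq, mul_inv_cancel_right] at h2
      exact eq_one_of_odd c.hyp.odd_fixR hR (mul_eq_one_iff_eq_inv.2 h2)
    rw [h1, inv_mul_eq_one] at hd
    exact Prod.ext hd.symm (mul_inv_eq_one.1 h1).symm
  have hncard : {x : G | ∃ k ∈ U, k * z * k⁻¹ = x}.ncard = l * OR.ncard := by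
    have h1 : Nat.card (↥((fun p : G × G => p.1 * p.2) '' (OR ×ˢ (L : Set G)))) = Nat.card ↥(OR ×ˢ (L : Set G)) :=
      Nat.card_image_of_injOn hinj
    rw [horb, ← Nat.card_coe_set_eq, h1, Nat.card_coe_set_eq, Set.ncard_prod, mul_comm,
      ← Nat.card_coe_set_eq (L : Set G)]
    change Nat.card ↥L * _ = _
    rw [Nat.card_zpowers, hoy]
  have hcardU := c.card_eq_of_orbit hzY hz ho inf_le_left le_rfl hncard
  obtain ⟨m, b, q, hm, -, -, hU', -, χ, hχ, hdeg, δ, -, hδ⟩ := c.block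
  have hw := c.weights_le hzY hz ho (hXU (zpowers_le.2 hyX hy'L)) (hcommX z hzX y' (zpowers_le.2 hyX hy'L))
    (hLinv y' hy'L) (hLl y' hy'L) hy'1 hgy' hgz hχ hdeg hδ
  set a₀ := Nat.card ↥⁅U ⊓ centralizer ({z} : Set G), zpowers u⁆
  have hmb : m * b = l * a₀ := by
    refine Nat.eq_of_mul_eq_mul_right (Nat.card_pos (α := ↥(fixR t u))) ?_
    rw [← hU', hcardU, mul_assoc]
  have hb : b ≤ l * a₀ := hmb ▸ Nat.le_mul_of_pos_left b (by obtain ⟨j, rfl⟩ := hm; omega)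
  have := c.three_le
  rw [mul_assoc] at hw
  omega

end Ctx

end Cfsg.Agent.Invol.GW.Klein
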